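/-
`S₄`-free groups, part D: existence of configurations.
-/
import Cfsg.Agent.Sig.S4C
import Cfsg.Agent.Transfer.Section
set_option autoImplicit false
set_option linter.unusedSectionVars false

namespace CF.Sig
open Subgroup Cfsg CF.BG
open CF.Loc (Inv)
open CF.Transfer (involves_trans involves_of_surjective involves_of_injective involves_self)
open scoped commutatorElement Pointwise

universe u
variable {G : Type u} [Group G]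

/-- `S₃`-free with good nonabelian simple sections -/
structure Fr3 (H : Subgroup G) : Prop where
  inv : ¬ Inv 3 H
  gd : ∀ (X : Type u) [Group X] [Finite X], IsSimpleGroup X → ¬ IsMulCommutative X → Involves X H → Gd X

variable [Finite G] {A B C D E F H K L M N O P Q R S T U V W X Y Z : Subgroup G} {k : ℕ} {x y g a : G}

theorem Fr3.mono (h : Fr3 H) (a : K ≤ H) : Fr3 K :=
  ⟨fun i => h.inv (i.mono a), fun X _ _ s c i => h.gd X s c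
    (involves_trans i (involves_of_injective _ (inclusion_injective a)))⟩

protected theorem Fr3.qt (h : Fr3 H) (n : H ≤ 𝐍 W) : Fr3 (qt W H) :=
  ⟨fun i => h.inv (i.of_map (L := H.subgroupOf (𝐍 W)) (by norm_num) (qmk _)).of_subgroupOf,
    fun X _ _ s c i => h.gd X s c (involves_trans i (involves_of_surjective _ (qtHom_surj n)))⟩

theorem Fr3.smp (h : Fr3 H) (s : Smp K) (a : K ≤ H) : Gd K :=
  h.gd K s.simple (fun c => s.nab (Abel.of_comm c)) (involves_of_injective _ (inclusion_injective a))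

theorem DK1 (h3 : ¬ Inv 3 H) (a : Abelem 2 A) (hA : A ≤ H) (hK : K ≤ H)
    (hc : ∀ x ∈ A, x ∉ 𝐍 K → cj x K ≤ 𝐂 K) (nA : ¬ A ≤ 𝐍 K) (hO : O ≤ K) (o : PiGrp {2}ᶜ O)
    (n : A ⊓ 𝐍 K ≤ 𝐍 O) (hT : T ≤ K) (tM : T ≤ M) (c : ¬ ⁅O, T⁆ ≤ M) :
    ∃ B L, DT 1 A B L ∧ L ≤ H ∧ ¬ L ≤ M := by
  have l : orbJ A O ≤ H := orbJ_le_iff.2 fun x hx => cj_le_of_mem (hA hx) (hO.trans hK)
  have o' : PiGrp {2}ᶜ (orbJ A O) := by
    refine piGrp_sSup (L := orbJ A O) ?_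
    rintro _ ⟨⟨x, hx⟩, rfl⟩
    refine ⟨⟨cj_le_orbJ hx O, orbJ_le_iff.2 fun y hy => ?_⟩, o.cj x⟩
    have h1 : x⁻¹ * y ∈ A := mul_mem (inv_mem hx) hy
    have e : cj y O = cj x (cj (x⁻¹ * y) O) := by rw [cj_cj, mul_inv_cancel_left]
    change cj y O ≤ 𝐍 (cj x O)
    by_cases h2 : x⁻¹ * y ∈ 𝐍 K
    · rw [e, cj_of_norm (n ⟨h1, h2⟩)]; exact le_norm_self _
    · rw [e, ← cj_norm]
      exact cj_mono _ (norm_of_cent (cent_mono (hc _ h1 h2) (cj_mono _ hO) hO))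
  obtain ⟨B, L, d, l', c'⟩ := D_odd (M := M) h3 a o' (norm_orbJ A O) hA l fun e => c (by
    obtain ⟨b, hb, nb⟩ := SetLike.not_le_iff_exists.1 nA
    refine commutator_le.2 fun x hx t ht => ?_
    have h1 : ⁅x, b⁆ ∈ M := e (commutator_mem_commutator (le_orbJ A O hx) hb)
    have h2 : t * (b * x⁻¹ * b⁻¹) = b * x⁻¹ * b⁻¹ * t :=
      mem_cent.1 (hc b hb nb (conj_mem_cj.2 (hO (inv_mem hx)))) t (hT ht)
    have e1 : ⁅x, t⁆ = ⁅x, b⁆ * t * ⁅x, b⁆⁻¹ * t⁻¹ := by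
      simp only [commutatorElement_def]
      calc x * t * x⁻¹ * t⁻¹ = x * (t * (b * x⁻¹ * b⁻¹)) * (b * x⁻¹ * b⁻¹)⁻¹ * x⁻¹ * t⁻¹ := by group
        _ = _ := by rw [h2]; group
    rw [e1]
    exact mul_mem (mul_mem (mul_mem h1 (tM ht)) (inv_mem h1)) (inv_mem (tM ht)))
  exact ⟨B, L, d, l'.trans (sup_le l hA), c'⟩

theorem Smp.le_of_comm_odd (s : Smp K) (t : Syl 2 T K) (tM : T ≤ M)
    (h : ∀ x ∈ K, PiElt {2}ᶜ x → ⁅zpowers x, T⁆ ≤ M) : K ≤ M := by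
  have tl : T ≤ M ⊓ K := le_inf tM t.le
  have l : orbJ (M ⊓ K) T ≤ M ⊓ K := orbJ_le_iff.2 fun x hx => cj_le_of_mem hx tl
  have n : K ≤ 𝐍 (orbJ (M ⊓ K) T) := by
    refine le_of_forall_syl fun p hp _ => ?_
    by_cases h2 : p = 2
    · subst h2; exact ⟨T, t, tl.trans (norm_orbJ _ _)⟩
    obtain ⟨P, hP⟩ := exists_syl p K
    refine ⟨P, hP, fun x hx => mem_norm_of_cj_le (cj_le_iff.2 (orbJ_le_iff.2 fun m hm => ?_))⟩
    have o : PiElt {2}ᶜ (m⁻¹ * x * m⁻¹⁻¹) := ((hP.pi.of_single_ne h2).elt hx).conj _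
    have hx' : m⁻¹ * x * m⁻¹⁻¹ ∈ K := mul_mem (mul_mem (inv_mem hm.2) (hP.le hx)) (inv_mem (inv_mem hm.2))
    have l' : cj (m⁻¹ * x * m⁻¹⁻¹) T ≤ M ⊓ K := le_inf (fun y hy => by
      obtain ⟨z, hz, rfl⟩ := mem_cj_iff.1 hy
      have := mul_mem (h _ hx' o (commutator_mem_commutator (mem_zpowers _) hz)) (tM hz)
      rwa [commutatorElement_def, inv_mul_cancel_right] at this) (cj_le_of_mem hx' t.le)
    obtain ⟨m', hm', e⟩ := (t.of_le tl inf_le_right).syl_conj ((t.cj_of_mem hx').of_le l' inf_le_right)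
    rw [← cj_le_iff, cj_cj, show x * m = m * (m⁻¹ * x * m⁻¹⁻¹) by group, ← cj_cj, e, cj_cj]
    exact cj_le_orbJ (mul_mem hm hm') T
  rcases s.eq_or ⟨l.trans inf_le_right, n⟩ with e | e
  · exact absurd (eq_bot_mono e (le_orbJ _ _)) (s.syl_ne_bot t)
  · exact e.ge.trans (l.trans inf_le_left)

theorem Gn.sup_cent (h : Gn k ⊥ A L) (b : PiGrp {2} B) (c : L ≤ 𝐂 B) : Gn k ⊥ (A ⊔ B) (L ⊔ B) := by
  obtain ⟨g, hg, e⟩ := h.gen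
  obtain ⟨r, h1, hb⟩ := h.big
  refine ⟨⟨g, mem_sup_left hg, ?_⟩, r, h1, fun N _ n i x hx o => ?_⟩
  · rw [cj_sup, cj_of_cent (c hg), e]
    simp only [sup_assoc, sup_left_comm B, sup_idem]
  · exact hb N bot_le (le_sup_left.trans n) (fun d => i (d.trans (relIndex_dvd_of_norm le_sup_left n)))
      x (Ev.of_sup (ev_self _) b (norm_of_cent' c) x hx o) o

theorem exists_dg (hc : ∀ x ∈ A, x ≠ 1 → cj x K ≤ 𝐂 K) (hy : y ∈ K) (hX : y ∈ X) (nX : A ≤ 𝐍 X) :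
    ∃ n ∈ X ⊓ 𝐂 A, y⁻¹ * n ∈ 𝐂 K := by
  obtain ⟨n, h1, h2, h3, -⟩ := exists_orbit_prod (X := A) (C := 𝐂 K) (d := y)
    (fun x hx w hw => by
      by_cases e : w⁻¹ * x = 1
      · rw [inv_mul_eq_one.1 e]
      have := mem_cent.1 (hc _ (mul_mem (inv_mem hw) hx) e (conj_mem_cj.2 hy)) y hy
      rw [Commute, SemiconjBy]
      calc x * y * x⁻¹ * (w * y * w⁻¹) = w * (w⁻¹ * x * y * (w⁻¹ * x)⁻¹ * y) * w⁻¹ := by group
        _ = _ := by rw [← this]; group)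
    (fun x hx => by
      by_cases e : x = 1
      · left; simp [e]
      · exact Or.inr (hc x hx e (conj_mem_cj.2 hy)))
  exact ⟨n, ⟨h3 X hX nX, h1⟩, h2⟩

theorem DR.diag {A₀ A₁ : Subgroup G} (r : DR k (𝐂 K) A₀ (A₀ ⊓ 𝐂 K) L) (l : L ≤ K ⊔ 𝐂 K)
    (p : DProd A₀ A₁ A) (a : Abelem 2 A) (hA : A ≤ H) (hK : K ≤ H)
    (hc : ∀ x ∈ A₁, x ≠ 1 → cj x K ≤ 𝐂 K) :
    ∃ B L₀, DT k A B (L₀ ⊔ A₁) ∧ L₀ ≤ H ∧ 𝐂 K ⊔ L₀ = L := by
  have a0 := a.le p.left_le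
  have c0 : A₁ ≤ 𝐂 (A₀ ⊓ 𝐂 K) := cent_mono p.cent le_rfl inf_le_left
  obtain ⟨L₀, g0, hX, e⟩ := r.gn.lift (X := H ⊓ 𝐂 (A₀ ⊓ 𝐂 K) ⊓ 𝐂 A₁) r.norm a0.pi
    (le_inf (le_inf (p.left_le.trans hA) (a0.abel.cent le_rfl inf_le_left)) p.cent') fun g hg => by
      obtain ⟨y, hy, c, hc', e⟩ := (mem_sup_norm (norm_cent (le_norm_self K))).1 (l hg)
      obtain ⟨n, h1, h2⟩ := exists_dg (X := H ⊓ 𝐂 (A₀ ⊓ 𝐂 K)) hc hy
        ⟨hK hy, cent_symm inf_le_right hy⟩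
        (norm_inf_cent (norm_of_le (p.right_le.trans hA)) (norm_of_cent c0))
      have h4 : n⁻¹ * g ∈ 𝐂 K := by
        have := mul_mem (inv_mem h2) hc'
        rwa [mul_inv_rev, inv_inv, mul_assoc, e] at this
      refine ⟨n, ⟨?_, h1⟩, _, mem_sup_left h4, (mul_inv_cancel_left _ _).symm⟩
      have := mul_mem hg (inv_mem (r.d_le h4))
      rwa [mul_inv_rev, inv_inv, mul_inv_cancel_left] at this
  have c1 : L₀ ≤ 𝐂 A₁ := hX.trans inf_le_right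
  have g1 := g0.sup_cent (a.pi.le p.right_le) c1
  rw [p.sup] at g1
  have hB : A₀ ⊓ 𝐂 K ⊔ A₁ ≤ A := sup_le (inf_le_left.trans p.left_le) p.right_le
  refine ⟨A₀ ⊓ 𝐂 K ⊔ A₁, L₀, ⟨r.pos, hB, ?_, g1, sup_le (le_cent_sup (hX.trans (inf_le_left.trans
    inf_le_right)) c1) (a.abel.cent p.right_le hB)⟩, hX.trans (inf_le_left.trans inf_le_left), e⟩
  have e1 : A = A₀ ⊔ (A₀ ⊓ 𝐂 K ⊔ A₁) := by rw [← sup_assoc, sup_inf_self, p.sup]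
  rw [← r.idx]
  conv_lhs => rw [e1]
  rw [relIndex_sup_norm (Or.inl (norm_of_cent (a.abel.cent p.left_le hB))), ← inf_relIndex_right,
    sup_inf_left inf_le_left (Or.inr (norm_of_cent c0)), inf_comm A₁, p.inf, sup_bot_eq]

theorem DSz (s : Smp K) (z : SzA (qt (𝐂 K) K)) (inn : A ⊓ 𝐍 K ≤ K ⊔ 𝐂 K) (a : Abelem 2 A)
    (hA : A ≤ H) (hK : K ≤ H) (hc : ∀ x ∈ A, x ∉ 𝐍 K → cj x K ≤ 𝐂 K) (t : Syl 2 T K)
    (nT : A ⊓ 𝐍 K ≤ 𝐍 T) (tM : T ≤ M) (kM : ¬ K ≤ M) (c : ¬ A ⊓ 𝐍 K ≤ 𝐂 K) :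
    ∃ k B L, DT k A B L ∧ L ≤ H ∧ ¬ L ≤ M := by
  have a0 : Abelem 2 (A ⊓ 𝐍 K) := a.le inf_le_left
  have nK : K ≤ 𝐍 (𝐂 K) := norm_cent (le_norm_self K)
  have n0 : A ⊓ 𝐍 K ≤ 𝐍 (𝐂 K) := norm_cent inf_le_right
  have l0 : qt (𝐂 K) (A ⊓ 𝐍 K) ≤ qt (𝐂 K) K := (qt_le_qt_iff n0 nK).2 (sup_comm K _ ▸ inn)
  have t' := t.qt nK
  have nM : M ⊓ K ≤ 𝐍 (𝐂 K) := inf_le_right.trans nK
  obtain ⟨k, L', d, l', c'⟩ := z _ _ (𝐍 (qt (𝐂 K) (M ⊓ K))) t'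
    (t'.le_of_norm l0 (a0.pi.qt _) (Or.inl (qt_norm _ nT))) (a0.qt _)
    (fun e => c ((qt_eq_bot n0).1 e)) (norm_of_le (qt_mono _ (le_inf tM t.le))) fun e => by
      have h1 := norm_inf (norm_sup_of_qt nM nK e) (le_norm_self K)
      rw [sup_inf_right inf_le_right (Or.inr nM), inf_comm _ K, s.center, bot_sup_eq] at h1
      rcases s.eq_or ⟨inf_le_right, h1⟩ with e | e
      · exact s.syl_ne_bot t (eq_bot_mono e (le_inf tM t.le))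
      · exact kM (e.ge.trans inf_le_left)
  have r := d.qp n0
  rw [qp_bot] at r
  obtain ⟨A₁, p⟩ := a.exists_compl (inf_le_left : A ⊓ 𝐍 K ≤ A)
  have l1 : qp (𝐂 K) L' ≤ K ⊔ 𝐂 K := by rw [sup_comm, ← qp_qt nK]; exact qp_mono l'
  obtain ⟨B, L₀, d', l2, e⟩ := r.diag l1 p a hA hK fun x hx x1 => hc x (p.right_le hx) fun h =>
    x1 (eq_one_of_mem_bot p.inf ⟨⟨p.right_le hx, h⟩, hx⟩)
  refine ⟨k, B, _, d', sup_le l2 (p.right_le.trans hA), fun e' => c' ?_⟩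
  have l0 : L₀ ≤ qp (𝐂 K) L' := e ▸ le_sup_right
  have n1 : L₀ ≤ 𝐍 K := l0.trans (l1.trans (sup_le (le_norm_self K) (cent_le_norm K)))
  have := qt_norm (𝐂 K) (norm_inf (norm_of_le (le_sup_left.trans e')) n1)
  rwa [← qt_sup_left (norm_cent n1), e, qt_qp] at this

theorem DK (h : Fr3 H) (s : Smp K) (a : Abelem 2 A) (hA : A ≤ H) (hK : K ≤ H)
    (hc : ∀ x ∈ A, x ∉ 𝐍 K → cj x K ≤ 𝐂 K) (t : Syl 2 T K) (nT : A ⊓ 𝐍 K ≤ 𝐍 T) (tM : T ≤ M)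
    (kM : ¬ K ≤ M) (c : ¬ A ≤ 𝐂 K) :
    (∃ k B L, DT k A B L ∧ L ≤ H ∧ ¬ L ≤ M) ∨ (AbT K T ∧ A ≤ T ⊔ 𝐂 K) := by
  have sq : ∀ x ∈ A, x * x = 1 := fun x hx => by rw [← pow_two]; exact a.pow x hx
  rcases (h.smp s hK).amb with ⟨h1, h2⟩ | h1
  · left
    by_cases c0 : A ⊓ 𝐍 K ≤ 𝐂 K
    · obtain ⟨x, hx, o, c1⟩ : ∃ x ∈ K, PiElt {2}ᶜ x ∧ ¬ ⁅zpowers x, T⁆ ≤ M := by
        by_contra h3
        push Not at h3
        exact kM (s.le_of_comm_odd t tM h3)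
      exact ⟨1, DK1 h.inv a hA hK hc (fun n => c ((le_inf le_rfl n).trans c0)) (zpowers_le.2 hx)
        o.zpowers (norm_of_cent (cent_mono c0 le_rfl (zpowers_le.2 hx))) t.le tM c1⟩
    · exact DSz s (h2 _ (norm_cent (le_norm_self K)) (inf_comm K _ ▸ s.center))
        (fun x hx => h1 x hx.2 (sq x hx.1)) a hA hK hc t nT tM kM c0
  have b := h1 T t
  have i : A ⊓ 𝐍 K ≤ T ⊔ 𝐂 K := fun x hx =>
    b.mem_sup s h.inv hK (hA hx.1) (sq x hx.1) hx.2 (nT hx)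
  by_cases n : A ≤ 𝐍 K
  · exact Or.inr ⟨b, (le_inf le_rfl n).trans i⟩
  obtain ⟨O, hO, o, nO, c1⟩ : ∃ O, O ≤ K ∧ PiGrp {2}ᶜ O ∧ T ≤ 𝐍 O ∧ ¬ ⁅O, T⁆ ≤ M := by
    by_contra h3
    push Not at h3
    exact kM (b.gen M h3)
  exact Or.inl ⟨1, DK1 h.inv a hA hK hc n hO o (i.trans (sup_le nO (norm_of_cent
    (cent_mono le_rfl le_rfl hO)))) t.le tM c1⟩

theorem Comp.cj_cent (h : Comp K H) (hx : x ∈ H) (n : x ∉ 𝐍 K) : cj x K ≤ 𝐂 K :=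
  (h.cj_of_norm (le_norm_self H hx)).cent_of_ne h fun e => n (cj_eq_self.1 e)

theorem Comp.syl_infY (h : Comp K H) {p : ℕ} (s : Syl p S H) : Syl p (S ⊓ K) K := by
  have := (s.inf_normal (Lay_normal H)).inf_normal h.normal_Lay
  rwa [inf_assoc, inf_eq_right.2 h.le_Lay] at this

theorem Fr3.hd0 (h : Fr3 H) (hF : 𝐅 H = ⊥) : HD H := by
  intro A hA a a0
  obtain ⟨S, hS, l⟩ := exists_syl_le hA a.pi
  obtain ⟨K, k, c⟩ : ∃ K, Comp K H ∧ ¬ A ≤ 𝐂 K := by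
    by_contra h1
    push Not at h1
    exact a0 (eq_bot_mono hF (le_F_of_cent hA (by rw [hF]; exact comm_eq_bot.1 (commutator_bot_right _))
      h1))
  have s := k.smp hF
  rcases DK (M := S) h s a hA k.le (fun x hx => k.cj_cent (hA hx)) (k.syl_infY hS)
    (norm_inf (norm_of_le (inf_le_left.trans l)) inf_le_right) inf_le_left
    (fun e => s.not_sol (hS.pi.le e).sol) c with ⟨k, B, L, d, l', c'⟩ | ⟨b, i⟩
  · exact ⟨k, B, L, d, l', fun e => c' (e.trans l)⟩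
  have c1 : A ≤ 𝐂 (S ⊓ K) := i.trans (sup_le b.ab.abel (cent_anti inf_le_right))
  obtain ⟨O, hO, o, nO, c2⟩ : ∃ O, O ≤ K ∧ PiGrp {2}ᶜ O ∧ S ⊓ K ≤ 𝐍 O ∧ ¬ ⁅O, S ⊓ K⁆ ≤ 𝐂 A := by
    by_contra h3
    push Not at h3
    exact c (cent_symm (b.gen _ h3))
  have n : A ≤ 𝐍 O := i.trans (sup_le nO (norm_of_cent (cent_mono le_rfl le_rfl hO)))
  obtain ⟨B, L, d, l', c'⟩ := D_odd (M := A) h.inv a o n hA (hO.trans k.le) fun e => c2 (by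
    have : A ≤ 𝐂 O := comm_eq_bot'.1 (eq_bot_mono (o.inf_eq_bot' a.pi) (le_inf (comm_le_left n) e))
    exact (comm_le_left nO).trans (cent_symm this))
  exact ⟨1, B, L, d, l'.trans (sup_le (hO.trans k.le) hA), c'⟩

theorem Fr3.hd (h : Fr3 H) (h2 : 𝐎 {2} H = ⊥) : HD H := by
  intro A hA a a0
  have nO := (O_normal {2}ᶜ H).norm
  by_cases c : A ≤ 𝐂 (𝐎 {2}ᶜ H)
  swap
  · obtain ⟨B, L, d, l', c'⟩ := D_odd (M := A) h.inv a (O_pi _ H) (hA.trans nO) hA (O_le _ _) fun e =>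
      c (comm_eq_bot'.1 (eq_bot_mono ((O_pi _ H).inf_eq_bot' a.pi) (le_inf (comm_le_left (hA.trans nO)) e)))
    exact ⟨1, B, L, d, l'.trans (sup_le (O_le _ _) hA), c'⟩
  set H₁ := H ⊓ 𝐂 (𝐎 {2}ᶜ H) with hH₁
  have n1 : H₁ ⊴ H := normalIn_inf_cent nO
  set Z := 𝐎 {2}ᶜ H₁ with hZ
  have z : PiGrp {2}ᶜ Z := O_pi _ _
  have nZ : Z ⊴ H₁ := O_normal _ _
  have cZ : H₁ ≤ 𝐂 Z := inf_le_right.trans (cent_anti (O_le_O_of_normal n1 _))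
  have hA1 : A ≤ H₁ := le_inf hA c
  have nil : ∀ Y, Y ≤ H₁ → Z ≤ Y → PiGrp {2} (qt Z Y) → Nil Y := fun Y hY l p =>
    nil_of_qt_center (le_inf l (cent_symm (hY.trans cZ))) p.nil
  have hF : 𝐅 (qt Z H₁) = ⊥ := by
    rw [F_eq_O_of (p := 2) (O_qt_O _ _), ← qp_eq_self]
    have n2 := (O_normal {2} (qt Z H₁)).qp_of_qt nZ
    have n3 := nil _ n2.le (le_qp _) (by rw [qt_qp]; exact O_pi _ _)
    refine le_antisymm ?_ (le_qp _)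
    rw [← (n3.dprod {2}).sup]
    exact sup_le ((eq_bot_mono h2 ((O_le_O_of_normal n2 _).trans (O_le_O_of_normal n1 _))).le.trans
      bot_le) (O_le_O_of_normal n2 _)
  have aZ := hA1.trans nZ.norm
  obtain ⟨k, B', L', d, l, c'⟩ := ((h.mono n1.le).qt nZ.norm).hd0 hF _ (qt_mono Z hA1) (a.qt Z) fun e =>
    a0 (eq_bot_mono (z.inf_eq_bot' a.pi) (le_inf ((qt_eq_bot aZ).1 e) le_rfl))
  have r := d.qp aZ
  have l1 : qp Z L' ≤ H₁ := qp_le_of_le_qt nZ l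
  obtain ⟨L₀, g0, hX, e⟩ := r.gn.lift (X := qp Z L') r.norm a.pi r.le_L fun g hg =>
    ⟨g, ⟨hg, hg⟩, 1, one_mem _, (mul_one g).symm⟩
  have b := a.pi.le r.le
  have bl := r.le.trans hA1
  have nB : qp Z L' ≤ 𝐍 (A ⊓ qp Z B') := r.norm_sup.trans ((nil _ (sup_le nZ.le bl) le_sup_left (by
    rw [qt_sup_left (bl.trans nZ.norm)]; exact b.qt Z)).hall_norm
    ((SDProd.mk' (bl.trans nZ.norm) (z.inf_eq_bot' b)).hall_right z b))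
  refine ⟨k, _, L₀, ⟨r.pos, r.le, r.idx, g0, hX.trans (comm_eq_bot.1 (eq_bot_mono (z.inf_eq_bot' b)
    (le_inf r.cent (comm_le_right nB))))⟩, hX.trans (l1.trans n1.le), fun e' => c' ?_⟩
  rw [← qt_qp (K := Z) L', ← e, qt_sup_left (hX.trans r.norm)]
  exact qt_mono Z e'

end CF.Sig
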