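/-
`S₄`-free groups, part F: counting arguments.
-/
import Cfsg.Agent.TsY.SigS4D
set_option autoImplicit false
set_option linter.unusedSectionVars false

namespace CF.Sig
open Subgroup Cfsg CF.BG
open CF.PLocal (maxAb)
open scoped commutatorElement Pointwise

universe u
variable {G : Type u} [Group G]

/-- the first inequality in the definition of `E`-groups -/
def I1 (V S : Subgroup G) : Prop := ∀ R, R ≤ S → (∀ r ∈ R, r ^ 2 ∈ 𝐂 V) → ¬ R ≤ 𝐂 V →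
  (𝐂 V).relIndex R ^ 3 < (𝐂 R).relIndex V ^ 2

/-- the same for elementary abelian subgroups -/
def I2 (V S : Subgroup G) : Prop := ∀ R, R ≤ S → Abelem 2 R → ¬ R ≤ 𝐂 V →
  (𝐂 V).relIndex R ^ 3 < (𝐂 R).relIndex V ^ 2

variable [Finite G] {A B C D E F H K L M N O P Q R S T U V W X Y Z : Subgroup G} {k : ℕ} {x y g a : G}

theorem I1.mono (h : I1 V S) (a : T ≤ S) : I1 V T := fun R r => h R (r.trans a)

theorem I1.i2 (h : I1 V S) : I2 V S := fun R r a => h R r fun x hx => a.pow x hx ▸ one_mem _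

protected theorem I1.cj (h : I1 V S) (g : G) : I1 (cj g V) (cj g S) := fun R r s c => by
  obtain ⟨R, r', rfl⟩ : ∃ Y, Y ≤ S ∧ cj g Y = R := exists_map_of_le r
  rw [← cj_cent, ← cj_cent, relIndex_cj, relIndex_cj]
  refine h R r' (fun x hx => ?_) fun e => c (by rw [← cj_cent]; exact cj_mono g e)
  have := s _ (conj_mem_cj.2 hx)
  rwa [← cj_cent, conj_pow, conj_mem_cj] at this

theorem I1.sup_cent (h : I1 V T) (n : T ≤ 𝐍 V) : I1 V (T ⊔ 𝐂 V) := fun R r s c => by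
  have nT : T ≤ 𝐍 (𝐂 V) := norm_cent n
  have nR : R ≤ 𝐍 (𝐂 V) := r.trans (sup_le nT (le_norm_self _))
  have e : 𝐂 V ⊔ T ⊓ (𝐂 V ⊔ R) = 𝐂 V ⊔ R := by
    rw [← sup_inf_left le_sup_left (Or.inr nT), inf_eq_right.2 (sup_le le_sup_left (sup_comm T _ ▸ r))]
  have := h (T ⊓ (𝐂 V ⊔ R)) inf_le_left (fun x hx => by
    obtain ⟨c, hc, y, hy, rfl⟩ := (mem_sup_norm' nR).1 hx.2
    have := mul_mem (mul_mem hc (conj_mem_of_norm (nR hy) hc)) (s y hy)
    rwa [show c * (y * c * y⁻¹) * y ^ 2 = (c * y) ^ 2 by simp only [pow_two]; group] at this)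
    fun e' => c (le_sup_right.trans (e.ge.trans (sup_le le_rfl e')))
  rwa [← relIndex_sup_norm' (Or.inl (inf_le_left.trans nT)), ← relIndex_cent_sup (D := 𝐂 V) le_rfl, e,
    relIndex_sup_norm' (Or.inl nR), relIndex_cent_sup le_rfl] at this

theorem I2.le (h : I2 V S) (r : R ≤ S) (a : Abelem 2 R) :
    (𝐂 V).relIndex R ^ 3 ≤ (𝐂 R).relIndex V ^ 2 := by
  by_cases c : R ≤ 𝐂 V
  · rw [relIndex_eq_one.2 c]; exact Nat.pow_pos (relIndex_pos _ _)
  · exact (h R r a c).le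

theorem I2.sup (h : I2 V S) (h' : I2 W S) : I2 (V ⊔ W) S := fun R r a c => by
  have r1 : 𝐂 V ⊓ R ≤ S := inf_le_right.trans r
  have a1 : Abelem 2 (𝐂 V ⊓ R) := a.le inf_le_right
  have e1 := relIndex_inf_mul_relIndex (𝐂 W) (𝐂 V) R
  have e2 := relIndex_inf_mul_relIndex (𝐂 R) (𝐂 (𝐂 V ⊓ R)) (V ⊔ W)
  rw [inf_eq_left.2 (cent_anti inf_le_right)] at e2
  have i1 : (𝐂 R).relIndex V ≤ (𝐂 R).relIndex (𝐂 (𝐂 V ⊓ R) ⊓ (V ⊔ W)) :=
    relIndex_le_of_le_right (le_inf (cent_symm inf_le_left) le_sup_left) (relIndex_ne_zero' _ _)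
  have i2 : (𝐂 (𝐂 V ⊓ R)).relIndex W ≤ (𝐂 (𝐂 V ⊓ R)).relIndex (V ⊔ W) :=
    relIndex_le_of_le_right le_sup_right (relIndex_ne_zero' _ _)
  refine lt_of_lt_of_le ?_ (Nat.pow_le_pow_left (e2 ▸ Nat.mul_le_mul i1 i2) 2)
  rw [cent_sup, inf_comm, ← e1, mul_pow, mul_pow, mul_comm]
  by_cases c1 : R ≤ 𝐂 V
  · refine Nat.mul_lt_mul_of_le_of_lt (h.le r a) (h' _ r1 a1 fun e => c (le_cent_sup c1
      ((le_inf c1 le_rfl).trans e))) (Nat.pow_pos (relIndex_pos _ _))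
  · exact Nat.mul_lt_mul_of_lt_of_le (h R r a c1) (h'.le r1 a1) (Nat.pow_pos (relIndex_pos _ _))

theorem i2_orbJ (h : ∀ l ∈ L, I2 (cj l V) S) : I2 (orbJ L V) S := by
  obtain ⟨Y, -, ⟨h1, h2⟩, hm⟩ := exists_maximal (P := fun Y => I2 Y S ∧ Y ≤ orbJ L V) (H := ⊥)
    ⟨fun R _ _ c => absurd (comm_eq_bot.1 (commutator_bot_right _)) c, bot_le⟩
  rwa [← le_antisymm h2 (orbJ_le_iff.2 fun l hl => le_sup_right.trans
    (hm _ ⟨h1.sup (h l hl), sup_le h2 (cj_le_orbJ hl V)⟩ le_sup_left).le)]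

theorem relIndex_le_of_maxAb (hA : A ∈ maxAb 2 S) (w : W ≤ S) (a : Abelem 2 W) (b : B ≤ A) :
    (𝐂 A).relIndex W ≤ B.relIndex A * (𝐂 W).relIndex B := by
  have := CF.Loc.card_le_of_maxAb hA w a.isEA b
  rw [← card_inf_mul_relIndex (𝐂 A) W, inf_comm, mul_comm] at this
  exact Nat.le_of_mul_le_mul_right this (card_pos' _)

theorem I2.maxAb_le (h : I2 V S) (v : V ≤ S) (a : Abelem 2 V) (hA : A ∈ maxAb 2 S) : A ≤ 𝐂 V := by
  by_contra c
  have h1 := h A hA.1 (abelem_of_maxAb Nat.prime_two hA) c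
  have h2 := relIndex_le_of_maxAb hA v a le_rfl
  rw [relIndex_self, one_mul] at h2
  exact (h1.trans_le (Nat.pow_le_pow_left h2 2)).not_ge
    (Nat.pow_le_pow_right (relIndex_pos _ _) (by norm_num))

theorem I2.J_le (h : I2 V S) (v : V ≤ S) (a : Abelem 2 V) : 𝐉 2 S ≤ 𝐂 V :=
  CF.PLocal.thompson_le_iff.2 fun _ => h.maxAb_le v a

theorem I2.cent (h : I2 V S) (h' : I2 W T) (v : Abelem 2 V) (w : Abelem 2 W) (a : W ≤ S) (b : V ≤ T) :
    W ≤ 𝐂 V := by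
  by_contra c
  have h1 := h W a w c
  have h2 := h' V b v fun e => c (cent_symm e)
  have p1 := relIndex_pos (𝐂 V) W
  have p2 := relIndex_pos (𝐂 W) V
  generalize (𝐂 V).relIndex W = m at *
  generalize (𝐂 W).relIndex V = n at *
  have h3 : m < n := lt_of_pow_lt_pow_left₀ 2 (Nat.zero_le _)
    ((Nat.pow_le_pow_right p1 (by norm_num)).trans_lt h1)
  have h4 : n < m := lt_of_pow_lt_pow_left₀ 2 (Nat.zero_le _)
    ((Nat.pow_le_pow_right p2 (by norm_num)).trans_lt h2)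
  omega

theorem pair_count (X Y : Subgroup G) : PiGrp {2} Y → ♯⁅X, Y⁆ ≤ 2 →
    (𝐂 Y).relIndex X ≤ (𝐂 X).relIndex Y := by
  induction Y using card_induction with | _ Y ih
  intro p h
  by_cases c : Y ≤ 𝐂 X
  · rw [relIndex_eq_one.2 (cent_symm c)]; exact relIndex_pos _ _
  have lt := p.logn_lt (lt_of_le_of_ne (inf_le_right : 𝐂 X ⊓ Y ≤ Y) fun e => c (e.ge.trans inf_le_left))
  obtain ⟨L, h1, h2, h3⟩ := p.exists_logn_between (n := logn 2 (♯Y) - 1)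
    (inf_le_right : 𝐂 X ⊓ Y ≤ Y) (by omega) (by omega)
  have ne : L ≠ Y := fun e => by rw [e] at h3; omega
  obtain ⟨y, hy, hyL⟩ := SetLike.not_le_iff_exists.1 fun e => ne (le_antisymm h2 e)
  have l : L ⊔ zpowers y ≤ Y := sup_le h2 (zpowers_le.2 hy)
  have e : L ⊔ zpowers y = Y := p.eq_of_logn_le l (by
    have := (p.le l).logn_lt (lt_of_le_of_ne (le_sup_left : L ≤ L ⊔ zpowers y)
      fun e => hyL (e.ge (mem_sup_right (mem_zpowers y))))
    omega)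
  have i1 := ih L (card_lt (lt_of_le_of_ne h2 ne)) (p.le h2)
    ((card_le (commutator_mono le_rfl h2)).trans h)
  have i2 := (relIndex_cent1_le X y).trans ((card_le (commutator_mono le_rfl (zpowers_le.2 hy))).trans h)
  have i3 : 2 ≤ L.relIndex Y := by
    have := relIndex_pos L Y
    have : L.relIndex Y ≠ 1 := fun e => ne (le_antisymm h2 (relIndex_eq_one.1 e))
    omega
  calc (𝐂 Y).relIndex X = (𝐂 L ⊓ 𝐂₁ y).relIndex X := by rw [← e, cent_sup, cent_zpowers]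
    _ ≤ (𝐂 X).relIndex L * L.relIndex Y := relIndex_inf_le.trans (Nat.mul_le_mul i1 (i2.trans i3))
    _ = (𝐂 X).relIndex Y := by
      have := relIndex_inf_mul_relIndex (𝐂 X) L Y
      rw [inf_eq_left.2 h2] at this
      rw [this, ← inf_relIndex_right (𝐂 X) Y, le_antisymm (inf_le_inf_left _ h2) (le_inf inf_le_left h1)]

theorem sq_mem_cent (v : Abelem 2 V) (n : R ≤ 𝐍 V) (h : ⁅R, V⁆ ≤ 𝐂 R) (hx : x ∈ R) : x ^ 2 ∈ 𝐂 V :=
  mem_cent.2 fun y hy => by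
    have h1 := mem_cent.1 (h (commutator_mem_commutator hx hy)) x hx
    have h2 := v.pow _ (comm_le_right n (commutator_mem_commutator hx hy))
    have h3 : x * y = ⁅x, y⁆ * (y * x) := by simp only [commutatorElement_def]; group
    generalize ⁅x, y⁆ = c at h1 h2 h3
    calc y * x ^ 2 = c ^ 2 * (y * x) * x := by rw [h2, pow_two]; group
      _ = c * (x * y) * x := by rw [h3, pow_two]; group
      _ = x * (c * (y * x)) := by rw [← mul_assoc c, ← h1]; group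
      _ = x ^ 2 * y := by rw [← h3, pow_two, mul_assoc]

theorem Gn.two (h : Gn k ⊥ A L) (u : Abelem 2 U) (n : L ≤ 𝐍 U)
    (i : (𝐂 A).relIndex U < 4 ^ k * 4 ^ k) (w : W ≤ U) (nW : L ≤ 𝐍 W) :
    Ev L (𝐂 W) ∨ Ev L (centMod U W) := by
  by_contra c
  rw [not_or] at c
  have i1 := not_lt.1 fun i => c.1 (h.act0 (u.le w) nW bot_le i)
  have i2 := not_lt.1 fun i => c.2 (h.act (u.qt W) n nW (u.abel.le_norm w) bot_le i)
  have e := relIndex_inf_mul_relIndex (𝐂 A) (centMod A W) U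
  have i3 : (𝐂 A).relIndex W ≤ (𝐂 A).relIndex (centMod A W ⊓ U) := relIndex_le_of_le_right
    (le_inf (le_centMod.2 ⟨le_norm_self W, comm_le_left (h.le.trans nW)⟩) w) (relIndex_ne_zero' _ _)
  have i4 : (𝐂 A ⊓ centMod A W).relIndex U = (𝐂 A).relIndex U := by
    rw [← inf_relIndex_right, ← inf_relIndex_right (𝐂 A), inf_assoc, inf_left_comm, inf_eq_right.2
      (le_centMod.2 ⟨inf_le_right.trans (u.abel.le_norm w), (comm_eq_bot.2 inf_le_left).le.trans bot_le⟩)]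
  rw [← i4, ← e] at i
  exact i.not_ge (Nat.mul_le_mul (i1.trans i3) i2)

theorem Gn.top (h : Gn k ⊥ A L) (c : A ≤ 𝐂 V) (w : W ≤ orbJ L V) (nW : L ≤ 𝐍 W)
    (e : Ev L (centMod (orbJ L V) W)) : orbJ L V ≤ V ⊔ W := by
  have n : L ≤ 𝐍 (V ⊔ W) := (h.le_sup (norm_centMod (norm_orbJ L V) nW) e).trans (sup_le
    (norm_of_comm_le' (((commutator_mono le_rfl (sup_le (le_orbJ L V) w)).trans
      (comm_centMod_le _ _)).trans le_sup_right)) (norm_sup (norm_of_cent c) (h.le.trans nW)))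
  exact orbJ_le_iff.2 fun l hl => cj_le_of_norm (n hl) le_sup_left

theorem norm_orbJ_of (nQ : L ≤ 𝐍 Q) (n : Q ≤ 𝐍 V) : Q ≤ 𝐍 (orbJ L V) :=
  norm_iSup fun l => by rw [← cj_norm, ← cj_of_norm (nQ l.2)]; exact cj_mono _ n

theorem cent_orbJ_of (nQ : L ≤ 𝐍 Q) (n : Q ≤ 𝐂 V) : Q ≤ 𝐂 (orbJ L V) :=
  cent_symm (orbJ_le_iff.2 fun _ hl => cj_le_of_norm (norm_cent nQ hl) (cent_symm n))

theorem Gn.comm_cent (h : Gn k ⊥ A L) (u : Abelem 2 (orbJ L V))
    (i : (𝐂 A).relIndex (orbJ L V) < 4 ^ k * 4 ^ k) (c : A ≤ 𝐂 V) (p : PiGrp {2} Q) (nQ : L ≤ 𝐍 Q)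
    (n : Q ≤ 𝐍 V) (nc : ¬ L ≤ 𝐂 V) : ⁅orbJ L V, Q⁆ ≤ V ⊓ 𝐂 L := by
  have nU := norm_orbJ L V
  have qU := norm_orbJ_of nQ n
  have l := le_orbJ L V
  have nN := norm_commutator nU nQ
  have uV := u.abel.le_norm l
  rcases h.two u nU i (comm_le_left qU) nN with e | e
  · have c0 : L ≤ 𝐂 ⁅V, Q⁆ := (h.le_sup (norm_cent nN) e).trans (sup_le
      (cent_anti (commutator_mono l le_rfl)) (cent_mono c le_rfl (comm_le_left n)))
    refine le_trans (le_centMod.1 (orbJ_le_iff.2 fun x hx => cj_le_of_norm (norm_centMod nQ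
      (norm_of_cent c0) hx) (le_centMod.2 ⟨norm_comm_left _ _, le_rfl⟩))).2 ?_
    exact le_inf (comm_le_left n) (cent_symm c0)
  have h1 := qt_mono V (h.top c (comm_le_left qU) nN e)
  rw [qt_sup_left ((comm_le_left qU).trans uV), qt_comm uV n] at h1
  have h2 : orbJ L V ≤ V := by
    by_contra h3
    exact ((p.qt V).comm_lt (u.pi.qt V) (qt_norm V qU) fun e => h3 ((qt_eq_bot uV).1 e)).not_ge h1
  rw [le_antisymm h2 l] at nU
  exact absurd (h.le_of_norm (norm_cent nU) c) nc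

theorem count (hA : A ∈ maxAb 2 S) (h : Gn k ⊥ A L) (k0 : 0 < k) (p : PiGrp {2} S) (hQ : Q ≤ S)
    (nQ : L ≤ 𝐍 Q) (bA : B ≤ A) (bQ : B ≤ Q) (i : B.relIndex A = 2 ^ k) (n : S ≤ 𝐍 V) (j : I1 V S)
    (u : Abelem 2 (orbJ L V)) (uS : orbJ L V ≤ S) : L ≤ 𝐂 V := by
  by_contra nc
  have l := le_orbJ L V
  have nU := norm_orbJ L V
  have v := u.le l
  have b := (abelem_of_maxAb Nat.prime_two hA).le bA
  have c := j.i2.maxAb_le (l.trans uS) v hA
  have j2 : I2 (orbJ L V) Q := i2_orbJ fun x hx => by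
    have := ((j.mono hQ).cj x).i2
    rwa [cj_of_norm (nQ hx)] at this
  have i1 := relIndex_le_of_maxAb hA uS u bA
  rw [i] at i1
  have e4 : 4 ^ k = 2 ^ k * 2 ^ k := mul_pow 2 2 k
  have a1 : 1 < 2 ^ k := Nat.one_lt_two_pow k0.ne'
  have cB : ¬ B ≤ 𝐂 (orbJ L V) := fun e => nc ((h.le_sup (norm_cent nU) (h.act0 u nU bot_le (by
    rw [relIndex_eq_one.2 e] at i1; rw [e4]; nlinarith))).trans (sup_le (cent_anti l) c))
  have i2 : (𝐂 A).relIndex (orbJ L V) < 4 ^ k * 4 ^ k := by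
    have h1 := (j2 B bQ b cB).trans_le (Nat.pow_le_pow_left ((relIndex_le_of_le_left (cent_anti bA)
      (relIndex_ne_zero' _ _)).trans i1) 2)
    rw [e4]
    generalize (𝐂 (orbJ L V)).relIndex B = β at h1 i1
    generalize 2 ^ k = a at *
    have h2 : β < a * a := lt_of_mul_lt_mul_right (a := β ^ 2) (by nlinarith) (Nat.zero_le _)
    nlinarith [Nat.mul_le_mul_left a h2.le]
  have hN := h.comm_cent u i2 c (p.le hQ) nQ (hQ.trans n) nc
  generalize hU : orbJ L V = U at *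
  obtain ⟨x, hx, x1⟩ := exists_mem_ne_one fun e => cB (comm_eq_bot'.1 e)
  have hx' : zpowers x ≤ ⁅U, Q⁆ := zpowers_le.2 (commutator_mono le_rfl bQ hx)
  have aN := v.le (hN.trans inf_le_left)
  obtain ⟨N, d⟩ := aN.exists_compl hx'
  have nV : N ≤ V := d.right_le.trans (hN.trans inf_le_left)
  have cN : L ≤ 𝐂 N := cent_symm (d.right_le.trans (hN.trans inf_le_right))
  have uN : U ≤ 𝐍 N := u.abel.le_norm (nV.trans l)
  have rL : orbJ L B ≤ L := orbJ_le_iff.2 fun y hy => cj_le_of_mem hy (bA.trans h.le)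
  have rQ : orbJ L B ≤ Q := orbJ_le_iff.2 fun y hy => cj_le_of_norm (nQ hy) bQ
  have nR := norm_orbJ L B
  have rN := rL.trans (norm_of_cent cN)
  have nW : L ≤ 𝐍 (U ⊓ centMod (orbJ L B) N) := norm_inf nU (norm_centMod nR (norm_of_cent cN))
  rcases h.two u nU i2 inf_le_left nW with e | e
  swap
  · have h0 : U ≤ V ⊔ U ⊓ centMod (orbJ L B) N := by
      subst hU; exact h.top c inf_le_left nW e
    have h1 := (commutator_mono h0 le_rfl).trans
      (comm_sup_le ((comm_eq_bot'.2 (bA.trans c)).le.trans bot_le) ((commutator_mono inf_le_right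
      (le_orbJ L B)).trans (comm_centMod_le _ _)) (l.trans uN) (inf_le_left.trans uN))
    exact x1 (eq_one_of_mem_bot d.inf ⟨mem_zpowers x, h1 hx⟩)
  have c1 : V ⊓ centMod (orbJ L B) N ≤ 𝐂 (orbJ L B) := cent_symm (rL.trans ((h.le_sup (norm_cent nW)
    e).trans (sup_le (cent_anti (inf_le_inf_right _ l)) (cent_mono c le_rfl inf_le_left))))
  have cV : ⁅V, orbJ L B⁆ ≤ ⁅U, Q⁆ := commutator_mono l rQ
  have i3 := pair_count (qt N V) (qt N (orbJ L B)) ((p.le (rQ.trans hQ)).qt N) (by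
    rw [← qt_comm (l.trans uN) rN]
    refine (card_le (qt_mono N cV)).trans ?_
    rw [card_qt d.normal_right.norm, d.sdprod.relIndex_right, aN.card_zpowers (hx' (mem_zpowers x)) x1])
  rw [relIndex_cent_qt rN (l.trans uN), relIndex_cent_qt (l.trans uN) rN] at i3
  have i4 : (𝐂 (orbJ L B)).relIndex V ≤ (𝐂 V).relIndex (orbJ L B) := by
    refine le_trans ?_ (i3.trans (relIndex_le_of_le_left (le_centMod.2 ⟨norm_of_cent (cent_anti nV),
      (comm_eq_bot.2 le_rfl).le.trans bot_le⟩) (relIndex_ne_zero' _ _)))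
    rw [← inf_relIndex_left V (centMod _ _)]
    exact relIndex_le_of_le_left c1 (relIndex_ne_zero' _ _)
  have i5 := j _ (rQ.trans hQ) (fun y hy => sq_mem_cent v ((rQ.trans hQ).trans n) (by
    rw [commutator_comm]; exact cV.trans (hN.trans (inf_le_right.trans (cent_anti rL)))) hy)
    fun e => cB ((le_orbJ L B).trans (hU ▸ cent_orbJ_of nR e))
  exact (i5.trans_le (Nat.pow_le_pow_left i4 2)).not_ge
    (Nat.pow_le_pow_right (relIndex_pos _ _) (by norm_num))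

theorem I2.ineq (h : I2 V S) (r : R ≤ S) (a : Abelem 2 R) (c : ¬ R ≤ 𝐂 V) (l : R ≤ W) (u : U ≤ V) :
    (𝐂 V).relIndex R ^ 3 < ((𝐂 W).relIndex U * U.relIndex V) ^ 2 := by
  refine (h R r a c).trans_le (Nat.pow_le_pow_left ?_ 2)
  have := relIndex_inf_mul_relIndex (𝐂 W) U V
  rw [inf_eq_left.2 u] at this
  rw [this]
  exact relIndex_le_of_le_left (inf_le_left.trans (cent_anti l)) (relIndex_ne_zero' _ _)

theorem Gn.step1 (h : Gn k ⊥ V L) (k0 : 0 < k) (v : Abelem 2 V) (p : PiGrp {2} Q) (nQ : L ≤ 𝐍 Q)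
    (n : Q ≤ 𝐍 V) (j : I1 V Q) (i : Q.relIndex V ≤ 2 ^ k) : Ev L (𝐂 Q) := by
  obtain ⟨g, hg, e⟩ := h.gen
  have j' := j.cj g
  have eQ := cj_of_norm (nQ hg)
  have n' : Q ≤ 𝐍 (cj g V) := by rw [← cj_norm, ← eQ]; exact cj_mono g n
  have i' : Q.relIndex (cj g V) ≤ 2 ^ k := by rwa [← eQ, relIndex_cj]
  have v' := v.cj g
  have l' := cj_le_of_mem hg h.le
  rw [eQ] at j'
  generalize cj g V = V' at *
  have c1 : ⁅Q, V⁆ ≤ V ⊓ Q := le_inf (comm_le_right n) (comm_le_left (h.le.trans nQ))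
  have c2 : ⁅Q, V'⁆ ≤ V' ⊓ Q := le_inf (comm_le_right n') (comm_le_left (l'.trans nQ))
  have wQ : V ⊓ Q ⊔ V' ⊓ Q ≤ Q := sup_le inf_le_right inf_le_right
  have c3 : ⁅Q, L⁆ ≤ V ⊓ Q ⊔ V' ⊓ Q := e ▸ comm_sup_le' (c1.trans le_sup_left) (c2.trans le_sup_right)
    (norm_of_comm_le ((commutator_mono wQ le_rfl).trans (c1.trans le_sup_left)))
    (norm_of_comm_le ((commutator_mono wQ le_rfl).trans (c2.trans le_sup_right)))
  have cZ : L ≤ 𝐂 (V ⊓ Q ⊓ (V' ⊓ Q)) := e ▸ sup_le (v.abel.cent le_rfl (inf_le_left.trans inf_le_left))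
    (v'.abel.cent le_rfl (inf_le_right.trans inf_le_left))
  have nZ := norm_of_cent cZ
  have z1 := (inf_le_left : V ⊓ Q ≤ V).trans (h.le.trans nZ)
  have z2 := (inf_le_left : V' ⊓ Q ≤ V').trans (l'.trans nZ)
  by_cases i1 : (centMod V (V ⊓ Q ⊓ (V' ⊓ Q))).relIndex (V ⊓ Q ⊔ V' ⊓ Q) < 4 ^ k
  · have := h.act (by
      rw [qt_sup z1 z2]
      refine ((v.le inf_le_left).qt _).sup ((v'.le inf_le_left).qt _) ((qt_cent_iff z1 z2).2
        (le_inf ?_ ((commutator_mono inf_le_right inf_le_left).trans c2)))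
      rw [commutator_comm]
      exact (commutator_mono inf_le_right inf_le_left).trans c1)
      (norm_of_comm_le ((commutator_mono wQ le_rfl).trans c3)) nZ (sup_le z1 z2) bot_le i1
    intro x hx o
    have hx' := zpowers_le.2 hx
    refine zpowers_le.1 (cent_of_stable (o.zpowers.coprime' (p.le wQ)) ((commutator_mono le_rfl
      hx').trans c3) (cent_of_stable (o.zpowers.coprime' (p.le (inf_le_left.trans inf_le_right))) ?_
      (hx'.trans cZ)))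
    rw [commutator_comm]
    exact (le_centMod.1 (zpowers_le.2 (this x hx o))).2
  have i2 : 4 ^ k ≤ (𝐂 V).relIndex (V' ⊓ Q) := by
    have l1 : V ⊓ Q ⊔ V' ⊓ Q ⊓ 𝐂 V ≤ centMod V (V ⊓ Q ⊓ (V' ⊓ Q)) := le_centMod.2 ⟨sup_le z1
      (inf_le_left.trans z2), (comm_eq_bot.2 (sup_le (v.abel.cent inf_le_left le_rfl)
      inf_le_right)).le.trans bot_le⟩
    refine (not_lt.1 i1).trans ((relIndex_le_of_le_left l1 (relIndex_ne_zero' _ _)).trans ?_)
    have e1 : V ⊓ Q ⊔ V' ⊓ Q = V ⊓ Q ⊔ V' ⊓ Q ⊓ 𝐂 V ⊔ V' ⊓ Q := by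
      rw [sup_assoc, sup_eq_right.2 (inf_le_left : V' ⊓ Q ⊓ 𝐂 V ≤ _)]
    conv_lhs => rw [e1]
    rw [relIndex_sup_norm' (Or.inr ((sup_le inf_le_right (inf_le_left.trans inf_le_right)).trans
      (norm_inf n' (le_norm_self Q)))), ← inf_relIndex_left (V' ⊓ Q) (𝐂 V)]
    exact relIndex_le_of_le_left le_sup_right (relIndex_ne_zero' _ _)
  have a1 : 1 < 2 ^ k := Nat.one_lt_two_pow k0.ne'
  rw [show 4 ^ k = 2 ^ k * 2 ^ k from mul_pow 2 2 k] at i2
  have i3 := j.i2.ineq inf_le_right (v'.le (inf_le_left : V' ⊓ Q ≤ V')) (fun e => by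
    rw [relIndex_eq_one.2 e] at i2; nlinarith) inf_le_left (inf_le_left : V ⊓ Q ≤ V)
  have i4 := fun c => j'.i2.ineq inf_le_right (v.le (inf_le_left : V ⊓ Q ≤ V)) c inf_le_left
    (inf_le_left : V' ⊓ Q ≤ V')
  rw [inf_relIndex_left] at i3 i4
  have i5 := i3.trans_le (Nat.pow_le_pow_left (Nat.mul_le_mul_left _ i) 2)
  have i6 := fun c => (i4 c).trans_le (Nat.pow_le_pow_left (Nat.mul_le_mul_left _ i') 2)
  have i7 : (𝐂 V).relIndex (V' ⊓ Q) < (𝐂 V').relIndex (V ⊓ Q) := by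
    generalize (𝐂 V).relIndex (V' ⊓ Q) = b at i2 i5
    generalize (𝐂 V').relIndex (V ⊓ Q) = c at i5
    refine lt_of_pow_lt_pow_left₀ 2 (Nat.zero_le _) (lt_of_mul_lt_mul_right (a := b) ?_ (Nat.zero_le _))
    calc b ^ 2 * b = b ^ 3 := by ring
      _ < (c * 2 ^ k) ^ 2 := i5
      _ = c ^ 2 * (2 ^ k * 2 ^ k) := by ring
      _ ≤ _ := Nat.mul_le_mul_left _ i2
  have i8 := i6 fun e => by
    rw [relIndex_eq_one.2 e] at i7
    have := relIndex_pos (𝐂 V) (V' ⊓ Q)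
    omega
  refine absurd i8 (not_lt.2 ?_)
  generalize (𝐂 V).relIndex (V' ⊓ Q) = b at i2 i7
  calc (b * 2 ^ k) ^ 2 = b ^ 2 * (2 ^ k * 2 ^ k) := by ring
    _ ≤ b ^ 2 * b := Nat.mul_le_mul_left _ i2
    _ = b ^ 3 := by ring
    _ ≤ _ := Nat.pow_le_pow_left i7.le 3

end CF.Sig
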