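/-
`S₄`-free groups, part H: the three factorizations and the strongly closed abelian subgroup.
-/
import Cfsg.Agent.TsY.SigS4G
import Cfsg.Agent.TsY.SigS4E
import Cfsg.Agent.Transfer.Section2
set_option autoImplicit false
set_option linter.unusedSectionVars false

namespace CF.Sig
open Subgroup Cfsg CF.BG
open CF.PLocal (maxAb thompson_le thompson_le_iff thompson_eq_of_le le_thompson
  normalizer_le_normalizer_thompson)
open CF.Transfer (involves_trans involves_subgroup involves_of_surjective involves_of_injective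
  involves_of_equiv IsCharPGroup)
open scoped commutatorElement Pointwise

universe u
variable {G : Type u} [Group G] {G' : Type*} [Group G']

/-- the inequalities in the definition of `E`-groups -/
def E1 {G : Type*} [Group G] (V T : Subgroup G) : Prop :=
  ∀ R, R ≤ T → ⁅R, R⁆ ≤ 𝐂 V → (∀ r ∈ R, r ^ 2 ∈ 𝐂 V) → ¬ R ≤ 𝐂 V →
    (𝐂 V).relIndex R ^ 3 < (𝐂 R).relIndex V ^ 2 ∧ (𝐂 V).relIndex R < ♯⁅V, R⁆

/-- `E`-groups -/
def EG {G : Type*} [Group G] (T : Subgroup G) : Prop := ∀ V, V ⊴ T → Abelem 2 V → E1 V T → T ≤ 𝐂 V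

/-- the subgroup `Ĵ` -/
def Jh {G : Type*} [Group G] (S : Subgroup G) : Subgroup G := sSup {U | U ≤ S ∧ EG U ∧ 𝐉 2 S ≤ U}

variable [Finite G] {A B C D E F H K L M N O P Q R S T U V W X Y Z : Subgroup G} {k : ℕ} {x y g a : G}
  {f : G →* G'}

theorem relIndex_cent_map (hf : Function.Injective f) (V R : Subgroup G) :
    (𝐂 (V.map f)).relIndex (R.map f) = (𝐂 V).relIndex R := by
  rw [← inf_relIndex_left, ← map_inf_cent hf, relIndex_map_map_of_injective _ _ hf, inf_relIndex_left]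

theorem mem_cent_map (hf : Function.Injective f) : f x ∈ 𝐂 (V.map f) ↔ x ∈ 𝐂 V := by
  rw [← zpowers_le, ← zpowers_le, ← MonoidHom.map_zpowers, map_cent_iff hf]

theorem e1_map_iff (hf : Function.Injective f) : E1 (V.map f) (T.map f) ↔ E1 V T := by
  constructor
  · intro h R r a b c
    have := h _ (map_mono r) (by rwa [← map_commutator, map_cent_iff hf]) (by
      rintro _ ⟨x, hx, rfl⟩
      rw [← map_pow, mem_cent_map hf]; exact b x hx) (by rwa [map_cent_iff hf])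
    rwa [relIndex_cent_map hf, relIndex_cent_map hf, ← map_commutator, card_map hf] at this
  · intro h R r a b c
    obtain ⟨R, r', rfl⟩ := exists_map_of_le r
    rw [relIndex_cent_map hf, relIndex_cent_map hf, ← map_commutator, card_map hf]
    refine h R r' (by rwa [← map_commutator, map_cent_iff hf] at a) (fun x hx => ?_)
      (by rwa [map_cent_iff hf] at c)
    rw [← mem_cent_map hf, map_pow]; exact b _ (mem_map_of_mem f hx)

theorem eg_map_iff (hf : Function.Injective f) : EG (T.map f) ↔ EG T := by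
  constructor
  · exact fun h V n a e => (map_cent_iff hf).1 (h _ (n.map f) (a.map f) ((e1_map_iff hf).2 e))
  · intro h V n a e
    obtain ⟨V, -, rfl⟩ := exists_map_of_le n.le
    exact map_cent (h V ((normalIn_map_iff hf).1 n) ((abelem_map_iff hf).1 a) ((e1_map_iff hf).1 e)) f

theorem eg_top : EG (⊤ : Subgroup G) ↔ IsEGroup G := by
  have key : ∀ V R : Subgroup G, ((𝐂 V).relIndex R ^ 3 < (𝐂 R).relIndex V ^ 2 ∧
      (𝐂 V).relIndex R < ♯⁅V, R⁆) ↔ (♯V ^ 2 * ♯(R ⊓ 𝐂 V) ^ 3 > ♯R ^ 3 * ♯(V ⊓ 𝐂 R) ^ 2 ∧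
      ♯⁅V, R⁆ * ♯(R ⊓ 𝐂 V) > ♯R) := fun V R => by
    have e1 := card_inf_mul_relIndex (𝐂 V) R
    have e2 := card_inf_mul_relIndex (𝐂 R) V
    rw [inf_comm] at e1 e2
    have p1 := card_pos' (R ⊓ 𝐂 V)
    have p2 := card_pos' (V ⊓ 𝐂 R)
    rw [← e1, ← e2]
    generalize ♯(R ⊓ 𝐂 V) = a at *
    generalize ♯(V ⊓ 𝐂 R) = b at *
    rw [gt_iff_lt, gt_iff_lt, mul_comm _ a, Nat.mul_lt_mul_left p1, show ∀ x, (a * x) ^ 3 * b ^ 2 =
      a ^ 3 * b ^ 2 * x ^ 3 from fun x => by ring, show ∀ x, (b * x) ^ 2 * a ^ 3 =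
      a ^ 3 * b ^ 2 * x ^ 2 from fun x => by ring, Nat.mul_lt_mul_left (by positivity)]
  constructor
  · intro h V n a e x hx
    exact mem_center_iff.2 fun g => (mem_cent.1 (h V (normalIn_top.2 n)
      (Abelem.of_isEA Nat.prime_two a) (fun R _ a b c => (key V R).2 (e R a b c)) (mem_top g)) x hx).symm
  · intro h V n a e x _
    exact mem_cent.2 fun y hy => (mem_center_iff.1 (h V (normalIn_top.1 n) a.isEA
      (fun R a b c => (key V R).1 (e R le_top a b c)) hy) x).symm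

theorem Jh_le (S : Subgroup G) : Jh S ≤ S := sSup_le fun _ h => h.1

theorem EG.le_Jh (h : EG U) (a : U ≤ S) (b : 𝐉 2 S ≤ U) : U ≤ Jh S := le_sSup ⟨a, h, b⟩

theorem map_Jh (S : Subgroup G) (hf : Function.Injective f) : (Jh S).map f = Jh (S.map f) := by
  refine le_antisymm (map_le_iff_le_comap.2 (sSup_le fun U h => map_le_iff_le_comap.1 (le_sSup
    ⟨map_mono h.1, (eg_map_iff hf).2 h.2.1, map_J 2 S hf ▸ map_mono h.2.2⟩))) (sSup_le fun U h => ?_)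
  obtain ⟨U, l, rfl⟩ := exists_map_of_le h.1
  exact map_mono (((eg_map_iff hf).1 h.2.1).le_Jh l ((map_le_map_iff_of_injective hf).1
    ((map_J 2 S hf).le.trans h.2.2)))

theorem jHat_eq : jHat G = Jh (⊤ : Subgroup G) := by
  unfold jHat Jh
  congr 1
  ext U
  simp only [Set.mem_setOf_eq, le_top, true_and, CF.PLocal.thompsonSubgroupOf_top]
  rw [← eg_top, ← eg_map_iff U.subtype_injective, map_top_subtype]

theorem Jh_eq (S : Subgroup G) : (jHat S).map S.subtype = Jh S := by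
  rw [jHat_eq, map_Jh _ S.subtype_injective, map_top_subtype]

theorem norm_Jh (S : Subgroup G) : 𝐍 S ≤ 𝐍 (Jh S) :=
  norm_le_of_cj (F := Jh) (fun g H => map_Jh H (conj_inj g)) S

theorem Jh_eq_of_le (a : Jh S ≤ T) (j : 𝐉 2 S ≤ T) (b : T ≤ S) : Jh T = Jh S :=
  le_antisymm (sSup_le fun _ h => h.2.1.le_Jh (h.1.trans b) (thompson_eq_of_le j b ▸ h.2.2))
    (sSup_le fun _ h => h.2.1.le_Jh ((le_sSup h).trans a) (thompson_eq_of_le j b ▸ h.2.2))

theorem abelem_qt_of_sq (h : ∀ r ∈ R, r ^ 2 ∈ W) : Abelem 2 (qt W R) :=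
  Abelem.of_isEA Nat.prime_two (CF.Loc.isElemAb_of_mul_self fun z hz => by
    obtain ⟨x, hx, hn, rfl⟩ := mem_qt.1 hz
    rw [← pow_two, ← qe_pow hn, qe_of_mem (h x hx)])

theorem E1.i1 (h : E1 V T) (n : T ≤ 𝐍 V) : I1 V T := fun R r s c =>
  (h R r ((abel_qt_iff (norm_cent (r.trans n))).1 (abelem_qt_of_sq s).abel) s c).1

theorem J_le_Jh (S : Subgroup G) : 𝐉 2 S ≤ Jh S :=
  EG.le_Jh (fun V n a e => thompson_eq_of_le le_rfl (thompson_le 2 S) ▸ (e.i1 n.norm).i2.J_le n.le a)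
    (thompson_le 2 S) le_rfl

theorem Ev.le_of_syl (h : Ev L X) (s : Syl 2 T L) (t : T ≤ X) : L ≤ X := by
  refine le_of_forall_syl fun p hp _ => ?_
  by_cases h2 : p = 2
  · subst h2; exact ⟨T, s, t⟩
  obtain ⟨P, hP⟩ := exists_syl p L
  exact ⟨P, hP, fun x hx => h x (hP.le hx) ((hP.pi.of_single_ne h2).elt hx)⟩

theorem le_J_of_cent (a : Abelem 2 V) (v : V ≤ S) (c : V ≤ 𝐂 (𝐉 2 S)) : V ≤ 𝐉 2 S := fun x hx =>
  CF.PLocal.mem_thompson_of_centralizer (v hx) (c hx) (a.pow x hx)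

theorem Fr3.fact12 (h : Fr3 H) (c : CharP 2 H) (s : Syl 2 S H) :
    ∃ C, C ⊴ H ∧ C ≤ 𝐂 (𝐙 S) ∧ Jh S ≤ C := by
  have nQ := O_normal {2} H
  have z : 𝐙 S ≤ 𝐙 (𝐎 {2} H) := by
    have := inf_le_right.trans (cent_anti s.O_le : 𝐂 S ≤ _) (a := 𝐙 S)
    exact le_inf ((le_inf (inf_le_left.trans s.le) this).trans c) this
  have u := orbJ_le_of_norm (nQ.norm.trans (norm_center _)) z
  have nU := norm_orbJ H (𝐙 S)
  have aU := (center_abel _).mono u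
  have pU := (O_pi {2} H).le (u.trans inf_le_left)
  have v := aU.abelem_Om Nat.prime_two
  have n := nU.trans (norm_Om 2 _)
  have vS := ((Om_le 2 _).trans (u.trans inf_le_left)).trans s.O_le
  generalize hU : orbJ H (𝐙 S) = U at *
  have nC := normalIn_inf_cent n
  have key : ∀ Y, Y ⊴ H → Ev Y (𝐂 (𝛀 2 U)) → Y ≤ 𝐂 (𝐙 S) := fun Y y e =>
    Ev.le_of_syl (fun x hx o => cent_anti (hU ▸ le_orbJ H (𝐙 S)) (zpowers_le.1 (aU.cent_of_Om pU
      ((zpowers_le.2 (y.le hx)).trans nU) (o.zpowers.coprime' pU) (zpowers_le.2 (e x hx o)))))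
      (s.inf_normal y) (inf_le_left.trans (cent_symm inf_le_right))
  have h2 : 𝐎 {2} (qt (H ⊓ 𝐂 (𝛀 2 U)) H) = ⊥ := by
    have y := (O_normal {2} (qt (H ⊓ 𝐂 (𝛀 2 U)) H)).qp_of_qt nC
    refine qp_eq_self.1 (le_antisymm (le_inf y.le ?_) (le_qp _))
    refine le_trans ?_ (cent_anti (Om_le 2 U))
    have := cent_orbJ_of y.norm (key _ y ((ev_of_idx (qp_le_norm _) (by
      rw [relIndex_qp]; exact O_pi _ _)).mono le_rfl inf_le_right))
    rwa [hU] at this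
  have m : ∀ R, R ≤ S → (∀ r ∈ R, r ^ 2 ∈ 𝐂 (𝛀 2 U)) → ¬ R ≤ 𝐂 (𝛀 2 U) →
      (𝐂 (𝛀 2 U)).relIndex R ^ 3 < (𝐂 R).relIndex (𝛀 2 U) ^ 2 ∧
      (𝐂 (𝛀 2 U)).relIndex R < ♯⁅𝛀 2 U, R⁆ := fun R r q c => by
    obtain ⟨i1, i2⟩ := m12 v n rfl ((h.qt nC.norm).hd h2) R (r.trans s.le) (s.pi.le r)
      (abelem_qt_of_sq fun x hx => ⟨pow_mem (s.le (r hx)) 2, q x hx⟩)
    have i3 : 1 < (𝐂 (𝛀 2 U)).relIndex R :=
      lt_of_le_of_ne (relIndex_pos _ _) fun e => c (relIndex_eq_one.1 e.symm)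
    refine ⟨lt_of_lt_of_le ?_ (Nat.pow_le_pow_left i1 2), lt_of_lt_of_le ?_ i2⟩
    · rw [← pow_mul]; exact Nat.pow_lt_pow_right i3 (by norm_num)
    · nlinarith
  have j := le_J_of_cent v vS (cent_symm ((I1.i2 fun R r q c => (m R r q c).1).J_le vS v))
  refine ⟨_, nC, key _ nC ((ev_self _).mono le_rfl inf_le_right), le_inf ((Jh_le S).trans s.le)
    (sSup_le fun T t => t.2.1 _ ⟨j.trans t.2.2, (t.1.trans s.le).trans n⟩ v
      fun R r _ => m R (r.trans t.1))⟩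

theorem frattini_Jh (s : Syl 2 S H) (n : C ⊴ H) (j : Jh S ≤ C) (hg : g ∈ H) :
    ∃ c ∈ C, ∃ m ∈ H ⊓ 𝐍 (𝐉 2 S) ⊓ 𝐍 (Jh S), g = c * m := by
  obtain ⟨c, hc, m, hm, e⟩ := (s.inf_normal n).syl_frattini n hg
  have j1 := le_inf (thompson_le 2 S) ((J_le_Jh S).trans j)
  refine ⟨c, hc, m, ⟨⟨hm.1, ?_⟩, ?_⟩, e.symm⟩
  · rw [← thompson_eq_of_le j1 inf_le_left]
    exact normalizer_le_normalizer_thompson 2 _ hm.2
  · rw [← Jh_eq_of_le (le_inf (Jh_le S) j) j1 inf_le_left]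
    exact norm_Jh _ hm.2

theorem CharP.sup (c : CharP 2 Y) (w : PiGrp {2} W) (n : W ≤ 𝐍 Y) : CharP 2 (Y ⊔ W) :=
  le_O (normalIn_inf_cent (O_normal _ _).norm) (Ev.pi fun x hx o => by
    have h1 : x ∈ Y := Ev.of_sup (ev_self _) w n x hx.1 o
    exact ((O_pi {2} Y).elt (c ⟨h1, cent_anti (O_le_O_of_normal (normalIn_sup_left n) _) hx.2⟩)).eq_one o)

theorem Fr3.fact3 (h : Fr3 H) (c : CharP 2 H) (s : Syl 2 S H) (hg : g ∈ H) :
    ∃ c ∈ H ⊓ 𝐂 (𝛀 2 (𝐙 (Jh S))), ∃ m ∈ H ⊓ 𝐍 (𝐉 2 S), g = c * m := by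
  have n : orbJ H (𝐉 2 S) ⊴ H := ⟨orbJ_le_of_norm (le_norm_self H) ((thompson_le 2 S).trans s.le),
    norm_orbJ _ _⟩
  have j := le_inf (thompson_le 2 S) (le_orbJ H (𝐉 2 S))
  have t := s.inf_normal n
  have fr : ∀ g ∈ H, ∃ c ∈ orbJ H (𝐉 2 S), ∃ m ∈ H ⊓ 𝐍 (𝐉 2 S), g = c * m := fun g hg => by
    obtain ⟨c, hc, m, hm, e⟩ := t.syl_frattini n hg
    refine ⟨c, hc, m, ⟨hm.1, ?_⟩, e.symm⟩
    rw [← thompson_eq_of_le j inf_le_left]
    exact normalizer_le_normalizer_thompson 2 _ hm.2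
  have e : orbJ H (𝐉 2 S) ≤ orbJ (orbJ H (𝐉 2 S)) (𝐉 2 S) := orbJ_le_iff.2 fun g hg => by
    obtain ⟨c, hc, m, hm, rfl⟩ := fr g hg
    rw [← cj_cj, cj_of_norm hm.2]
    exact cj_le_orbJ hc _
  generalize orbJ H (𝐉 2 S) = Y at n j t fr e
  have cY := c.subN n.subN
  have l : S ⊓ Y ≤ Jh S := EG.le_Jh (fun V v a i => by
    have := (h.mono n.le).main cY t v a (i.i1 v.norm)
    rw [thompson_eq_of_le j inf_le_left] at this
    exact inf_le_right.trans (e.trans (cent_symm this))) inf_le_left j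
  have a : Abelem 2 (𝛀 2 (𝐙 (Jh S))) := (center_abel _).abelem_Om Nat.prime_two
  have w : 𝛀 2 (𝐙 (Jh S)) ≤ S := (Om_le 2 _).trans (inf_le_left.trans (Jh_le S))
  have c1 : S ⊓ Y ⊔ 𝛀 2 (𝐙 (Jh S)) ≤ 𝐂 (𝛀 2 (𝐙 (Jh S))) :=
    sup_le (l.trans (cent_symm ((Om_le 2 _).trans inf_le_right))) a.abel
  generalize 𝛀 2 (𝐙 (Jh S)) = W at a w c1
  have l1 : S ⊓ Y ⊔ W ≤ S := sup_le inf_le_left w
  have n1 := l1.trans (s.le.trans n.norm)
  have := (h.mono (sup_le n.le (l1.trans s.le))).main (cY.sup (s.pi.le l1) n1)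
    (syl_sup t (s.pi.le l1) le_sup_left n1) ⟨le_sup_right, norm_of_cent c1⟩ a
    fun R r _ c => absurd (r.trans c1) c
  rw [thompson_eq_of_le (le_sup_of_le_left j) l1] at this
  obtain ⟨c, hc, m, hm, e'⟩ := fr g hg
  exact ⟨c, ⟨n.le hc, cent_symm this (orbJ_mono le_sup_left _ (e hc))⟩, m, hm, e'⟩

theorem charP_top : CharP 2 (⊤ : Subgroup G) ↔ IsCharPGroup 2 G := by
  rw [CharP, IsCharPGroup, pCore_eq Nat.prime_two, top_inf_eq]

theorem not_inv_of_charP (c : IsCharPGroup 2 G) (h : ¬ Involves (Equiv.Perm (Fin 4)) G) :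
    ¬ CF.Loc.Inv 3 (⊤ : Subgroup G) := fun i => h (involves_trans (CF.Loc.IsCharP.involves_S4 (by
  have := charP_top.2 c
  rwa [CharP, ← map_pCore Nat.prime_two] at this) i) (involves_subgroup _))

theorem Fr3.of_involves {X : Type u} [Group X] [Finite X] (h : Fr3 (⊤ : Subgroup G))
    (i : Involves X G) : Fr3 (⊤ : Subgroup X) :=
  ⟨fun j => h.inv (CF.Loc.involves_S3_iff.1 (involves_trans (CF.Loc.involves_S3_iff.2 j) i)),
    fun Y _ _ s c j => h.gd Y s c (involves_trans (involves_trans j (involves_subgroup _))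
      (involves_trans i (involves_of_equiv topEquiv)))⟩

/-- all sections of characteristic `2` are in the class -/
def Sec2 (G : Type u) [Group G] : Prop :=
  ∀ (Y : Type u) [Group Y] [Finite Y], Involves Y G → IsCharPGroup 2 Y → Fr3 (⊤ : Subgroup Y)

protected theorem Sec2.qt (h : Sec2 G) (n : K ≤ 𝐍 R) (c : CharP 2 (qt R K)) : Fr3 (qt R K) :=
  (h _ (involves_trans (involves_of_surjective _ (qtHom_surj n)) (involves_subgroup K)) (by
    have := CF.Loc.isCharP_iff.1 (show CF.Loc.IsCharP 2 (BG.qt R K) by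
      rwa [CharP, ← map_pCore Nat.prime_two] at c)
    exact this)).of_top

theorem qt_Jh (n : S ≤ 𝐍 R) (i : R ⊓ S = ⊥) : qt R (Jh S) = Jh (qt R S) := by
  have hf : Function.Injective ((qt R S).subtype.comp (qtHom n)) := by
    refine (qt R S).subtype_injective.comp ((MonoidHom.ker_eq_bot_iff _).1 ?_)
    rw [qtHom_ker, ← inf_subgroupOf_right, i, bot_subgroupOf]
  have := map_Jh ⊤ hf
  rwa [← map_map, ← map_map, map_qtHom, map_qtHom, map_Jh _ S.subtype_injective, map_top_subtype] at this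

theorem Sec2.orb_cent (h : Sec2 G) (s : Syl 2 S ⊤) :
    orbJ (𝐍 (𝐉 2 S)) (𝛀 2 (𝐙 S)) ≤ 𝛀 2 (𝐙 (Jh S)) := by
  have z : 𝛀 2 (𝐙 S) ≤ 𝐙 S := Om_le 2 _
  have aZ := (center_abel S).abelem_Om Nat.prime_two
  have sN : S ≤ 𝐍 (𝐉 2 S) := (le_norm_self S).trans (normalizer_le_normalizer_thompson 2 S)
  have l : orbJ (𝐍 (𝐉 2 S)) (𝛀 2 (𝐙 S)) ≤ 𝛀 2 (𝐙 (𝐉 2 S)) := by
    have c := z.trans (inf_le_right.trans (cent_anti (thompson_le 2 S)))
    exact orbJ_le_of_norm ((norm_center _).trans (norm_Om 2 _))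
      (aZ.le_Om (le_inf (le_J_of_cent aZ (z.trans inf_le_left) c) c))
  have a := ((center_abel _).abelem_Om Nat.prime_two).le l
  have l1 := l.trans ((Om_le 2 _).trans inf_le_left)
  refine a.le_Om (le_inf (l1.trans (J_le_Jh S)) (orbJ_le_iff.2 fun g hg => ?_))
  have nA := norm_orbJ (𝐍 (𝐉 2 S)) (𝛀 2 (𝐙 S))
  have zA := le_orbJ (𝐍 (𝐉 2 S)) (𝛀 2 (𝐙 S))
  have aS := l1.trans (thompson_le 2 S)
  generalize orbJ (𝐍 (𝐉 2 S)) (𝛀 2 (𝐙 S)) = A at a nA zA aS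
  generalize 𝐍 (𝐉 2 S) = N at sN hg nA
  have s1 := s.of_le sN le_top
  have p := s1.inf_normal (normalIn_inf_cent nA)
  have nP : S ≤ N ⊓ 𝐍 (S ⊓ (N ⊓ 𝐂 A)) :=
    le_inf sN (norm_inf (le_norm_self S) (norm_inf_cent (norm_of_le sN) (sN.trans nA)))
  have aP : A ≤ S ⊓ (N ⊓ 𝐂 A) := le_inf aS (le_inf (aS.trans sN) a.abel)
  have pS : S ⊓ (N ⊓ 𝐂 A) ≤ S := inf_le_left
  obtain ⟨c, hc, m, hm, e⟩ := p.syl_frattini (normalIn_inf_cent nA) (inv_mem hg)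
  generalize S ⊓ (N ⊓ 𝐂 A) = P at p nP aP pS hm
  have kA : N ⊓ 𝐍 P ≤ 𝐍 A := inf_le_left.trans nA
  have nP' : P ⊴ N ⊓ 𝐍 P := ⟨pS.trans nP, inf_le_right⟩
  have c1 : N ⊓ 𝐍 P ⊓ 𝐂 P ≤ 𝐎 {2}ᶜ (N ⊓ 𝐍 P) ⊔ P := by
    have := (p.inf_of_norm (K := N ⊓ 𝐍 P ⊓ 𝐂 P) (le_inf (inf_le_left.trans inf_le_left)
      (inf_le_right.trans (cent_anti aP))) (inf_le_left.trans inf_le_right)).dprod_of_cent
      (cent_mono inf_le_right le_rfl inf_le_right)
    exact this.sup.ge.trans (sup_le (le_sup_of_le_right inf_le_right) (le_sup_of_le_left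
      (O_le_O_of_normal (normalIn_inf_cent inf_le_right) _)))
  have s2 := s1.of_le nP inf_le_left
  generalize N ⊓ 𝐍 P = K at nP kA nP' c1 s2 hm
  have nR := O_normal {2}ᶜ K
  have o := O_pi {2}ᶜ K
  generalize 𝐎 {2}ᶜ K = R at c1 nR o
  have sR := nP.trans nR.norm
  have pR := pS.trans sR
  have l2 : qt R P ≤ 𝐎 {2} (qt R K) := le_O (nP'.qt R) (p.pi.qt R)
  have ch : CharP 2 (qt R K) := (inf_le_inf_left _ (cent_anti l2)).trans (le_trans (by
    rw [← qt_inf_cent' pR (norm_of_le nP'.le) (p.pi.coprime o) (Or.inl p.pi.sol),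
      ← qt_sup_left pR]
    exact qt_mono R c1) l2)
  obtain ⟨C, nC, cC, jC⟩ := (h.qt nR.norm ch).fact12 ch (s2.qt nR.norm)
  obtain ⟨c', hc', m', hm', e'⟩ := frattini_Jh (s2.qt nR.norm) nC jC (qe_mem_qt hm (nR.norm hm))
  have z' : qt R (𝛀 2 (𝐙 S)) ≤ 𝐙 (qt R S) :=
    le_inf (qt_mono R (z.trans inf_le_left)) (qt_cent R (z.trans inf_le_right))
  have e1 : cj g (𝛀 2 (𝐙 S)) = cj m⁻¹ (𝛀 2 (𝐙 S)) := by
    rw [← inv_inv g, ← e, mul_inv_rev, ← cj_cj, cj_of_cent (inv_mem (cent_anti zA hc.2))]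
  have l3 : cj m⁻¹ (𝛀 2 (𝐙 S)) ≤ A := cj_le_of_norm (inv_mem (kA hm)) zA
  rw [e1]
  refine comm_eq_bot.1 (eq_bot_mono (o.inf_eq_bot' s.pi) (le_inf ((qt_cent_iff ((l3.trans aS).trans sR)
    ((Jh_le S).trans sR)).1 ?_) ((commutator_mono (l3.trans aS) (Jh_le S)).trans (der_le S))))
  rw [qt_cj (inv_mem (nR.norm hm)), qe_inv (nR.norm hm), e', mul_inv_rev, ← cj_cj,
    cj_of_cent (inv_mem (cent_anti z' (cC hc'))), qt_Jh sR (o.inf_eq_bot' s.pi)]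
  exact cj_le_of_norm (inv_mem (norm_le_norm_cent _ hm'.2))
    (z'.trans (inf_le_right.trans (cent_anti (Jh_le _))))

/-- the functor `J` -/
def FJ : ∀ (Q : Type u) [Group Q], Subgroup Q := fun Q _ => 𝐉 2 (⊤ : Subgroup Q)

/-- the functor `Ω Z Ĵ` -/
def FW : ∀ (Q : Type u) [Group Q], Subgroup Q := fun Q _ => 𝛀 2 (𝐙 (Jh (⊤ : Subgroup Q)))

theorem cpf_J : IsCharPFunctor.{u} 2 FJ :=
  ⟨fun Q _ _ p _ => by
    obtain ⟨X, x⟩ := (piGrp_of_isPGroup Nat.prime_two (p.to_subgroup ⊤)).exists_elem_one top_ne_bot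
    obtain ⟨t, t1, ht, -⟩ := x.exists_gen
    exact CF.PLocal.thompson_ne_bot (mem_top t) t1 (x.ab.pow t ht),
    fun Q R _ _ _ _ φ => by rw [FJ, FJ, map_J _ _ φ.injective, map_top_of_surjective _ φ.surjective]⟩

theorem cpf_W : IsCharPFunctor.{u} 2 FW :=
  ⟨fun Q _ _ p n => by
    have q := piGrp_of_isPGroup Nat.prime_two (p.to_subgroup (Jh ⊤))
    exact (q.le inf_le_left).Om_ne_bot (q.center_ne_bot (ne_bot_mono (cpf_J.1 Q p n) (J_le_Jh ⊤))),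
    fun Q R _ _ _ _ φ => by
      rw [FW, FW, map_Om _ _ φ.injective, map_inf_cent φ.injective, map_Jh _ φ.injective,
        map_top_of_surjective _ φ.surjective]⟩

theorem ind_J (P : Subgroup G) : inducedFunctor FJ P = 𝐉 2 P := by
  rw [inducedFunctor, FJ, map_J _ _ P.subtype_injective, map_top_subtype]

theorem ind_W (P : Subgroup G) :
    inducedFunctor FW P = 𝛀 2 (𝐙 (Jh P)) := by
  rw [inducedFunctor, FW, map_Om _ _ P.subtype_injective, map_inf_cent P.subtype_injective,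
    map_Jh _ P.subtype_injective, map_top_subtype]

open CF.Transfer in
theorem Sec2.ctrl (h : Sec2 G) (s : Syl 2 S ⊤) (hA : A = orbJ (𝐍 (𝐉 2 S)) (𝛀 2 (𝐙 S))) (b : B ≤ S)
    (hg : BG.cj g B ≤ S) : ∃ n ∈ 𝐍 A, ∃ c ∈ 𝐂 B, g = n * c := by
  have : Fact (Nat.Prime 2) := ⟨Nat.prime_two⟩
  have hW : ∀ W ∈ ({FJ, FW} : Set (∀ (Q : Type u) [Group Q], Subgroup Q)), IsCharPFunctor.{u} 2 W := by
    rintro _ (rfl | rfl)
    exacts [cpf_J, cpf_W]
  have h1 := famFusion_of_charP_sections hW (fun Y _ _ i c => by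
    obtain ⟨T, t⟩ := exists_syl 2 (⊤ : Subgroup Y)
    refine (familyControlsStrongFusionIn_iff (indSet_isConj hW) (t.isSylowIn Nat.prime_two)).2
      (ctrlIn_reach_of_factorization (N₁ := 𝐍 (𝛀 2 (𝐙 (Jh T)))) (N₂ := 𝐍 (𝐉 2 T))
      (t.isSylowIn Nat.prime_two) ((le_norm_self T).trans ((norm_Jh T).trans ((norm_center _).trans
      (norm_Om 2 _)))) ((le_norm_self T).trans (normalizer_le_normalizer_thompson 2 T))
      (fun x hx => ⟨_, ⟨_, Or.inr rfl, rfl⟩, by beta_reduce; rwa [ind_W]⟩)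
      (fun x hx => ⟨_, ⟨_, Or.inl rfl, rfl⟩, by beta_reduce; rwa [ind_J]⟩) fun x hx => ?_)
    obtain ⟨c, hc, m, hm, e⟩ := (h Y i c).fact3 (charP_top.2 c) t hx
    exact ⟨c, ⟨hc.1, cent_le_norm _ hc.2⟩, m, hm.2, e⟩) G (involves_self G)
  refine ((familyControlsStrongFusionIn_iff (indSet_isConj hW) (s.isSylowIn Nat.prime_two)).1 h1
    B b g trivial hg).exists_mul ?_
  rintro x ⟨_, ⟨_, rfl | rfl, rfl⟩, -, hx⟩
  · beta_reduce at hx
    rw [ind_J] at hx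
    exact hA ▸ norm_orbJ _ _ hx
  · beta_reduce at hx
    rw [ind_W] at hx
    have sW : S ≤ 𝐍 (𝛀 2 (𝐙 (Jh S))) :=
      (le_norm_self S).trans ((norm_Jh S).trans ((norm_center _).trans (norm_Om 2 _)))
    obtain ⟨c, hc, m, hm, rfl⟩ := frattini_Jh (s.of_le sW le_top) ⟨cent_le_norm _, norm_le_norm_cent _⟩
      (cent_symm ((Om_le 2 _).trans inf_le_right)) hx
    exact mul_mem (cent_le_norm _ (cent_anti (hA ▸ h.orb_cent s) hc)) (hA ▸ norm_orbJ _ _ hm.1.2)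

theorem Sec2.sc (h : Sec2 G) (s : Syl 2 S ⊤) (hA : A = orbJ (𝐍 (𝐉 2 S)) (𝛀 2 (𝐙 S))) :
    Abelem 2 A ∧ IsStronglyClosed A S := by
  have l := hA ▸ h.orb_cent s
  have l1 := l.trans ((Om_le 2 _).trans (inf_le_left.trans (Jh_le S)))
  refine ⟨((center_abel _).abelem_Om Nat.prime_two).le l, l1, fun x hx g hg => ?_⟩
  obtain ⟨n, hn, c, hc, rfl⟩ := h.ctrl (g := g) s hA (zpowers_le.2 (l1 hx)) (by
    rw [cj_zpowers]; exact zpowers_le.2 hg)
  rw [show n * c * x * (n * c)⁻¹ = n * (c * x * c⁻¹) * n⁻¹ by group,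
    ← mem_cent.1 hc x (mem_zpowers x), mul_inv_cancel_right]
  exact conj_mem_of_norm hn hx

theorem map_normalClosure (b : B ≤ N) :
    (normalClosure ((B.subgroupOf N : Subgroup N) : Set N)).map N.subtype = orbJ N B := by
  refine le_antisymm (map_le_iff_le_comap.2 ?_) (orbJ_le_of_norm (normal_iff_map_subtype.1
    inferInstance).norm ?_)
  · have : ((orbJ N B).subgroupOf N).Normal :=
      NormalIn.normal ⟨orbJ_le_of_norm (le_norm_self N) b, norm_orbJ N B⟩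
    exact normalClosure_le_normal (N := (orbJ N B).subgroupOf N) fun x hx => le_orbJ N B hx
  · rw [← map_subgroupOf b]
    nth_rw 2 [map_subgroupOf b]
    exact map_mono le_normalClosure

end CF.Sig
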