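import Cfsg.Agent.Ab2.Fin1
import Cfsg.Agent.Ly.LY
import Cfsg.Agent.TsY.FusS4F

/-! Simple groups not involving `S₃` or `S₄` (Glauberman, Goldschmidt, Thompson). -/

set_option autoImplicit false
set_option linter.unusedSectionVars false

namespace CF.Fgs1
open Subgroup Cfsg CF.BG CF.Transfer
open CF.Ab2 (NS JR S4 ns_top p2)
open CF.Loc (Inv)
open CF.Bender (IsBender)

universe u
variable {G : Type u} [Group G] [Finite G] {K L S T : Subgroup G}

theorem gd_of_sec2 (h : Sig.Sec2 G) (n : NS (⊤ : Subgroup G)) : Ab2.Gd (⊤ : Subgroup G) := by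
  haveI : Fact (Nat.Prime 2) := ⟨p2⟩
  obtain ⟨S⟩ : Nonempty (Sylow 2 G) := inferInstance
  have s := syl_sylow_top S
  obtain ⟨a, c⟩ := h.sc s rfl
  exact Ab2.gold (.inl Ly.ly) n (Ab2.sc_of_isSC S c a) fun e => (s.pi.le inf_le_left).Om_ne_bot
    (s.pi.center_ne_bot (n.syl_ne s)) (BG.eq_bot_mono e (Sig.le_orbJ _ _))

theorem not_inv_of_involves {X : Type*} [Group X] [Finite X] (h : ¬ Inv 3 (⊤ : Subgroup G))
    (i : Involves X G) : ¬ Inv 3 (⊤ : Subgroup X) := fun k =>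
  h (Loc.involves_S3_iff.1 (involves_trans (Loc.involves_S3_iff.2 k) i))

theorem eight_dvd_of_suz [IsSimpleGroup G] (h : Lie.IsoSuzuki G) : 8 ∣ Nat.card G := by
  obtain ⟨-, m, m1, e⟩ := Bender.isSuzuki_of_iso h
  rw [e, ← pow_mul, mul_assoc]
  exact (pow_dvd_pow 2 (by omega : 3 ≤ _)).mul_right _

theorem not_eight_dvd (h : S4 (⊤ : Subgroup G)) : ¬ 8 ∣ Nat.card G := fun d => by
  obtain ⟨V, s, c⟩ := h
  have := card_mul_relIndex s.le
  rw [c, card_top] at this
  exact s.not_dvd p2 (Nat.dvd_of_mul_dvd_mul_left (by decide : 0 < 4) (this ▸ d))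

theorem abT_of_s4 (n : NS K) (s : S4 K) (h : ¬ Inv 3 K) (t : Syl 2 T K) : Sig.AbT K T := by
  haveI := n.simple
  obtain ⟨V, v, c⟩ := s.top
  have := (Sig.abT_of_four n.not_comm (fun b => not_eight_dvd s.top (eight_dvd_of_suz
    (Sig.suz_of_bender b fun k => h (Loc.inv_top_iff.1 k)))) v c).map K.subtype_injective
  rw [map_top_subtype] at this
  exact this.of_syl t

theorem gd_of_jr (j : JR (⊤ : Subgroup G)) (n : NS (⊤ : Subgroup G)) (h : ¬ Inv 3 (⊤ : Subgroup G))
    (b : ¬ IsBender G) : Sig.Gd G := by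
  haveI := n.simple_top
  obtain ⟨T, s, a, c, tr⟩ := j.syl
  have key : ∀ t ∈ T, t ≠ 1 → 𝐂₁ t ≤ 𝐍 (Sig.Gm T) ∧ Sig.Gm T ≠ ⊥ := fun t ht t1 => by
    have s1 := s.of_le (le_inf le_top (a.abel.trans (cent_le_cent1 ht))) inf_le_left
    obtain ⟨K, k, nK, s4, -⟩ := (j.cent t (mem_top t) (Ab2.ab_iv a ht t1)).ex
    rw [top_inf_eq] at s1 k
    have v := s1.inf_normal k
    have ct : zpowers t ≤ 𝐂 K := cent_symm (k.le.trans (cent_zpowers t).ge)
    have e : zpowers t ⊔ T ⊓ K = T := by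
      have l : zpowers t ⊔ T ⊓ K ≤ T := sup_le (zpowers_le.2 ht) inf_le_left
      refine eq_of_le_of_card_ge l ?_
      have := Ab2.card_two_le (s.pi.le l) (B := T ⊓ K) (lt_of_le_of_ne le_sup_right fun q =>
        t1 (nK.eq_one (q.ge (le_sup_left (a := zpowers t) (mem_zpowers t))).2 (ct (mem_zpowers t))))
      rw [s4.card v] at this; omega
    have l : K ≤ Sig.Gm T := (abT_of_s4 nK s4 (fun i => h (i.mono le_top)) v).gen _ fun O l o m =>
      (commutator_mono le_rfl inf_le_left).trans (Sig.le_Gm o (e ▸ sup_le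
        (norm_of_cent (ct.trans (cent_anti l))) m))
    refine ⟨v.syl_frattini_sup k ▸ sup_le (norm_of_le l) (le_trans ?_ (Sig.norm_Gm T)),
      fun q => nK.ne (BG.eq_bot_mono q l)⟩
    exact (norm_sup (inf_le_left.trans (GW.cent1_le_norm_zp t)) inf_le_right).trans (by rw [e])
  obtain ⟨t, ht, t1⟩ := exists_mem_ne_one (n.syl_ne s)
  exact .inr ⟨T, s, a, c.le, fun W l m => (eq_or_ne W ⊥).imp_right (tr.eq_of_norm l m),
    Sig.gen_of_Gm (Sig.Gm_eq_top b s a.abel (n.syl_ne s) (fun t ht t1 => (key t ht t1).1)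
      (key t ht t1).2)⟩

theorem card_lt_of_charP {Y : Type*} [Group Y] [Finite Y] (n : NS (⊤ : Subgroup G))
    (i : Involves Y G) (c : IsCharPGroup 2 Y) : Nat.card Y < Nat.card G := by
  obtain ⟨K, f, hf⟩ := involves_iff.1 i
  by_contra! l
  have l1 := Nat.card_le_card_of_surjective f hf
  obtain rfl : K = ⊤ := eq_top_of_le_card _ (l.trans l1)
  have := Sig.charP_top.2 (c.of_equiv ((MulEquiv.ofBijective f (hf.bijective_of_nat_card_le
    (by rwa [card_top]))).symm.trans topEquiv))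
  rw [Sig.CharP, n.eq_bot_of_sol (O_normal _ _) (O_pi _ _).sol] at this
  exact n.ne (le_bot_iff.1 (le_trans (by simp) this))

theorem gd_of_not_inv (m : ℕ) : ∀ (G : Type u) [Group G] [Finite G], Nat.card G < m →
    NS (⊤ : Subgroup G) → ¬ Inv 3 (⊤ : Subgroup G) → Sig.Gd G := by
  induction m with
  | zero => exact fun _ _ _ c => absurd c (Nat.not_lt_zero _)
  | succ m ih =>
  intro G _ _ c n h
  haveI := n.simple_top
  by_cases b : IsBender G
  · exact Sig.gd_of_suz (Sig.suz_of_bender b h)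
  rcases gd_of_sec2 (fun Y _ _ i k => ⟨not_inv_of_involves h i, fun X _ _ s nc j => ih X
    ((Nat.le_of_dvd Nat.card_pos (involves_card_dvd j)).trans_lt (by
      have := card_lt_of_charP n i k
      rw [card_top]; omega)) (ns_top nc) (not_inv_of_involves h (involves_trans j
        (involves_trans (involves_subgroup _) i)))⟩) n with k | k | k
  · exact (b (k.bender n)).elim
  · exact Sig.gd_of_four n.not_comm_top h (not_eight_dvd k)
  · exact gd_of_jr k n h b

theorem fr3_of_not_inv (h : ¬ Inv 3 (⊤ : Subgroup G)) : Sig.Fr3 (⊤ : Subgroup G) :=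
  ⟨h, fun X _ _ _ nc j => gd_of_not_inv _ X (Nat.lt_succ_self _) (ns_top nc)
    (not_inv_of_involves h (involves_trans j (involves_subgroup _)))⟩

theorem k3 : Fus.K3.{u} := fun _ _ _ c h => fr3_of_not_inv (Sig.not_inv_of_charP c h)

theorem sec2_of_s4free (h : ¬ Involves (Equiv.Perm (Fin 4)) G) : Sig.Sec2 G :=
  fun Y _ _ i c => k3 Y c fun j => h (involves_trans j i)

/-- a simple group not involving `S₄` is a Goldschmidt group -/
theorem gd_of_s4free (n : NS (⊤ : Subgroup G)) (h : ¬ Involves (Equiv.Perm (Fin 4)) G) :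
    Ab2.Gd (⊤ : Subgroup G) := gd_of_sec2 (sec2_of_s4free h) n

theorem gd_of_s3free (n : NS (⊤ : Subgroup G)) (h : ¬ Inv 3 (⊤ : Subgroup G)) :
    Ab2.Gd (⊤ : Subgroup G) :=
  gd_of_sec2 (fun _ _ _ i _ => fr3_of_not_inv (not_inv_of_involves h i)) n

theorem three_dvd_of_s4 (n : NS K) (s : S4 K) : 3 ∣ ♯K := by
  obtain ⟨V, v, c⟩ := s
  obtain ⟨z, hz, -, tr⟩ := n.exists_tr_four v c
  obtain ⟨a, ha, a1⟩ := exists_mem_ne_one (n.syl_ne v)
  have := tr.card (zpowers_le.2 hz.2) ha a1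
  rw [show 3 = (𝐂₁ a).relIndex (zpowers z) by omega]
  exact (relIndex_dvd_card _ _).trans (card_dvd_of_le (zpowers_le.2 hz.1))

/-- Thompson: a simple group of order prime to three is a Suzuki group -/
theorem suz_of_three (n : NS (⊤ : Subgroup G)) (h : ¬ 3 ∣ Nat.card G) : Lie.IsoSuzuki G := by
  have h3 : ¬ Inv 3 (⊤ : Subgroup G) := fun ⟨_, _, y, _, _, o, _⟩ => h (o ▸ orderOf_dvd_natCard y)
  rcases gd_of_s3free n h3 with k | k | k
  · exact Sig.suz_of_bender (k.bender n) h3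
  · exact (h (card_top (G := G) ▸ three_dvd_of_s4 n k)).elim
  · obtain ⟨t, -, i⟩ := GW.exists_iv (K := (⊤ : Subgroup G)) fun o => n.not_od (Ab2.od_iff.1 o)
    obtain ⟨K, -, nK, s, -⟩ := (k.cent t (mem_top t) i).ex
    exact (h ((three_dvd_of_s4 nK s).trans (card_subgroup_dvd_card K))).elim

end CF.Fgs1
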