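import Cfsg.Agent.TsY.PermHkY
import Cfsg.Agent.Perm.HkK2
import Cfsg.Agent.TsY.PermHkR3
import Cfsg.Agent.Perm.Ks7

/-! The Hering-Kantor-Seitz theorem. -/

set_option autoImplicit false

namespace CF.Hk

universe u v

theorem coreThm : CoreThm.{u, v} := fun _ _ _ _ _ _ _ C =>
  C.cf (fun C' _ _ _ _ V => C'.ppp (fun V => V.tz C') V) (fun C' _ _ _ _ _ _ T z i uq => C'.b2 T z i uq)
    (fun C' _ _ _ _ T i n ht uq => C'.b3 T i n ht uq)

theorem main : Main.{u, v} := main_of coreThm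

theorem mainS : MainS.{u, v} := mainS_of coreThm

end CF.Hk
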