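import Cfsg.Agent.TsY.CyF2

/-! The consequences of the outcome of the induction. -/

set_option autoImplicit false
set_option linter.unusedSectionVars false

namespace CF.Cy

open MulAction Subgroup Cfsg CF.BG CF.Bender CF.ZD CF.Tw CF.Fisch CF.Hk
open scoped MatrixGroups

universe u v
variable {G : Type u} {Ω : Type v} [Group G] [Finite G] [MulAction G Ω] [Finite Ω]
variable {p : ℕ} {U Q : Ω → Subgroup G} {a b : Ω} {L N : Subgroup G}

local notation "𝐒" => MulAction.stabilizer G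

namespace Af

theorem CT.cases (h : CT p U Q) : (∃ E : Subgroup G, E ⊴ ⊤ ∧ E ≠ ⊥ ∧ Sol E) ∨ PL p U ∨ PU p U Q ∨ PR p U Q := by
  obtain ⟨a, b, n⟩ := h.co.exists_pair
  have k : TL Q Set.univ ∨ TS Q Set.univ → (∃ E : Subgroup G, E ⊴ ⊤ ∧ E ≠ ⊥ ∧ Sol E) ∨ PL p U := by
    rintro (T | ⟨E, T⟩)
    · exact (h.tl T).imp_left fun s => ⟨⊤, .refl _, ne_bot_mono (ne_bot_of_prime_card (h.pr a)) le_top, s⟩
    obtain ⟨e, he, k⟩ := T.tr a trivial b trivial
    exact .inl ⟨E, ⟨le_top, St_univ (G := G) (Ω := Ω) ▸ T.nm⟩, ne_bot_of_mem he fun e1 => n (by rw [← k, e1, one_smul]),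
      (Hk.pi_of_sq T.sq).sol⟩
  by_cases nr : EqF.Reg G Ω
  · exact (k (h.co.reg nr)).imp_right .inl
  rcases coreThm G Ω Q h.co with T | T | T | T
  exacts [(k (.inl T)).imp_right .inl, (k (.inr T)).imp_right .inl, .inr (.inr (.inl (h.tu nr T))),
    .inr (.inr (.inr (h.tr nr T.1)))]

theorem le_L (a : Ω) : Q a ≤ LL Q Set.univ := fun _ hx => mem_LL trivial hx (by simp [St_univ])

theorem ct_top (h : CY p U) (R : RS Q) (l : ∀ a, U a ≤ Q a) (top : LL Q Set.univ = ⊤) : CT p U Q :=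
  ⟨h, ⟨R, h.ff, top, h.big, fun Δ C l _ => Hk.main G Ω Q R Δ C l⟩, l⟩

theorem ct_sub (h : CY p U) (R : RS Q) (l : ∀ a, U a ≤ Q a) : CT p (fun a => (U a).subgroupOf (LL Q Set.univ))
    fun a => (Q a).subgroupOf (LL Q Set.univ) := by
  refine ct_top ⟨⟨fun a b c d n m => ?_, fun g e => Subtype.ext (h.ff g e)⟩, h.hp, h.p2, h.big,
    fun a => (card_subgroupOf' ((l a).trans (le_L a))).trans (h.card a), fun a x hx => h.le a hx,
    fun g a => Subgroup.ext fun x => ?_⟩ ⟨fun g _ _ hx => R.conj g hx, fun hx => R.fix hx, fun n m => ?_,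
    fun hx n e => Subtype.ext (R.semi hx n e), fun γ => (R.nil γ).subgroupOf _,
    fun γ => by rw [card_subgroupOf' (le_L γ)]; exact R.odd γ⟩ (fun a => subgroupOf_mono _ (l a)) (eq_top_iff.2 fun x _ => ?_)
  · obtain ⟨g, hg, e⟩ := (R.tt cl_univ ((Set.ncard_univ Ω).symm ▸ h.big)).tt a trivial b trivial c trivial d trivial n m
    exact ⟨⟨g, hg⟩, e⟩
  · exact mem_cj.trans ((mem_cj (g := (g : G)) (x := x)).symm.trans (SetLike.ext_iff.1 (h.cj g a) (x : G)))
  · obtain ⟨x, hx, e⟩ := R.tr n m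
    exact ⟨⟨x, le_L _ hx⟩, hx, e⟩
  obtain ⟨y, hy, e⟩ := (LL_le_iff.2 fun γ _ x hx _ => ⟨⟨x, le_L γ hx⟩, le_L γ hx, rfl⟩ : LL Q Set.univ ≤
    (LL (fun a => (Q a).subgroupOf (LL Q Set.univ)) Set.univ).map (LL Q Set.univ).subtype) x.2
  exact Subtype.ext e ▸ hy

/-- a simple normal subgroup containing the Fitting subgroups of the point stabilisers -/
structure OS (U : Ω → Subgroup G) (L : Subgroup G) : Prop where
  nm : L.Normal
  si : IsSimpleGroup L
  le : ∀ a : Ω, 𝐅 (stabilizer G a) ≤ L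
  nc : ∀ a : Ω, ¬ L ⊓ stabilizer G a ≤ 𝐂 (U a)

theorem le_of_simple (si : IsSimpleGroup L) (n : N.Normal) (e : N ⊓ L ≠ ⊥) : L ≤ N :=
  subgroupOf_eq_top.1 ((n.subgroupOf L).eq_bot_or_eq_top.resolve_left fun z => e (subgroupOf_eq_bot.1 z).eq_bot)

theorem lF (h : CY p U) (a : Ω) : U a ≤ 𝐅 (𝐒 a) :=
  le_F ⟨h.le a, fun g e => cj_eq_self.1 (by rw [h.cj, show g • a = a from e])⟩ (cyc_of_prime ((h.card a).symm ▸ h.hp)).nil

theorem cases (h : CY p U) (o : Out G Ω) : EqF.Reg G Ω ∨ (∃ L, OS U L ∧ (Nat.card Ω = p + 1 ∧ 5 ≤ p ∧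
    (∃ (F : Type) (_ : Field F) (_ : Fintype F), Nat.card Ω = Fintype.card F + 1 ∧ Nonempty (L ≃* PSL(2, F))) ∨
    AU p U ∧ ∃ (F : Type) (_ : Field F) (_ : Fintype F), Fintype.card F = p ^ 2 ∧ Nonempty (L ≃* PSU 3 F p))) ∨
    PR p U fun a => 𝐅 (𝐒 a) := by
  refine or_iff_not_imp_left.2 fun nr => ?_
  obtain ⟨-, R⟩ := o.resolve_left nr
  have l := lF h
  have fq : ∀ a : Ω, 𝐅 (𝐒 a) = (fun a : Ω => 𝐅 (𝐒 a)) a := fun _ => rfl
  generalize (fun a : Ω => 𝐅 (𝐒 a)) = Q at R fq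
  simp only [fq] at l
  have nL : LL Q Set.univ ⊴ ⊤ := St_univ (G := G) (Ω := Ω) ▸ R.LL_normal
  have lL : ∀ a, U a ≤ LL Q Set.univ := fun a => (l a).trans (le_L a)
  have C := ct_sub h R l
  have os : IsSimpleGroup (LL Q Set.univ) → NC (fun a => (U a).subgroupOf (LL Q Set.univ)) → OS U (LL Q Set.univ) :=
    fun si nc => ⟨normalIn_top.1 nL, si, fun a => fq a ▸ le_L a, fun a k => nc a ⊤ (.refl _) top_ne_bot fun x hx =>
      mem_cent.2 fun y hy => Subtype.ext (mem_cent.1 (k ⟨x.2, hx.2⟩) y hy)⟩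
  have ns : ∀ E : Subgroup G, E ⊴ LL Q Set.univ → E ≠ ⊥ → ¬ Sol E := fun E n e s =>
    s.inf_F_ne_bot n e (by rw [h.toT2.O_bot nr nL.F (F_nil _).sol, inf_bot_eq])
  have mp : ∀ {E : Subgroup (LL Q Set.univ)}, E ⊴ ⊤ → E.map (LL Q Set.univ).subtype ⊴ LL Q Set.univ := fun n => by
    simpa only [map_top_subtype] using n.map (LL Q Set.univ).subtype
  rcases C.cases with ⟨E, n, e, s⟩ | P | P | P
  · exact (ns _ (mp n) (mt (map_eq_bot_iff_of_injective _ (subtype_injective _)).1 e)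
      (s.map _)).elim
  · exact .inl ⟨_, os P.si P.nc, .inl ⟨P.card, P.five, P.iso⟩⟩
  · refine .inl ⟨_, os P.si P.nc, .inr ⟨⟨P.card, fun a b n => ?_, fun a W n ab _ => ?_⟩, P.iso⟩⟩
    · obtain ⟨z, h1, h2, h3⟩ := P.z a b n
      have e : U a ⊔ U b = _ := ((Subgroup.map_sup _ _ _).trans (congrArg₂ _ (map_subgroupOf (lL a)) (map_subgroupOf (lL b)))).symm
      rw [e]
      exact ⟨z, mem_map_of_mem _ h1, fun k => h2 (Subtype.ext k), by
        simpa using map_cent (zpowers_le.2 h3) (LL Q Set.univ).subtype⟩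
    have lW := fq a ▸ le_F n ab.nil
    exact fun x hx => P.ua a (W.subgroupOf _) ⟨fun y hy => n.le hy, le_norm_iff.2 fun g hg y hy => n.conj_mem hg hy⟩
      (ab.subgroupOf _) (fun y hy => lW hy) (x := ⟨x, le_L a (lW hx)⟩) hx
  obtain ⟨a, b, n⟩ := C.co.exists_pair
  have := h.toT2.faith
  have : Nontrivial G := (Subgroup.nontrivial_iff).1 ⟨_, _, ne_bot_of_prime_card ((h.card a).symm ▸ h.hp)⟩
  obtain ⟨M, nM, M1, mn, cM, si, -⟩ := EqF.socle h.toT2.two nr
  have ML := mn _ (normalIn_top.1 nL) (ne_bot_mono (ne_bot_of_prime_card ((h.card a).symm ▸ h.hp)) (lL a))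
  obtain ⟨M', nM', M1', mn', -, F, _, _, hF, ⟨e⟩⟩ := P.soc
  have l1 : M'.map (LL Q Set.univ).subtype ≤ M := map_le_iff_le_comap.2 (mn' _ (normalIn_top.2 (nM.subgroupOf _))
    fun z => M1 ((subgroupOf_eq_bot.1 z).eq_bot_of_le ML))
  have l2 := subgroupOf_eq_top.1 ((((mp nM').of_le l1 ML).normal.eq_bot_or_eq_top).resolve_left
    fun z => M1' ((map_eq_bot_iff_of_injective _ (subtype_injective _)).1 ((subgroupOf_eq_bot.1 z).eq_bot_of_le l1)))
  replace e := ((MulEquiv.subgroupCongr (l2.antisymm l1)).trans (M'.equivMapOfInjective _ (subtype_injective _)).symm).trans e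
  obtain ⟨φ, i, -⟩ := aut8 cM e
  have cG := Nat.le_of_dvd (by decide) (card_aut8 hF ▸ card_dvd_of_injective φ i)
  have top : LL Q Set.univ = ⊤ := eq_of_card_le le_top (by rw [card_top', P.cG]; exact cG)
  have c1 := P.ar.card
  have c2 := P.ar.p3
  rcases (ct_top h R l top).cases with ⟨E, n, e, s⟩ | P' | P' | P'
  · exact (ns E (top ▸ n) e s).elim
  · have := P'.card; omega
  · have := P'.si
    have c := Nat.card_congr e.toEquiv
    have c' := Classical.card_PSL_two (F := F)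
    rw [nM.eq_bot_or_eq_top.resolve_left M1, card_top', ← card_top' (G := G), ← top, P.cG] at c
    rw [← c, hF] at c'
    simp at c'
  exact .inr P'

end Af

variable (h : CY p U) (o : Out G Ω)
include h o

theorem CY.after : EqF.Reg G Ω ∨ (Nat.card Ω = p + 1 ∧ 5 ≤ p) ∨ AU p U ∨ AR p U := by
  rcases Af.cases h o with r | ⟨L, -, k | k⟩ | k
  exacts [.inl r, .inr (.inl ⟨k.1, k.2.1⟩), .inr (.inr (.inl k.1)), .inr (.inr (.inr k.ar))]

theorem CY.final (a : Ω) (Q : Subgroup G) (l : U a ≤ Q) (n : Q ⊴ stabilizer G a) (c : Cyc Q) : Fin G Ω Q := by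
  have ne := ne_bot_mono (ne_bot_of_prime_card ((h.card a).symm ▸ h.hp)) (l.trans le_normalClosure)
  have lF := le_F n c.nil
  rcases Af.cases h o with r | ⟨L, s, k⟩ | k
  · exact .inl r
  · have := s.nm
    have le : normalClosure (Q : Set G) ≤ L := normalClosure_le_normal (lF.trans (s.le a))
    obtain rfl := le.antisymm (Af.le_of_simple s.si inferInstance (by rwa [inf_eq_left.2 le]))
    rcases k with k | ⟨k, F, _, _, e⟩
    exacts [.inr (.inl k.2.2), .inr (.inr (.inl ⟨F, _, _, p, e.1, k.card, e.2⟩))]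
  obtain ⟨M, nM, -, mn, k', e⟩ := k.soc
  have := normalIn_top.1 nM
  obtain rfl := (mn _ (normalIn_top.2 inferInstance) ne).antisymm (normalClosure_le_normal (k' a Q l lF n.norm c))
  exact .inr (.inr (.inr ⟨k.ar.card, e, k.ree⟩))

theorem CY.zc (a : Ω) (T : Subgroup G) (nT : T.Normal) (l : U a ≤ T) (c : T ⊓ stabilizer G a ≤ 𝐂 (U a)) : EqF.Reg G Ω := by
  have ne := ne_bot_of_prime_card ((h.card a).symm ▸ h.hp)
  rcases Af.cases h o with r | ⟨L, s, -⟩ | k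
  · exact r
  · exact (s.nc a ((inf_le_inf_right _ (Af.le_of_simple s.si nT
      (ne_bot_mono ne (le_inf l ((Af.lF h a).trans (s.le a)))))).trans c)).elim
  exact (k.nc a T (normalIn_top.2 nT) (ne_bot_mono ne l) c).elim

end CF.Cy
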