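import Cfsg.Agent.TsY.CyN2

/-! Doubly transitive groups in which the swapping involutions centralise the two point stabiliser. -/

set_option autoImplicit false
set_option linter.unusedSectionVars false

namespace CF.Cy.N

open MulAction Subgroup Cfsg CF.BG CF.Bender CF.ZD CF.Tw
open scoped commutatorElement

universe u v
variable {G : Type u} {Ω : Type v} [Group G] [Finite G] [MulAction G Ω] [Finite Ω]
variable {E K : Subgroup G} {a b c : Ω} {g s t u v x y : G}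

local notation "𝐅" u:max => Fx Ω (zpowers u)

theorem closed (h : Ko.T2 G Ω) (a : Ω) (fpf : ∀ (v : G) (c : Ω), Iv v → v • c ≠ c) (U : ∀ (a b : Ω) (u v : G), Sw a b u → Sw a b v → u = v)
    (hu : u * u = 1) (hv : v * v = 1) : u * v * (u * v) = 1 := by
  classical
  have od : ∀ (g : G) (d : Ω), g • d = d → PiElt {2}ᶜ g := fun g d e =>
    (pi_of_odd (odd_of_no_iv (X := stabilizer G d) fun x hx i => fpf x d i hx)).elt e
  choose j hj using fun a b (n : a ≠ b) => h.exists_sw n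
  haveI : Nonempty Ω := ⟨a⟩
  choose! c hc using fun (w : G) (e : ∃ c : Ω, w • c = c) => e
  have cm : ∀ (w : G) (d : Ω) (n : c w ≠ d), w • d = d → j _ _ n * w = w * j _ _ n := fun w d n e => by
    have := (hj _ _ n).conj w
    rw [e, hc w ⟨d, e⟩] at this
    exact (mul_inv_eq_iff_eq_mul.1 (U _ _ _ _ this (hj _ _ n))).symm
  have fp : ∀ (w : G) (d : Ω) (n : c w ≠ d), w • d = d → ∀ e : Ω, (j _ _ n * w) • e ≠ e := fun w d n e x k =>
    fpf _ _ (hj _ _ n).iv (fzp k (mem_zpowers_mul_left (cm w d n e) ((Ko.iv_elt (hj _ _ n).iv).coprime (od _ _ e))))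
  let F : (Σ w : G, fixedBy Ω w) → G := fun z => if n : c z.1 = z.2 then z.1 else j _ _ n * z.1
  have inj : Function.Injective F := by
    rintro ⟨w, d, hd⟩ ⟨w', d', hd'⟩ e
    simp only [F] at e
    split_ifs at e with n n' n'
    · subst e n n'; rfl
    · exact (fp w' d' n' hd' d (e ▸ hd)).elim
    · exact (fp w d n hd d' (e ▸ hd')).elim
    · obtain ⟨e1, rfl⟩ := piPart_unique (Ko.iv_elt (hj _ _ n).iv) (od _ _ hd) (Ko.iv_elt (hj _ _ n').iv) (od _ _ hd')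
        (cm w d n hd) (cm w' d' n' hd') e
      obtain rfl : d = d' := by rw [← (hj _ _ n).ab, e1, (hj _ _ n').ab]
      rfl
  have sur := (inj.bijective_of_nat_card_le (by
    rw [Nat.card_congr (sigmaFixedByEquivOrbitsProdGroup G Ω), Nat.card_prod]
    exact Nat.le_mul_of_pos_left _ (@Nat.card_pos _ ⟨⟦a⟧⟩ _))).2
  have same : ∀ (u v : G) (x : Ω), Iv u → v * v = 1 → u • x = v • x → u = v := fun u v x i k e =>
    U _ _ _ _ (i.sw (fpf _ _ i)) ⟨k, e.symm, (fpf _ _ i).symm⟩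
  by_cases u1 : u = 1
  · rwa [u1, one_mul]
  obtain ⟨⟨w, d, hd⟩, e⟩ := sur (u * v)
  simp only [F] at e
  split_ifs at e with n
  · rw [← same u v d ⟨u1, hu⟩ hv (by rw [← inv_eq_of_mul_eq_one_right hu, inv_smul_eq_iff, smul_smul, ← e, hd]), hu, one_mul]
  · have k := Ko.inv_zpowers hu hv (e ▸ mem_zpowers_mul_right (cm w d n hd) ((Ko.iv_elt (hj _ _ n).iv).coprime (od _ _ hd)))
    have := same u (u * w) d ⟨u1, hu⟩ (by
      rw [← inv_mul_cancel w, ← k, inv_eq_of_mul_eq_one_right hu]; simp only [mul_assoc]) (by rw [mul_smul, hd])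
    obtain rfl := left_eq_mul.1 this
    rw [← e, mul_one, (hj _ _ n).sq]

theorem hup (sq : ∀ x ∈ E, x * x = 1) (n : K ≤ 𝐍 E) (f : ∀ k ∈ K, k ∈ 𝐂 E → k = 1) (o : Odd (♯K))
    (tr : ∀ u ∈ E, ∀ v ∈ E, u ≠ 1 → v ≠ 1 → ∃ k ∈ K, k * u * k⁻¹ = v) :
    (∀ g ∈ Cfsg.fittingOf K, ∀ u ∈ E, g * u = u * g → g = 1 ∨ u = 1) ∧ ⁅K, K⁆ ≤ Cfsg.fittingOf K := by
  let _ : CommGroup E := { (inferInstance : Group E) with mul_comm := fun u v => Subtype.ext ((abel_of_sq sq).mul_comm u.2 v.2) }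
  let ψ := E.normalizerMonoidHom.comp (inclusion n)
  let _ : DistribMulAction K (Additive E) :=
    { smul := fun d e => Additive.ofMul (ψ d e.toMul)
      one_smul := fun e => by show Additive.ofMul (ψ 1 e.toMul) = e; simp
      mul_smul := fun d d' e => by show Additive.ofMul (ψ (d * d') e.toMul) = Additive.ofMul (ψ d (ψ d' e.toMul)); simp
      smul_zero := fun d => by show Additive.ofMul (ψ d 1) = 0; simp
      smul_add := fun d e e' => by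
        show Additive.ofMul (ψ d (e.toMul * e'.toMul)) = Additive.ofMul (ψ d e.toMul) + Additive.ofMul (ψ d e'.toMul)
        simp }
  have e : ∀ (d : K) (u v : E), d • Additive.ofMul u = Additive.ofMul v ↔ (d : G) * u * (d : G)⁻¹ = v := fun d u v =>
    Additive.ofMul.injective.eq_iff.trans Subtype.ext_iff
  haveI : FaithfulSMul K (Additive E) := ⟨fun {d d'} h => Subtype.ext (inv_mul_eq_one.1 (f _ (mul_mem (inv_mem d.2) d'.2)
    (mem_cent.2 fun x hx => by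
      have := (e d ⟨x, hx⟩ ⟨_, conj_mem_of_norm (n d'.2) hx⟩).1 ((h _).trans ((e _ _ _).2 rfl))
      calc x * ((d : G)⁻¹ * d') = (d : G)⁻¹ * (d * x * (d : G)⁻¹) * d' := by group
        _ = _ := by rw [show (d : G) * x * (d : G)⁻¹ = d' * x * (d' : G)⁻¹ from this]; group)))⟩
  haveI : Group.IsSolvable K := sol_of_odd o
  obtain ⟨-, h1, h2⟩ := Suz.huppert_prop (D := K) (E := Additive E) o Nat.prime_two
    (fun x => by rw [two_nsmul]; exact congrArg Additive.ofMul (Subtype.ext (sq _ x.toMul.2))) fun x y hx hy =>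
      let ⟨k, hk, m⟩ := tr _ x.toMul.2 _ y.toMul.2 (fun e => hx (congrArg Additive.ofMul (Subtype.ext e)))
        fun e => hy (congrArg Additive.ofMul (Subtype.ext e))
      ⟨⟨k, hk⟩, (e _ _ _).2 m⟩
  refine ⟨?_, ?_⟩
  · rintro _ ⟨g, hg, rfl⟩ u hu c
    exact or_iff_not_imp_left.2 fun m => congrArg (fun x : Additive E => (x.toMul : G)) (h1 g hg (fun e => m (congrArg _ e)) (Additive.ofMul ⟨u, hu⟩)
      ((e _ _ _).2 (mul_inv_eq_iff_eq_mul.2 c)))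
  · have := map_mono (f := K.subtype) h2
    rwa [_root_.commutator_def, map_commutator, map_top_subtype] at this

theorem flag (sq : ∀ x ∈ E, x * x = 1) (n : K ≤ 𝐍 E) (f : ∀ k ∈ K, k ∈ 𝐂 E → k = 1) (o : Odd (♯K))
    (tr : ∀ u ∈ E, ∀ v ∈ E, u ≠ 1 → v ≠ 1 → ∃ k ∈ K, k * u * k⁻¹ = v) (ht : t ∈ E) (t1 : t ≠ 1) (k1 : K ≠ ⊥)
    (tr' : ∀ u ∈ E, ∀ v ∈ E, u ∉ zpowers t → v ∉ zpowers t → ∃ k ∈ K ⊓ 𝐂₁ t, v * (k * u * k⁻¹) ∈ zpowers t) :
    2 ^ ♯(K ⊓ 𝐂₁ t) ≤ ♯E := by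
  obtain ⟨h1, h2⟩ := hup sq n f o tr
  have l := F_le K
  have ab : Abel (K ⊓ 𝐂₁ t) := der_eq_bot.1 (eq_bot_of_forall fun x hx => (h1 x (h2 (commutator_mono inf_le_left inf_le_left hx)) t ht
    (mem_cent1.1 (BG.der_le _ hx).2)).resolve_right t1)
  have r : Reg (Cfsg.fittingOf K) (K ⊓ 𝐂₁ t) := fun y hy y1 => eq_bot_of_forall fun x hx => by
    have lt : zpowers t ≤ 𝐂₁ y := zpowers_le.2 (mem_cent1_comm.1 hy.2)
    have m : x * t * x⁻¹ ∈ zpowers t := by_contra fun m => y1 (f y hy.1 (le_cent1_iff.1 fun v hv => by_contra fun m' => by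
      obtain ⟨k, hk, e⟩ := tr' _ (conj_mem_of_norm (n (l hx.1)) ht) v hv m fun e => m' (lt e)
      have c : k ∈ 𝐂₁ y := mem_cent1.2 (ab.mul_comm hk hy)
      exact m' ((mul_mem_cancel_right (mul_mem (mul_mem c (mul_mem (mul_mem hx.2 (lt (mem_zpowers t))) (inv_mem hx.2))) (inv_mem c))).1
        (lt e))))
    exact (h1 x hx.1 t ht (mul_inv_eq_iff_eq_mul.1 ((iv_zpowers ⟨t1, sq t ht⟩ m).resolve_left (by simpa using t1)))).resolve_right t1
  have le : Cfsg.fittingOf K ⊔ K ⊓ 𝐂₁ t ≤ K := sup_le l inf_le_left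
  have w := BG2.wielandt r (inf_le_left.trans (F_normal K).norm) (F_nil K).sol (abel_of_sq sq).sol (le.trans n)
    (((pi_of_odd o).le le).coprime' (Hk.pi_of_sq sq))
  obtain ⟨g, hg, g1⟩ := exists_mem_ne_one ((sol_of_odd o).F_ne_bot k1)
  have e : E ⊓ 𝐂 (Cfsg.fittingOf K) = ⊥ := eq_bot_of_forall fun u hu => (h1 g hg u hu.1 (mem_cent.1 hu.2 g hg)).resolve_left g1
  rw [e, BG.eq_bot_mono e (inf_le_inf_left _ (cent_anti le_sup_left)), card_bot, one_pow, one_mul, mul_one] at w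
  rw [w]
  exact Nat.pow_le_pow_left (one_lt_card.2 (ne_bot_of_mem (mem_inf.2 ⟨ht, le_cent1_iff.1 inf_le_right⟩) t1)) _

section
variable (h : Ko.CI t a b) (ev : Nat.card Ω % 2 = 0) (two : ∀ c d : Ω, c ≠ d → ∀ x ∈ D2 G c d, PiElt {2} x → x * x = 1)
  (cen : ∀ (c d : Ω) (s : G), Sw c d s → s ∈ 𝐂 (D2 G c d))
include h ev two cen

theorem sq2 (hg : g ∈ 𝐂₁ t) (k : PiElt {2} g) (m : g * g ∈ Ko.WW Ω t) : g * g = 1 := by
  by_cases e : g • a = a
  · obtain ⟨d, hd, n⟩ := exists_second ((modp Nat.prime_two k fun _ => Ko.cent_fx hg).symm.trans ((Ko.par_fx h.iv).trans ev)) ⟨h.ha, e⟩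
    exact two _ _ n g ⟨hd.2, e⟩ k
  obtain ⟨s, j⟩ := h.exists_sw (Ne.symm e)
  have hs : s * g ∈ D2 G a (g • a) := mem_D2.2 ⟨by rw [mul_smul, j.ba], by rw [mul_smul, smul_smul g, Ko.W_smul m h.ha, j.ab]⟩
  have c : s * g = g * s := by
    have := mem_cent.1 (cen _ _ s j) _ hs
    rwa [mul_assoc, mul_left_cancel_iff, eq_comm] at this
  have := two _ _ j.ne _ hs ((Ko.iv_elt j.iv).mul k c)
  rwa [mul_assoc, ← mul_assoc g, ← c, ← mul_assoc, ← mul_assoc, j.sq, one_mul] at this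

theorem fix_W (hg : g ∈ 𝐂₁ t) (m : g * g ∈ Ko.WW Ω t) (hc : c ∈ 𝐅 t) (e : g • c = c) : g ∈ Ko.WW Ω t := by
  obtain ⟨x, z, hx, hz, k1, k2, rfl⟩ := exists_piPart {2} g
  have sq : ∀ y ∈ zpowers (x * z), y * y ∈ Ko.WW Ω t := by
    rintro _ ⟨i, rfl⟩
    exact (Commute.refl (x * z)).mul_zpow i ▸ zpow_mem m i
  refine mul_mem ?_ (zpowers_le.2 (pow_two z ▸ sq z hz) (mem_zpowers_pow_iff.2 ((piNat_compl_single_iff_coprime Nat.prime_two).1 k2).symm))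
  have hx' := zpowers_le.2 hg hx
  rcases Ko.iv_or (sq2 h ev two cen hx' k1 (sq x hx)) fun i => by_contra fun n => h.fpf ev i hx' n hc (fzp e hx) with rfl | rfl
  exacts [one_mem _, Ko.mem_W]

theorem mul_sq (hu : u ∈ 𝐂₁ t) (hv : v ∈ 𝐂₁ t) (i : u * u = 1) (j : v * v = 1) : u * v * (u * v) = 1 := by
  obtain ⟨X, _, _, _, π, q⟩ := Ko.exists_quot h.ctt.inv
  have e : ∀ y, π y = 1 ↔ (y : G) ∈ Ko.WW Ω t := fun y => q.eq_one.trans Ko.fix_iff.symm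
  have fx : ∀ (y : X) (c : 𝐅 t), y * y = 1 → y • c = c → y = 1 := fun y c i m => by
    obtain ⟨y, rfl⟩ := q.sur y
    exact (e y).2 (fix_W h ev two cen y.2 ((e (y * y)).1 (map_mul π _ _ ▸ i)) c.2 (q.iff.1 m))
  have U : ∀ (c d : 𝐅 t) (s : 𝐂₁ t) (y : X), Sw (c : Ω) d (s : G) → Sw c d y → y = π s := fun c d s y j k => by
    obtain ⟨y, rfl⟩ := q.sur y
    have j' := q.sw j
    have m := Ko.sw_mul j' k
    have c : π s * (π s * π y) = π s * π y * π s := by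
      rw [← map_mul, ← map_mul, ← map_mul]
      exact congrArg π (Subtype.ext (mem_cent.1 (cen _ _ _ j) _ (q.d2.1 (map_mul π _ _ ▸ m))).symm)
    rw [eq_inv_of_mul_eq_one_right (fx _ _ (by rw [← mul_assoc, ← c, ← mul_assoc, j'.sq, one_mul, k.sq]) m.1), j'.inv]
  have m := (e (⟨u, hu⟩ * ⟨v, hv⟩ * (⟨u, hu⟩ * ⟨v, hv⟩))).1 (by
    rw [map_mul, map_mul]
    refine closed (q.t2 h.ctt) ⟨a, h.ha⟩ (fun y c i m => i.ne (fx y c i.sq m)) (fun c d y z j k => ?_) ?_ ?_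
    · obtain ⟨s, l⟩ := h.exists_sw (Subtype.coe_injective.ne j.ne)
      have hs := (h.move l.ne c.2 d.2).sw_c l
      rw [U c d ⟨s, hs⟩ y l j, U c d ⟨s, hs⟩ z l k]
    all_goals rw [← map_mul, ← map_one π]; exact congrArg π (Subtype.ext ‹_›))
  change u * v * (u * v) ∈ _ at m
  refine sq2 h ev two cen (mul_mem hu hv) ((piNat_pow_self Nat.prime_two 2).dvd (orderOf_dvd_of_pow_eq_one ?_)) m
  have c : u * (u * v * (u * v)) = u * v * (u * v) * u := by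
    rcases eq_or_ne u 1 with rfl | u1
    · simp
    rcases eq_or_ne u t with rfl | n
    · exact (mem_cent1.1 (mul_mem (mul_mem hu hv) (mul_mem hu hv))).symm
    exact (mem_cent.1 (cen _ _ u (Iv.sw ⟨u1, i⟩ (h.fpf ev ⟨u1, i⟩ hu n h.ha))) _
      (mem_D2.2 ⟨Ko.W_smul m h.ha, Ko.W_smul m (Ko.cent_fx hu h.ha)⟩)).symm
  have := Ko.inv_zpowers i j (mul_mem (mem_zpowers _) (mem_zpowers _))
  rw [c, mul_inv_cancel_right, eq_inv_iff_mul_eq_one] at this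
  rw [← this, pow_two, pow_mul, pow_two, pow_two]

theorem no4 (one : ∀ u : G, Iv u → IsConj t u) (k : PiElt {2} x) : x * x = 1 := by_contra fun m => by
  obtain ⟨_, ⟨i, rfl⟩, n, e⟩ := Ab2.exists_sq_mem (H := ⊥) (k.mul k rfl) m
  simp only [(Commute.refl x).mul_zpow] at n e
  obtain ⟨g, e'⟩ := isConj_iff.1 (one _ ⟨n, e⟩).symm
  rw [← conj_mul] at e'
  exact h.iv.ne (e' ▸ sq2 h ev two cen (mem_cent1.2 (by rw [← e']; exact (mul_assoc _ _ _).symm)) ((k.of_mem_zpowers (zpow_mem_zpowers x i)).conj g)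
    (e' ▸ Ko.mem_W))

theorem ce' (one : ∀ u : G, Iv u → IsConj t u) : Nat.card Ω = 6 ∨ Nat.card Ω = 28 := by
  let E : Subgroup G := ⟨⟨⟨{x | x ∈ 𝐂₁ t ∧ x * x = 1}, fun {u v} hu hv => ⟨mul_mem hu.1 hv.1, mul_sq h ev two cen hu.1 hv.1 hu.2 hv.2⟩⟩,
    one_mem _, one_mul 1⟩, fun {u} hu => ⟨inv_mem hu.1, by rw [← mul_inv_rev, hu.2, inv_one]⟩⟩
  have hE : ∀ x, x ∈ E ↔ x ∈ 𝐂₁ t ∧ x * x = 1 := fun _ => Iff.rfl
  clear_value E
  have sq : ∀ x ∈ E, x * x = 1 := fun x hx => ((hE x).1 hx).2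
  have lE : E ≤ 𝐂₁ t := fun x hx => ((hE x).1 hx).1
  have ab := abel_of_sq sq
  have nE : 𝐂₁ t ≤ 𝐍 E := le_norm_iff.2 fun g hg x hx => (hE _).2 ⟨mul_mem (mul_mem hg (lE hx)) (inv_mem hg), by
    rw [conj_mul, sq x hx, mul_one, mul_inv_cancel]⟩
  have ht : t ∈ E := (hE t).2 ⟨mem_cent1.2 rfl, h.iv.sq⟩
  have sw : ∀ c ∈ 𝐅 t, ∀ d ∈ 𝐅 t, ∀ s, Sw c d s → s ∈ E := fun c hc d hd s j => (hE s).2 ⟨(h.move j.ne hc hd).sw_c j, j.sq⟩
  have kv : ∀ c ∈ 𝐅 t, ∀ d ∈ 𝐅 t, ∀ s u, Sw c d s → Sw c d u → s * u = 1 ∨ s * u = t := fun c hc d hd s u j k =>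
    Ko.iv_or (sq _ (mul_mem (sw c hc d hd s j) (sw c hc d hd u k))) fun i => (h.move j.ne hc hd).eq i (Ko.sw_mul j k)
  have sy : Syl 2 E ⊤ := (syl_of_max lE (Hk.pi_of_sq sq) fun P l k m => le_antisymm (fun x hx => (hE x).2 ⟨l hx, no4 h ev two cen one (k.elt hx)⟩) m).trans_idx
    le_top ((piNat_compl_single p2).2 (relIndex_top_right (𝐂₁ t) ▸ (Ko.odd_idx h.iv one).not_two_dvd_nat))
  have tr : ∀ u ∈ E, u ≠ 1 → ∃ g ∈ 𝐍 E, g * t * g⁻¹ = u := fun u hu u1 =>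
    let ⟨g, e⟩ := isConj_iff.1 (one u ⟨u1, sq u hu⟩)
    let ⟨g, _, m, e⟩ := PG.burnside_fus sy (ab ht) (ab hu) (mem_top g) e
    ⟨g, m, e⟩
  have sN := sy.of_le (le_norm_self E) le_top
  obtain ⟨K, d⟩ := exists_compl ⟨le_norm_self E, le_rfl⟩ (sN.pi.coprime sN.idx)
  have oK := d.pi'_right sN
  have fx : ∀ k ∈ 𝐂 E, PiElt {2}ᶜ k → ∀ c ∈ 𝐅 t, k • c = c := fun k hk o c hc => by_contra fun n => by
    obtain ⟨s, j⟩ := h.exists_sw (Ne.symm n)
    exact n (j.ab.symm.trans (fzp (show (s * k) • c = c by rw [mul_smul, j.ba]) (mem_zpowers_mul_left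
      (mem_cent.1 hk s (sw c hc _ (Ko.cent_fx (mem_cent1.2 (mem_cent.1 hk t ht).symm) hc) s j)) ((Ko.iv_elt j.iv).coprime o))))
  have f : ∀ k ∈ K, k ∈ 𝐂 E → k = 1 := fun k hk m => h.ff k fun c => by
    obtain ⟨u, hu, u1, e⟩ : ∃ u ∈ E, u ≠ 1 ∧ u • c = c := by
      by_cases e : t • c = c
      · exact ⟨t, ht, h.iv.ne, e⟩
      obtain ⟨g, e1, e2⟩ := h.tt a b _ _ h.ne (Ne.symm e)
      have := h.cj g
      rw [e1, e2] at this
      exact ⟨_, (hE _).2 ⟨mem_cent1_comm.1 (this.sw_c (h.iv.sw e)), this.iv.sq⟩, this.iv.ne, this.mem.1⟩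
    obtain ⟨g, hg, rfl⟩ := tr u hu u1
    obtain ⟨c, rfl⟩ := MulAction.surjective g c
    have := conj_smul (fx _ (conj_mem_of_norm' (norm_le_norm_cent _ hg) m) (by simpa using (oK.elt hk).conj g⁻¹) c (fx_zp.2 (by simpa [mul_assoc] using conj_smul' e))) g
    simpa [mul_assoc] using this
  have dec : ∀ g ∈ 𝐍 E, ∃ k ∈ K, g⁻¹ * k ∈ E ∧ ∀ u ∈ E, k * u * k⁻¹ = g * u * g⁻¹ := fun g hg => by
    obtain ⟨k, hk, x, hx, rfl⟩ := d.exists_mul' hg
    exact ⟨k, hk, by simpa using hx, fun u hu => by rw [mul_assoc k x, ab.mul_comm hx hu]; group⟩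
  obtain ⟨s, j⟩ := h.exists_sw h.ne
  have tK : ∀ u ∈ E, ∀ v ∈ E, u ≠ 1 → v ≠ 1 → ∃ k ∈ K, k * u * k⁻¹ = v := fun u hu v hv u1 v1 => by
    obtain ⟨g, hg, rfl⟩ := tr u hu u1
    obtain ⟨g', hg', rfl⟩ := tr v hv v1
    obtain ⟨k, hk, -, e⟩ := dec _ (mul_mem hg' (inv_mem hg))
    exact ⟨k, hk, by rw [e _ hu]; group⟩
  have w := flag sq d.norm f (odd_of_pi oK) tK ht h.iv.ne (fun e => by
    obtain ⟨k, hk, e'⟩ := tK s (sw a h.ha b h.hb s j) t ht j.iv.ne h.iv.ne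
    rw [e, mem_bot] at hk
    exact h.sw_ne j (by simpa [hk] using e')) fun u hu v hv m m' => by
      have F : ∀ u ∈ E, u ∉ zpowers t → Sw a (u • a) u := fun u hu m =>
        have i : Iv u := ⟨fun e => m (e ▸ one_mem _), sq u hu⟩
        i.sw (h.fpf ev i (lE hu) (fun e => m (e ▸ mem_zpowers _)) h.ha)
      obtain ⟨g, hg, e1, e2⟩ := h.ctt.tt a h.ha _ (Ko.cent_fx (lE hu) h.ha) a h.ha _ (Ko.cent_fx (lE hv) h.ha) (F u hu m).ne (F v hv m').ne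
      obtain ⟨k, hk, l, e⟩ := dec g (nE hg)
      have := (F u hu m).conj g
      rw [e1, e2] at this
      refine ⟨k, ⟨hk, (mul_mem_cancel_left (inv_mem hg)).1 (lE l)⟩, ?_⟩
      rcases kv a h.ha _ (Ko.cent_fx (lE hv) h.ha) _ _ (F v hv m') this with e' | e' <;> rw [e u hu, e']
      exacts [one_mem _, mem_zpowers t]
  have e : Ko.AS t a b = {s, s * t} := Set.ext fun u => ⟨fun hu => (kv a h.ha b h.hb _ _ j hu.2).imp
    (fun e => by rw [eq_inv_of_mul_eq_one_right e, j.inv]) fun e => by rw [← e, ← mul_assoc, j.sq, one_mul]; rfl, by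
    rintro (rfl | rfl)
    exacts [⟨one _ j.iv, j⟩, ⟨one _ (h.sw_t j).iv, h.sw_t j⟩]⟩
  have c1 := h.cnt1
  have c2 := h.cnt2 ev
  rw [e, Set.ncard_pair fun e => h.iv.ne (left_eq_mul.1 e)] at c2
  have c3 : ♯E ≤ (Ko.AA t).ncard + 1 + 1 := (Set.ncard_le_ncard (t := insert 1 (insert t (Ko.AA t))) fun x hx =>
    or_iff_not_imp_left.2 fun x1 => or_iff_not_imp_left.2 fun n => ⟨one x ⟨x1, sq x hx⟩, lE hx, n⟩).trans
      ((Set.ncard_insert_le _ _).trans (Nat.succ_le_succ (Set.ncard_insert_le _ _)))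
  have c4 := (d.inf_of_left_le lE).card
  have fe := (Ko.par_fx h.iv).trans ev
  have f2 := h.two_le
  rw [inf_eq_right.2 nE, h.card_C] at c4
  have c5 := Nat.le_of_dvd Nat.card_pos ((((piNat_compl_single p2).2 (by omega)).coprime' sy.pi).dvd_of_dvd_mul_left
    (show (𝐅 t).ncard - 1 ∣ ♯E * ♯(K ⊓ 𝐂₁ t) from c4 ▸ (Dvd.intro_left _ rfl).mul_left _))
  have c6 : ♯(K ⊓ 𝐂₁ t) < 4 := by_contra fun l => by
    obtain ⟨m, hm⟩ := Nat.exists_eq_add_of_le' (not_lt.1 l)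
    have := @Nat.lt_two_pow_self m
    rw [hm, pow_add] at w
    omega
  obtain f | f : (𝐅 t).ncard = 2 ∨ (𝐅 t).ncard = 4 := by omega
  all_goals rw [c2, f, ev] at c1; simp [c1]

end

theorem ce (h : Ko.CI t a b) (ev : Nat.card Ω % 2 = 0) (one : ∀ u : G, Iv u → IsConj t u)
    (two : ∀ x ∈ D2 G a b, PiElt {2} x → x * x = 1) (cen : ∀ s, Sw a b s → s ∈ 𝐂 (D2 G a b)) : Nat.card Ω = 6 ∨ Nat.card Ω = 28 := by
  refine ce' h ev (fun c d n x hx k => ?_) (fun c d s j => ?_) one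
  · obtain ⟨g, rfl, rfl⟩ := h.tt c d a b n h.ne
    have := two _ (cj_D2 g c d ▸ conj_mem_cj.2 hx) (k.conj g)
    rwa [conj_mul, conj_eq_one_iff] at this
  · obtain ⟨g, rfl, rfl⟩ := h.tt c d a b j.ne h.ne
    have := cen _ (j.conj g)
    rwa [← cj_D2, ← cj_cent, conj_mem_cj] at this

end CF.Cy.N
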