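import Cfsg.Agent.JR.Ree2
import Cfsg.Agent.Ab2.Fin4
import Cfsg.Agent.TsY.MSInv3
import Cfsg.Agent.Perm.BinSE
import Cfsg.Agent.Spec.J1
import Cfsg.Agent.S0283

/-! Goldschmidt groups and sections isomorphic to `S₃`, `S₄`. -/

set_option autoImplicit false
set_option linter.unusedSectionVars false

namespace CF.JR
open Subgroup Cfsg CF.BG CF.GW CF.Classical
open CF.Transfer (involves_card_dvd involves_trans involves_quotient)
open CF.Ab2 (p2 NS AbS ns_top)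
open scoped MatrixGroups

universe u
variable {G : Type u} [Group G] [Finite G] {q : ℕ} {H K S X : Subgroup G} {t : G}

theorem not_s4_of_abs (h : AbS (⊤ : Subgroup G)) : ¬ Involves (Equiv.Perm (Fin 4)) G := fun i => by
  obtain ⟨T, k, j⟩ := Loc.involves_S4_iff.1 i
  exact (A2.odd (fun _ k => h.abel le_top k) (piGrp_of_isPGroup p2 k) (X := 𝐍 T) le_normalizer).not_dvd' p2 rfl
    ((by simp [Fintype.card_perm, Nat.factorial] : 2 ∣ Nat.card (Equiv.Perm (Fin 3))).trans (involves_card_dvd j))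

theorem not_s4_of_se [IsSimpleGroup G] (h : IsStronglyEmbedded H) : ¬ Involves (Equiv.Perm (Fin 4)) G := fun i => by
  obtain ⟨T, k, j⟩ := Loc.involves_S4_iff.1 i
  obtain ⟨-, S, rfl⟩ := Bender.se_simple Bender.part2 h
  have s := (syl_sylow_top S).of_le le_normalizer le_top
  have k := piGrp_of_isPGroup p2 k
  obtain ⟨g, -, l⟩ := (syl_sylow_top S).syl_cj_le le_top k
  have e : Even (♯(BG.cj g T)) := even_iff_two_dvd.2 ((k.cj g).dvd_card fun e => by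
    have d := involves_card_dvd j
    rw [show Nat.card _ = (𝐂 T).relIndex (𝐍 T) from rfl, cj_eq_iff.1 e, relIndex_eq_one.2 (by simp)] at d
    simp [Fintype.card_perm, Nat.factorial] at d)
  obtain ⟨x, hx, y, hy, ⟨m, a⟩, o, c⟩ := (MS.inv_map_inj (Loc.inv_top_iff.1 (Loc.involves_S3_iff.1
    (involves_trans j (involves_quotient _)))) Nat.prime_three (conj_inj g)).mono ((cj_norm g T).le.trans
      ((Invol.sEmb_of_se h).normalizer_le (l.trans le_normalizer) e))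
  have xS := s.mem_normal le_rfl hx ((piNat_pow_self p2 m).dvd (orderOf_dvd_of_pow_eq_one a))
  have : y ∈ (S : Subgroup G) := mem_of_sq_mem (o ▸ by decide) (by
    rw [show y * y = y * x * y⁻¹ * (y * x⁻¹ * y) by group, ← inv_inv (y * x⁻¹ * y), show (y * x⁻¹ * y)⁻¹ =
      y⁻¹ * (x * y⁻¹ * x⁻¹) * x by group, ← conj_inv, c, inv_inv, inv_mul_cancel, one_mul]
    exact mul_mem (conj_mem_of_norm hy xS) (inv_mem xS))
  exact (s.pi.elt this).not_dvd Nat.prime_three (by decide) o.symm.dvd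

theorem IsL.syl (h : IsL q X) (e : q % 8 = 3 ∨ q % 8 = 5) : ∃ V, Syl 2 V X ∧ Abel V := by
  have o : Odd q := Nat.odd_iff.2 (by omega)
  obtain ⟨v, hv, w, hw, ρ, -, c⟩ := h.a4 o
  have l := V4_le.2 ⟨hv, hw⟩
  refine ⟨_, syl_mk p2 l c.fp.pi fun ⟨m, d⟩ => ?_, c.fp.abel⟩
  have := h.card o
  rw [← card_mul_relIndex l, c.fp.card, d] at this
  obtain ⟨n, rfl | rfl⟩ : ∃ n, q = 8 * n + 3 ∨ q = 8 * n + 5 := ⟨q / 8, by omega⟩
  · rw [show (8 * n + 3) ^ 2 - 1 = 16 * (4 * n ^ 2 + 3 * n) + 8 from Nat.sub_eq_of_eq_add (by ring), mul_add,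
      mul_left_comm _ 16] at this; omega
  · rw [show (8 * n + 5) ^ 2 - 1 = 16 * (4 * n ^ 2 + 5 * n + 1) + 8 from Nat.sub_eq_of_eq_add (by ring), mul_add,
      mul_left_comm _ 16] at this; omega

theorem IsL.inv3 (h : IsL q X) (o : Odd q) (n : ¬ 3 ∣ q) : Loc.Inv 3 (⊤ : Subgroup G) := by
  obtain ⟨v, -, w, -, ρ, m, c⟩ := h.a4 o
  have ρ1 : ρ ≠ 1 := fun e => by simpa [e] using c.ord
  obtain ⟨Θ, τ, k⟩ := h.tq o m ρ1 (c.ord ▸ (Nat.prime_three.coprime_iff_not_dvd).2 n)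
  obtain ⟨z, hz, a⟩ := SetLike.not_le_iff_exists.1 fun l : X ⊓ 𝐍 Θ ≤ Θ => by
    have := card_le l
    have := card_pos' Θ
    have := τ.nrm
    omega
  exact MS.inv_of_real ⟨z, ((τ.out ρ k ρ1 z hz.1 (conj_mem_of_norm hz.2 k)).resolve_left a).2 ρ k⟩ c.ord

theorem pow3_mod (n : ℕ) : 3 ^ (2 * n) % 8 = 1 := by rw [pow_mul, Nat.pow_mod]; simp

theorem isL_top {F : Type} [Field F] [Fintype F] (e : G ≃* PSL(2, F)) : IsL (Fintype.card F) (⊤ : Subgroup G) :=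
  ⟨F, _, _, rfl, ⟨topEquiv.trans e⟩⟩

theorem s3free_psl {F : Type} [Field F] [Fintype F] (e : G ≃* PSL(2, F))
    (c : Fintype.card F % 8 = 3 ∨ Fintype.card F % 8 = 5) (h : ¬ Loc.Inv 3 (⊤ : Subgroup G)) :
    IsSuzukiOrPSL2OddPowerThree G := by
  have d := not_not.1 (mt ((isL_top e).inv3 (Nat.odd_iff.2 (by omega))) h)
  obtain ⟨p, n, hp, -, k⟩ := (isL_top e).pp
  obtain rfl := (Nat.prime_dvd_prime_iff_eq Nat.prime_three hp).1 (Nat.prime_three.dvd_of_dvd_pow (k ▸ d))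
  obtain ⟨m, rfl | rfl⟩ := n.even_or_odd'
  · rw [k, pow3_mod] at c; omega
  · exact .inr ⟨F, _, _, m, k, ⟨e⟩⟩

/-- simple groups not involving `S₃` -/
theorem s3free (n : NS (⊤ : Subgroup G)) (h : ¬ Loc.Inv 3 (⊤ : Subgroup G)) : IsSuzukiOrPSL2OddPowerThree G := by
  rcases MS.abs_or n h with ⟨S, s, a⟩ | d
  · rcases walter_cases n s a with ⟨F, _, _, c | c, ⟨e⟩⟩ | ⟨t, K, q, r, -⟩ | ⟨t, K, S, F, k⟩
    · exact .inl (Sig.suz_of_bender (.inl ⟨F, _, _, c, ⟨e⟩⟩) h)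
    · exact s3free_psl e c.2 h
    · obtain ⟨x, o, e, -⟩ := r.exists_inv
      exact (h (MS.inv_of_real ⟨t, e⟩ o)).elim
    · exact (h (k.isL.inv3 k.oq (by decide))).elim
  · exact .inl (Fgs1.suz_of_three n (card_top' (G := G) ▸ d))

theorem not_three_suz (h : Lie.IsoSuzuki G) : ¬ 3 ∣ Nat.card G := by
  obtain ⟨F, _, _, T, -, ⟨D⟩⟩ := Sig.exists_szData h
  exact D.not_three_dvd_card

theorem not_inv3 (h : IsSuzukiOrPSL2OddPowerThree G) : ¬ Loc.Inv 3 (⊤ : Subgroup G) :=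
  fun ⟨x, _, y, _, ⟨k, a⟩, o, c⟩ => by
  rcases h with h | ⟨F, _, _, n, f, ⟨e⟩⟩
  · exact not_three_suz h (o ▸ orderOf_dvd_natCard y)
  have := pow3_mod n
  have y1 : y ≠ 1 := fun e => by simp [e] at o
  have ny := Loc.ne_inv_of_odd (o ▸ by decide) y1
  obtain ⟨-, -, u, w⟩ := (f ▸ isL_top e).unip (Odd.pow (by decide)) (mem_top y) y1 (dvd_pow_self 3 (by omega))
    ((piNat_self Nat.prime_three).dvd o.dvd)
  have px : PiElt {2} x := (piNat_pow_self p2 k).dvd (orderOf_dvd_of_pow_eq_one a)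
  refine w (by rw [pow_succ]; omega) x trivial (.mk' (fun e => ny (by simpa [e] using c)) ((px.mul px rfl).eq_one
    ((piElt_of_pow_eq_one Nat.prime_three (u _ ⟨trivial, mem_cent1.2 (mul_inv_eq_iff_eq_mul.1 ?_)⟩)).of_single'
      (by decide)))) (c ▸ inv_mem (self_mem_cent1 y))
  rw [show _ * (x * x)⁻¹ = x * (x * y * x⁻¹) * x⁻¹ by group, c, ← conj_inv, c, inv_inv]

theorem ree_abs (h : IsReeType G) : AbS (⊤ : Subgroup G) := by
  obtain ⟨-, -, t, K, n, -, i, o, ⟨a, b, c, -, e⟩, F, _, _, f, k⟩ := h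
  obtain ⟨V, s, v⟩ := IsL.syl (⟨F, _, _, f, k⟩ : IsL _ K) (.inl (by have := pow3_mod n; rw [pow_succ]; omega))
  have ct : zpowers t ≤ 𝐂 K := fun x hx => mem_cent.2 fun y hy => (c x hx y hy).symm
  have cV := ct.trans (cent_anti s.le)
  refine ⟨zpowers t ⊔ V, Hall.trans_idx ⟨sup_le a (s.le.trans b), (Iv.piGrp i).sup s.pi (.inl (norm_of_cent cV)), ?_⟩
    le_top (relIndex_top_right (𝐂₁ t) ▸ (piNat_compl_single p2).2 o.not_two_dvd_nat), (abel_zpowers t).sup v cV⟩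
  rw [← e, ← sup_eq_right.2 s.le, ← sup_assoc, relIndex_sup_norm' (.inr (sup_le (norm_of_cent ct) (norm_of_le s.le)))]
  exact s.idx_of_le le_sup_right

theorem j1_ns (h : Spor.IsoJ1 G) : NS (⊤ : Subgroup G) := by
  obtain ⟨s, c⟩ := isJ1_of_iso h
  refine ns_top fun k => ?_
  obtain ⟨x, -, i⟩ := exists_iv (K := (⊤ : Subgroup G)) (by rw [card_top', c]; decide)
  rcases (normal_of_comm (zpowers x)).eq_bot_or_eq_top with e | e
  · exact i.ne_one (zpowers_eq_bot.1 e)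
  · have := i.card
    rw [e, card_top', c] at this; omega

theorem j1_s4 (h : Spor.IsoJ1 G) : ¬ Involves (Equiv.Perm (Fin 4)) G := fun i => by
  obtain ⟨e⟩ := h
  obtain ⟨K, f, hf⟩ := Transfer.involves_iff.1 i
  obtain ⟨x, k⟩ := hf (finRotate 4)
  obtain ⟨m, a, b⟩ := Spec.J1.sp.ub (e x)
  have : finRotate 4 ^ m = 1 := by
    rw [← k, ← map_pow, show x ^ m = 1 from Subtype.ext (e.injective (by simpa using b)), map_one]
  clear b; revert m; decide

theorem gold_s4 (h : IsGoldschmidtGroup G) : ¬ Involves (Equiv.Perm (Fin 4)) G := by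
  rcases h with h | ⟨F, _, _, n, l, c, ⟨e⟩⟩ | h | ⟨F, _, _, n, l, c, ⟨e⟩⟩ | ⟨F, _, _, q, rfl, -, c, ⟨e⟩⟩ | h
  · exact not_s4_of_abs (ree_abs h)
  · exact not_s4_of_abs (Ab2.abS_psl (by omega) c e)
  · exact fun i => not_three_suz h (.trans (by simp [Fintype.card_perm, Nat.factorial]) (involves_card_dvd i))
  · have c' : Fintype.card F = (2 ^ n) ^ 2 := by rw [c, ← pow_mul', pow_mul]; rfl
    have := Agent.S0283.result c' 3 le_rfl fun k => by have := Nat.pow_le_pow_right two_pos l; omega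
    have : CharP F 2 := charP_of_card_eq_prime_pow (p := 2) (c'.trans (pow_mul ..).symm)
    obtain ⟨H, k⟩ := Perm.se_su3 (F := F) (n := n) (by omega)
    exact fun i => not_s4_of_se k (involves_trans i (Transfer.involves_of_equiv e.symm))
  · exact not_s4_of_abs ((isL_top e).syl c)
  · exact j1_s4 h

theorem gold_s3 (h : IsGoldschmidtGroup G) (k : ¬ Loc.Inv 3 (⊤ : Subgroup G)) : IsSuzukiOrPSL2OddPowerThree G := by
  rcases h with h | ⟨F, _, _, n, l, c, e⟩ | h | ⟨F, _, _, n, l, c, e⟩ | ⟨F, _, _, q, rfl, -, c, ⟨e⟩⟩ | h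
  · exact have := h.1; s3free (ns_top h.2.1) k
  · exact .inl (Sig.suz_of_bender (.inl ⟨F, _, _, ⟨n, by omega, c⟩, e⟩) k)
  · exact .inl h
  · exact .inl (Sig.suz_of_bender (.inr (.inr ⟨F, _, _, n, l, by rw [c, ← pow_mul', pow_mul]; rfl, e⟩)) k)
  · exact s3free_psl e c k
  · exact s3free (j1_ns h) k

theorem s2757 (T : Sylow 3 G) (h : ∀ x ∈ (T : Subgroup G), x ≠ 1 → ∀ g ∈ 𝐍 (centerThompsonAOf (T : Subgroup G)),
    g * x * g⁻¹ ≠ x⁻¹) : ¬ Involves (Equiv.Perm (Fin 3)) G ∧ IsCompositionKGroupWith IsSuzukiOrPSL2OddPowerThree G := by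
  have : Fact (Nat.Prime 3) := ⟨Nat.prime_three⟩
  rw [PLocal.centerThompsonAOf_eq] at h
  have W := PLocal.zjType_centerThompson.{u} (p := 3) (by decide) (.inl rfl)
  have k := MS.inv3 W G (syl_sylow_top T) fun ⟨x, hx, y, hy, _, o, c⟩ => by
    obtain ⟨g, hg, l⟩ := ((syl_sylow_top T).of_le (le_normalizer.trans (PLocal.CharFunctor.normalizer_le _ _)) le_top).syl_cj_le
      (zpowers_le.2 hy) (piGrp_zpowers.2 ((piNat_self Nat.prime_three).dvd o.dvd))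
    refine h _ (l (conj_mem_cj.2 (mem_zpowers y))) (fun e => ?_) (g * x * g⁻¹) (mul_mem (mul_mem hg hx) (inv_mem hg))
      (by rw [conj_inv (a := y), ← c]; group)
    have := orderOf_conj' g y
    simp [e, o] at this
  exact ⟨mt Loc.involves_S3_iff.1 k, fun H _ N _ _ nc => s3free (ns_top nc) (Fgs1.not_inv_of_involves k
    (involves_trans (involves_quotient N) (Transfer.involves_subgroup H)))⟩

theorem jr_cases (n : NS (⊤ : Subgroup G)) (j : Ab2.JR (⊤ : Subgroup G)) :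
    ∃ (t : G) (K : Subgroup G) (q : ℕ), 3 < q ∧ JJ t K K q ∧ (ReT t K q ∨ q = 5 ∧ IsJ1 G) := by
  obtain ⟨S, s, ab, c8, tr⟩ := j.syl
  obtain ⟨t, tS, i⟩ := exists_iv (K := S) (by rw [c8]; decide)
  obtain ⟨E, K, d, nK, lK, ns, s4, cK, o⟩ := (j.cent t trivial i).dprod trivial i
    (s.of_le (le_inf le_top (le_cent1_iff.2 (ab.abel tS))) le_top) c8
  obtain ⟨k, _, _, q8, -, q3, e⟩ := s4.top.psl ns.top
  rw [top_inf_eq] at d nK
  have J : JJ t K E (Fintype.card k) := ⟨i, fun a b ia ib => by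
    obtain ⟨g, -, l⟩ := s.syl_cj_le le_top ia.piGrp
    obtain ⟨g', -, l'⟩ := s.syl_cj_le le_top ib.piGrp
    obtain ⟨x, -, e⟩ := tr _ (l (conj_mem_cj.2 (mem_zpowers a))) (ia.conj g).ne_one _
      (l' (conj_mem_cj.2 (mem_zpowers b))) (ib.conj g').ne_one
    exact isConj_iff.2 ⟨g'⁻¹ * x * g, by
      rw [show _ * (g'⁻¹ * x * g)⁻¹ = g'⁻¹ * (x * (g * a * g⁻¹) * x⁻¹) * g' by group, e]; group⟩,
    d, nK.of_le lK d.right_le, cK, o, q8, k, _, _, rfl, e⟩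
  have c := Ab2.jmain G t K E _ J
  obtain rfl := c.eq n.perf
  refine ⟨t, K, _, q3, J, ?_⟩
  rcases c.idx with ⟨m, o, q, c⟩ | ⟨q, -⟩ | ⟨q, -⟩
  · exact .inl ⟨J, ⟨m, o, q⟩, c⟩
  · omega
  · obtain ⟨_, _, k⟩ := (q ▸ J).exists_pk
    exact .inr ⟨q, isJ1_of_iso k.j1.2.2.1⟩

theorem cube_inj {a b : ℕ} (h : a * (a ^ 2 - 1) = b * (b ^ 2 - 1)) (a1 : 1 < a) (b1 : 1 < b) : a = b := by
  have k : ∀ {a b : ℕ}, 1 < a → a < b → a * (a ^ 2 - 1) < b * (b ^ 2 - 1) := fun a1 l =>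
    Nat.mul_lt_mul_of_lt_of_le l (Nat.sub_le_sub_right (Nat.pow_le_pow_left l.le 2) 1)
      (Nat.sub_pos_of_lt (Nat.one_lt_pow two_ne_zero (a1.trans l)))
  exact le_antisymm (not_lt.1 fun l => (k b1 l).ne' h) (not_lt.1 fun l => (k a1 l).ne h)

theorem s0343 [IsSimpleGroup G] (hS : Syl 2 S ⊤) (a : Abel S) {F : Type*} [Field F] [Fintype F]
    (hq : 3 ≤ Fintype.card F) (i : Iv t) (e : 𝐂₁ t ≃* Multiplicative (ZMod 2) × PSL(2, F)) :
    (∃ m : ℕ, 1 ≤ m ∧ Fintype.card F = 3 ^ (2 * m + 1) ∧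
        Nat.card G = (3 ^ (2 * m + 1)) ^ 3 * ((3 ^ (2 * m + 1)) ^ 3 + 1) * (3 ^ (2 * m + 1) - 1)) ∨
      ((Fintype.card F = 4 ∨ Fintype.card F = 5) ∧ IsJ1 G) := by
  have c : ♯(𝐂₁ t) = 2 * Nat.card PSL(2, F) := by rw [Nat.card_congr e.toEquiv, Nat.card_prod]; simp
  have f := card_PSL_two (F := F)
  obtain ⟨p, -, r, hp, pp⟩ := FiniteField.card' F
  generalize Fintype.card F = q at *
  have key : Odd q ∧ ♯(𝐂₁ t) = q * (q ^ 2 - 1) ∨ 4 ∣ q ∧ (q = 4 ∨ 8 ∣ q) ∧ ♯(𝐂₁ t) = 2 * (q * (q ^ 2 - 1)) := by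
    rcases hp.eq_two_or_odd' with rfl | o
    · obtain ⟨r, r1⟩ := r
      obtain _ | _ | _ | r := r
      · omega
      · simp [pp] at hq
      all_goals
        rw [Nat.coprime_two_left.2 (Nat.Even.sub_odd (by omega) (pp ▸ Even.pow_of_ne_zero even_two (by simp)) odd_one),
          one_mul] at f
        refine .inr ⟨⟨_, pp.trans (pow_add 2 _ 2 |>.trans (mul_comm _ _))⟩, ?_, by rw [c, f]⟩
      exacts [.inl pp, .inr ⟨_, pp.trans (pow_add 2 _ 3 |>.trans (mul_comm _ _))⟩]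
    · have o : Odd q := pp ▸ o.pow
      exact .inl ⟨o, by rw [c, ← f, Nat.gcd_eq_left (by have := Nat.odd_iff.1 o; omega)]⟩
  have d3 : 3 ∣ q * (q ^ 2 - 1) := by
    rw [← one_pow 2, Nat.sq_sub_sq]
    simp only [Nat.prime_three.dvd_mul]; omega
  have d24 : 3 ∣ ♯(𝐂₁ t) ∧ 8 ∣ ♯(𝐂₁ t) := by
    rcases key with ⟨o, k⟩ | ⟨d, -, k⟩ <;> rw [k]
    · exact ⟨d3, .mul_left ((Nat.modEq_iff_dvd' (Nat.one_le_pow _ _ o.pos)).1 (Nat.ModEq.symm
        (by rw [Nat.ModEq, Nat.pow_mod]; have := Nat.odd_iff.1 o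
            obtain h | h | h | h : q % 8 = 1 ∨ q % 8 = 3 ∨ q % 8 = 5 ∨ q % 8 = 7 := by omega
            all_goals simp [h]))) _⟩
    · exact ⟨d3.mul_left 2, Nat.mul_dvd_mul_left 2 (d.mul_right _)⟩
  have n : NS (⊤ : Subgroup G) := ns_top fun k => by
    rcases (normal_of_comm (zpowers t)).eq_bot_or_eq_top with e | e
    · exact i.ne_one (zpowers_eq_bot.1 e)
    · exact absurd (i.card ▸ d24.1.trans (card_dvd (le_top.trans e.ge))) (by decide)
  rcases Ab2.abel_cases n hS a with ⟨k, _, _, ⟨m, l, ck⟩, ⟨g⟩⟩ | s | j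
  · have L := isL2_PSL k (AlgebraicClosure k)
    have ig := (iv_map_iff (f := g.toMonoidHom) g.injective).2 i
    have ev : 2 ∣ Nat.card k := by rw [Nat.card_eq_fintype_card, ck]; exact dvd_pow_self 2 (by omega)
    rcases isUnip_or_mem_torus (OnePoint (AlgebraicClosure k)) ig.ne_one with ⟨z, u⟩ | ⟨y, z, n, m⟩
    · have := L.card_centralizer_of_isUnip u
      rw [← top_inf_eq (centralizer _), ← map_top_of_surjective g.toMonoidHom g.surjective, ← map_inf_cent1 g.injective,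
        card_map g.injective, top_inf_eq, Nat.card_eq_fintype_card (α := k), ck] at this
      exact absurd (Nat.prime_three.dvd_of_dvd_pow (this ▸ d24.1)) (by decide)
    · have d := (ig ▸ orderOf_dvd_card' m).mul_right (Matrix.ProjectiveSpecialLinearGroup.toPGL (n := Fin 2) (R := k)).range.index
      have : 0 < Nat.card k := Nat.card_pos
      rcases (L.torus_cases n (ne_bot_of_mem m ig.ne_one)).2 with c | c
      · rw [c.2] at d; omega
      · rw [c.2.2] at d; omega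
  · exact (Fgs1.not_eight_dvd s (d24.2.trans (card_subgroup_dvd_card _))).elim
  obtain ⟨t', K, q', l, J, h⟩ := jr_cases n j
  obtain ⟨g, rfl⟩ := isConj_iff.1 (J.one _ _ J.iv i)
  rw [← cj_cent1, card_cj, J.cardC, relIndex_self, mul_one] at key
  rcases h with h | ⟨rfl, h⟩
  · obtain ⟨_, ⟨m, rfl⟩, e⟩ := h.q3
    rcases key with ⟨-, k⟩ | ⟨-, rfl | ⟨r, rfl⟩, k⟩
    · obtain rfl := cube_inj k (by omega) (by omega)
      exact .inl ⟨m, Nat.pos_of_ne_zero (by rintro rfl; simp [e] at l), e, e ▸ h.card⟩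
    · have := cube_inj (b := 5) k (by omega) (by omega)
      have := h.d3
      omega
    · exact (J.not16 (.trans ⟨r * ((8 * r) ^ 2 - 1), by rw [J.cardC, relIndex_self, mul_one, k]; ring⟩
        (card_subgroup_dvd_card (𝐂₁ t')))).elim
  · refine .inr ⟨?_, h⟩
    rcases key with ⟨-, k⟩ | ⟨-, rfl | ⟨r, rfl⟩, k⟩
    · exact .inr (cube_inj k (by omega) (by omega)).symm
    · exact .inl rfl
    · rw [mul_assoc] at k; omega

end CF.JR
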