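import Cfsg.Agent.TsY.OnTK
import Cfsg.Agent.Perm.ONan4

/-! O'Nan's theorem on normal `TI`-subgroups of point stabilisers. -/

set_option autoImplicit false
set_option linter.unusedSectionVars false

namespace CF.OnT
open MulAction Subgroup Cfsg CF.BG CF.Bender CF.ZD

universe u v
variable {G : Type u} {Ω : Type v} [Group G] [Finite G] [MulAction G Ω] [Finite Ω] [FaithfulSMul G Ω]

theorem exists_abel (h2 : IsMultiplyPretransitive G Ω 2) (x : Ω) (N : Subgroup G) (le : N ≤ stabilizer G x)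
    (nm : stabilizer G x ≤ 𝐍 N) (ti : ∀ g : G, g • x ≠ x → cj g N ⊓ N = ⊥)
    (ns : ∃ n ∈ N, n ≠ 1 ∧ ∃ y, y ≠ x ∧ n • y = y) :
    ∃ M ≤ N, stabilizer G x ≤ 𝐍 M ∧ Abel M ∧ ∃ n ∈ M, n ≠ 1 ∧ ∃ y, y ≠ x ∧ n • y = y := by
  obtain ⟨M, ⟨l, nM, n, hn, n1, y, yx, e⟩, mn⟩ := (wellFounded_lt (α := Subgroup G)).has_min
    {M | M ≤ N ∧ stabilizer G x ≤ 𝐍 M ∧ ∃ n ∈ M, n ≠ 1 ∧ ∃ y, y ≠ x ∧ n • y = y} ⟨N, le_rfl, nm, ns⟩
  refine ⟨M, l, nM, ?_, n, hn, n1, y, yx, e⟩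
  have := isPretransitive_of_is_two_pretransitive (G := G) (α := Ω)
  choose t ht using exists_smul_eq G x
  have h1 : ∀ g, cj (t (g • x)) M = cj g M := fun g => by
    rw [← mul_inv_cancel_left g (t (g • x)), ← cj_cj, cj_of_norm (nM (by
      rw [mem_stabilizer_iff, mul_smul, ht, inv_smul_smul]))]
  have h3 : cj (t x) M = M := by simpa using h1 1
  have F : Fm fun w => cj (t w) M := ⟨h2, fun g w => by rw [cj_cj, ← h1, mul_smul, ht], fun w => by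
      rw [← ht w, ← cj_stab, ht]; exact cj_mono _ (l.trans le), fun {a b z} k ha hb => by
      have := eq_one_of_mem_bot (ti ((t b)⁻¹ * t a) fun e => k (by rwa [mul_smul, ht, inv_smul_eq_iff, ht] at e))
        (x := (t b)⁻¹ * z * t b) ⟨by
          rw [← cj_cj]; exact mem_cj_inv.2 (by simpa [mul_assoc] using cj_mono _ l ha), l (mem_cj.1 hb)⟩
      simpa [mul_assoc] using congrArg (fun y => t b * y * (t b)⁻¹) this,
    ⟨x, y, yx.symm, n, h3.ge hn, n1, e⟩, fun {a X} lX nX => or_iff_not_imp_right.2 fun k => by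
      push Not at k
      obtain ⟨m, hm, b, ba, e, m1⟩ := k
      have l' := le_cj_iff.1 lX
      refine (cj_eq_iff.1 (eq_of_le_of_not_lt l' (mn _ ⟨l'.trans l, ?_, (t a)⁻¹ * m * t a,
        mem_cj.2 (by simpa [mul_assoc] using hm),
        fun k => m1 (by simpa [mul_assoc] using congrArg (fun y => t a * y * (t a)⁻¹) k),
        (t a)⁻¹ • b, fun k => ba (by rw [← ht a, ← k, smul_inv_smul]), by simpa [mul_smul] using e⟩))).trans (by simp)
      rw [← cj_norm_iff (g := t a), cj_stab, ht, cj_cj_inv]; exact nX⟩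
  exact h3 ▸ F.ab x

theorem onan_ti (h2 : IsMultiplyPretransitive G Ω 2) (x : Ω) (N : Subgroup G) (le : N ≤ stabilizer G x)
    (nm : stabilizer G x ≤ 𝐍 N) (ti : ∀ g : G, cj g N = N ∨ cj g N ⊓ N = ⊥)
    (ns : ∃ n ∈ N, n ≠ 1 ∧ ∃ y, y ≠ x ∧ n • y = y) :
    ∃ M ≤ N, stabilizer G x ≤ 𝐍 M ∧ Abel M ∧ ∃ n ∈ M, n ≠ 1 ∧ ∃ y, y ≠ x ∧ n • y = y := by
  refine exists_abel h2 x N le nm (fun g hg => (ti g).resolve_left fun e => ?_) ns
  obtain ⟨n, hn, n1, -⟩ := ns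
  refine n1 (eq_one_of_fix (Ω := Ω) fun w => ?_)
  by_cases k : w = x
  · exact k ▸ le hn
  obtain ⟨h, h1, rfl⟩ := is_two_pretransitive_iff.1 h2 (Ne.symm hg) (Ne.symm k)
  exact le_stab_smul (le_stab_smul le (cj_eq_self.1 e)) (nm h1) hn

end CF.OnT
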