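import Cfsg.Statements.S1145
import Cfsg.Agent.TsY.PermHkZ

set_option autoImplicit false
open Cfsg

namespace CF.TsY.S1145

/-- Let a finite group have a (B,N)-pair of rank 1 whose subgroup `B` contains no nontrivial normal subgroup (so the group acts faithfully on the cosets of `B`), with `B = U H`, `U` normal and nilpotent in `B`, `H = B ⊓ N`. Then some `U₀ ≤ U` normal in `B` satisfies `B = H U₀` and `H ⊓ U₀ = 1`; in particular the (B,N)-pair is strongly split. -/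
theorem result {G : Type*} [Group G] [Finite G] (P : Cfsg.BNPair G)
    (h1 : P.rank = 1) (hcore : P.B.normalCore = ⊥) (U : Subgroup G) (hUB : U ≤ P.B) (hUn : ∀ b ∈ P.B, ∀ u ∈ U, b * u * b⁻¹ ∈ U)
    (hUnil : Group.IsNilpotent U) (hsplit : U ⊔ (P.B ⊓ P.N) = P.B) :
    ∃ U₀ : Subgroup G, U₀ ≤ U ∧ (∀ b ∈ P.B, ∀ u ∈ U₀, b * u * b⁻¹ ∈ U₀) ∧
      U₀ ⊔ (P.B ⊓ P.N) = P.B ∧ U₀ ⊓ (P.B ⊓ P.N) = ⊥ := by
  obtain ⟨V, a, b, c, d⟩ := CF.Hk.Ks.ks_main CF.Hk.main P h1 hcore hUB (CF.BG.le_norm_iff.2 hUn) hUnil hsplit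
  exact ⟨V, a, CF.BG.le_norm_iff.1 b, c, d⟩

end CF.TsY.S1145
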