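import Cfsg.Statements.S1146
import Cfsg.Agent.TsY.PermHkZ

set_option autoImplicit false
open Cfsg

namespace CF.TsY.S1146

/-- A finite simple group with a split (B,N)-pair of rank 1 is isomorphic to `PSL₂(q)`, `PSU₃(q)`, `Sz(2^(2m+1))` or `²G₂(3^(2m+1))` (`m ≥ 1`). -/
theorem result {G : Type*} [Group G] [Finite G] [IsSimpleGroup G]
    (P : Cfsg.BNPair G) (h1 : P.rank = 1) (hsplit : P.IsSplit) :
    (∃ (F : Type) (_ : Field F) (_ : Fintype F), Nonempty (G ≃* Matrix.ProjectiveSpecialLinearGroup (Fin 2) F)) ∨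
      (∃ (F : Type) (_ : Field F) (_ : Fintype F) (q : ℕ), Fintype.card F = q ^ 2 ∧ Nonempty (G ≃* Cfsg.PSU 3 F q)) ∨
      Cfsg.Lie.IsoSuzuki G ∨ Cfsg.Lie.IsoRee G := by
  exact CF.Hk.Ks.hks_main CF.Hk.main CF.Hk.mainS P h1 hsplit

end CF.TsY.S1146
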