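import Cfsg.Agent.Perm.OdA
import Cfsg.Agent.TsY.RITC4
import Cfsg.Agent.S0507
import Cfsg.Agent.Bt.Out.M11
import Cfsg.Agent.Bt.Out.J1

/-! Doubly transitive groups of odd degree in which no four-group fixes two points: the socle. -/

set_option autoImplicit false
set_option linter.unusedSectionVars false

namespace CF.OdT
open MulAction Subgroup Cfsg CF.BG CF.Bender CF.Rt.TC CF.Classical
open scoped MatrixGroups commutatorElement

/-- the possible socles -/
def Cn (L : Type*) [Group L] (n : ℕ) : Prop :=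
  (∃ (F : Type) (_ : Field F) (_ : Fintype F), ringChar F = 2 ∧ n = Fintype.card F + 1 ∧
    Nonempty (L ≃* PSL(2, F))) ∨
  (∃ (F : Type) (_ : Field F) (_ : Fintype F) (m : ℕ), 1 ≤ m ∧ Fintype.card F = 2 ^ (2 * m + 1) ∧
    n = Fintype.card F ^ 2 + 1 ∧ Nonempty (L ≃* Lie.Sz F (2 ^ (m + 1)))) ∨
  (∃ (F : Type) (_ : Field F) (_ : Fintype F) (q : ℕ), Even q ∧ Fintype.card F = q ^ 2 ∧ n = q ^ 3 + 1 ∧
    Nonempty (L ≃* PSU 3 F q)) ∨
  (n = 11 ∧ ((∃ (F : Type) (_ : Field F) (_ : Fintype F), Fintype.card F = 11 ∧ Nonempty (L ≃* PSL(2, F))) ∨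
    Spor.IsoM11 L))

universe u
variable {L : Type u} {Ω : Type*} [Group L] [Finite L] [MulAction L Ω] [Finite Ω]

theorem card_syl (P : Sylow 2 L) {k m : ℕ} (h : Nat.card L = 2 ^ k * m) (o : Odd m) : Nat.card P = 2 ^ k := by
  rw [P.card_eq_multiplicity, h, Nat.factorization_mul (by positivity) o.pos.ne', Finsupp.add_apply,
    Nat.prime_two.factorization_pow, Finsupp.single_eq_same,
    Nat.factorization_eq_zero_of_not_dvd o.not_two_dvd_nat, add_zero]

theorem aut_dvd {X : Type*} [Group X] (e : L ≃* X) (h : Nat.card (Out X) = 1) :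
    Nat.card (MulAut L) ∣ Nat.card L := by
  rw [Nat.card_congr (MulAut.congr e).toEquiv, card_eq_card_quotient_mul_card_subgroup (Inn X), h, one_mul,
    Nat.card_congr e.toEquiv]
  exact card_range_dvd _

theorem se_psl {F : Type} [Field F] [Fintype F] (h2 : (2 : F) = 0) (e : L ≃* PSL(2, F)) :
    ∃ H : Subgroup L, IsStronglyEmbedded H := by
  haveI : CharP F 2 := (CharP.ringChar_of_prime_eq_zero Nat.prime_two h2) ▸ ringChar.charP F
  exact Perm.se_equiv Perm.se_sl2 (e.trans (slEquivPSL h2).symm)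

namespace St
variable (h : St L Ω)
include h

theorem fix {P : Subgroup L} (hP : IsPGroup 2 P) : ∃ a : Ω, P ≤ stabilizer L a :=
  let ⟨a, ha⟩ := hP.nonempty_fixed_point_of_prime_not_dvd_card Ω h.odd.not_two_dvd_nat
  ⟨a, fun g hg => ha ⟨g, hg⟩⟩

theorem ru (a : Ω) : Ru ⊤ (stabilizer L a) := fun s t g _ hs ht c n h1 h2 h3 h4 => by
  have k : ∀ {u : L}, g * u * g⁻¹ ∈ stabilizer L a → u • g⁻¹ • a = g⁻¹ • a := fun k => by
    rw [eq_inv_smul_iff, ← mul_smul, ← mul_smul]; exact k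
  exact eq_inv_smul_iff.1 (h.four s t hs ht c n a _ h1 h2 (k h3) (k h4))

theorem index (a : Ω) : (stabilizer L a).index = Nat.card Ω :=
  haveI := h.tr
  index_stabilizer_of_transitive L a

theorem idx (a : Ω) : Nat.card Ω * Nat.card (stabilizer L a) = Nat.card L :=
  h.index a ▸ (stabilizer L a).index_mul_card

theorem ne (a : Ω) : stabilizer L a ≠ ⊤ := fun e => by
  have := h.index a
  have := h.one_lt
  rw [e, index_top] at *
  omega

theorem fact : Nat.card L ∣ (Nat.card Ω).factorial :=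
  haveI := h.fa
  Nat.card_perm (α := Ω) ▸ card_dvd_of_injective (toPermHom L Ω) toPerm_injective

theorem dvd (a : Ω) {o : ℕ} (ho : Nat.card (MulAut L) ∣ o * Nat.card L) :
    Nat.card Ω - 1 ∣ Nat.card (stabilizer L a) * o := by
  obtain ⟨b, -, k, m, e, d, c⟩ := h.orb a
  rw [← e, ← c, Nat.add_sub_cancel]
  exact mul_dvd_mul (Dvd.intro _ rfl) (Nat.dvd_of_mul_dvd_mul_right Nat.card_pos (d.trans ho))

variable [IsSimpleGroup L] (hG : ¬ IsMulCommutative L)
include hG

theorem se (k : ∃ H : Subgroup L, IsStronglyEmbedded H) : Cn L (Nat.card Ω) := by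
  obtain ⟨H, k⟩ := k
  obtain ⟨S⟩ : Nonempty (Sylow 2 L) := inferInstance
  obtain ⟨a, ha⟩ := h.fix S.isPGroup'
  have hS := syl_sylow_top S
  have s := (h.ru a).se_of (h.ne a) hS ha (r2_syl hG hS) k
  obtain ⟨-, -, t, P, hP⟩ := Perm.se_setup' s
  have c : Nat.card Ω = Nat.card P + 1 := (h.index a).symm.trans (CF.Suz.card_omega hP)
  have o : ∀ {n}, 1 ≤ n → Odd (2 ^ n - 1) := fun l =>
    Nat.Even.sub_odd Nat.one_le_two_pow (Nat.even_pow.2 ⟨even_two, by omega⟩) odd_one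
  obtain ⟨F, _, _, ⟨n, l, cF⟩, ⟨e⟩⟩ | ⟨F, _, _, m, l, cF, ⟨e⟩⟩ | ⟨F, _, _, n, l, cF, ⟨e⟩⟩ := (se_simple part2 s).1
  · have ev : Even (Nat.card F) := by
      rw [Nat.card_eq_fintype_card, cF]; exact Nat.even_pow.2 ⟨even_two, by omega⟩
    refine .inl ⟨F, _, ‹_›, CharP.ringChar_of_prime_eq_zero Nat.prime_two (two_eq_zero_of_even_card ev), ?_, ⟨e⟩⟩
    have := card_PSL_two' (F := F)
    rw [gcd_two_of_even ev Nat.card_pos.ne', one_mul, ← Nat.card_congr e.toEquiv, Nat.card_eq_fintype_card (α := F),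
      cF, ← pow_mul] at this
    rw [c, card_syl P this (o (by omega)), cF]
  · refine .inr (.inl ⟨F, _, ‹_›, m, l, cF, ?_, ⟨e⟩⟩)
    have := (Agent.S1163.result l cF).1
    rw [← Nat.card_congr e.toEquiv, mul_assoc, ← pow_mul] at this
    rw [c, card_syl P this ((o (by omega)).mul (Even.add_one (Nat.even_pow.2 ⟨even_two, by omega⟩))), cF, ← pow_mul]
  · refine .inr (.inr (.inl ⟨F, _, ‹_›, _, Nat.even_pow.2 ⟨even_two, by omega⟩, cF, ?_, ⟨e⟩⟩))
    haveI := Finite.of_equiv _ e.toEquiv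
    obtain ⟨Q⟩ : Nonempty (Sylow 2 (PSU 3 F (2 ^ n))) := inferInstance
    rw [c, ← (Agent.S1141.result l cF Q).1, P.card_eq_multiplicity, Q.card_eq_multiplicity, Nat.card_congr e.toEquiv]

theorem not_seven (c7 : Nat.card Ω = 7) (a : Ω) (c : Nat.card (stabilizer L a) = 24) : False := by
  classical
  haveI := h.fa
  haveI := Fintype.ofFinite Ω
  obtain ⟨b, hb, k, m, e, -, d⟩ := h.orb a
  have k6 : k ∣ 6 := ⟨m, by omega⟩
  have d4 : 2 ^ 2 ∣ Nat.card (stabilizer L a ⊓ stabilizer L b : Subgroup L) := by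
    have := Nat.le_of_dvd (by norm_num) k6
    interval_cases k <;> omega
  obtain ⟨V, cV⟩ := Sylow.exists_subgroup_card_pow_prime 2 d4
  by_cases o4 : ∃ x : V, orderOf x = 4
  · obtain ⟨x, hx⟩ := o4
    rw [← Subgroup.orderOf_coe, ← Subgroup.orderOf_coe, ← orderOf_injective (toPermHom L Ω) toPerm_injective] at hx
    have s := odd_four hx (by
      have : (toPermHom L Ω x.1.1).support ⊆ {a, b}ᶜ := fun y hy => by
        rw [Equiv.Perm.mem_support] at hy
        simp only [Finset.mem_compl, Finset.mem_insert, Finset.mem_singleton]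
        rintro (rfl | rfl)
        exacts [hy x.1.2.1, hy x.1.2.2]
      have := Finset.card_le_card this
      rwa [Finset.card_compl, Finset.card_pair hb.symm, ← Nat.card_eq_fintype_card, c7] at this)
    rcases (Equiv.Perm.sign.comp (toPermHom L Ω)).normal_ker.eq_bot_or_eq_top with k | k
    · exact hG ⟨⟨fun u v => (MonoidHom.ker_eq_bot_iff _).1 k (by rw [map_mul, map_mul, mul_comm])⟩⟩
    · exact absurd (s.symm.trans (k.ge (mem_top x.1.1))) (by decide)
  have o2 : ∀ x : V, x ≠ 1 → orderOf x.1.1 = 2 := fun x x1 => by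
    rw [Subgroup.orderOf_coe, Subgroup.orderOf_coe]
    have h1 := cV ▸ orderOf_dvd_natCard x
    have h2 : orderOf x ≠ 1 := fun e => x1 (orderOf_eq_one_iff.1 e)
    have h3 : orderOf x ≠ 4 := fun e => o4 ⟨x, e⟩
    have := Nat.le_of_dvd (by norm_num) h1
    generalize orderOf x = n at *
    interval_cases n <;> simp_all
  haveI := Fintype.ofFinite V
  obtain ⟨x, y, z, xy, xz, yz⟩ := Fintype.two_lt_card_iff.1 (by rw [← Nat.card_eq_fintype_card, cV]; decide : 2 < Fintype.card V)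
  haveI := IsPGroup.isMulCommutative_of_card_eq_prime_sq cV
  exact hb (h.four _ _ (o2 (x⁻¹ * y) fun e => xy (inv_mul_eq_one.1 e)) (o2 (x⁻¹ * z) fun e => xz (inv_mul_eq_one.1 e))
    (congrArg (fun u : V => u.1.1) (mul_comm' _ _)) (fun e => yz (mul_left_cancel (Subtype.ext (Subtype.ext e)))) b a
    (x⁻¹ * y).1.2.2 (x⁻¹ * z).1.2.2 (x⁻¹ * y).1.2.1 (x⁻¹ * z).1.2.1)

theorem l2 {F : Type} [Field F] [Fintype F] (e : L ≃* PSL(2, F)) : Cn L (Nat.card Ω) := by
  by_cases h2 : (2 : F) = 0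
  · exact h.se hG (se_psl h2 e)
  obtain ⟨A, hA, ⟨eA⟩⟩ := exists_A4_le_psl (F := F) (.inl h2)
  let φ : L →* PGL(2, F) := (psl F).subtype.comp (e.trans (pslEquiv F)).toMonoidHom
  have inj : Function.Injective φ := (psl F).subtype_injective.comp (e.trans (pslEquiv F)).injective
  have sur : ∀ y ∈ psl F, ∃ x, φ x = y := fun y hy =>
    ⟨(e.trans (pslEquiv F)).symm ⟨y, hy⟩, congrArg Subtype.val ((e.trans (pslEquiv F)).apply_symm_apply _)⟩
  have ex : ∃ a : Ω, A ≤ (stabilizer L a).map φ := by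
    obtain ⟨s, t, s2, t2, c, n, k⟩ : ∃ s t : alternatingGroup (Fin 4), orderOf s = 2 ∧ orderOf t = 2 ∧
        s * t = t * s ∧ s ≠ t ∧ ∀ g u, u = s ∨ u = t → g * u * g⁻¹ = s ∨ g * u * g⁻¹ = t ∨ g * u * g⁻¹ = s * t :=
      ⟨⁅a4x, a4y⁆, ⁅a4x, a4y⁻¹⁆, orderOf_eq_prime (by decide) (by decide), orderOf_eq_prime (by decide) (by decide),
        by decide, by decide, by decide⟩
    choose ψ hψ using fun g : alternatingGroup (Fin 4) => sur _ (hA (eA.symm g).2)
    have mul : ∀ u v, ψ (u * v) = ψ u * ψ v := fun u v => inj (by rw [map_mul, hψ, hψ, hψ, map_mul]; rfl)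
    let χ := MonoidHom.mk' ψ mul
    have ij : Function.Injective χ := fun u v k =>
      eA.symm.injective (Subtype.ext ((hψ u).symm.trans ((congrArg φ k).trans (hψ v))))
    have s3 := (orderOf_injective χ ij s).trans s2
    have t3 := (orderOf_injective χ ij t).trans t2
    have c3 : χ s * χ t = χ t * χ s := by rw [← map_mul, c, map_mul]
    obtain ⟨a, ha⟩ := h.fix (two_pair s3 t3 c3)
    have m1 := ha (mem_sup_left (mem_zpowers _))
    have m2 := ha (mem_sup_right (mem_zpowers _))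
    have m : ∀ g u, u = s ∨ u = t → χ g * χ u * (χ g)⁻¹ ∈ stabilizer L a := fun g u hu => by
      rw [← map_inv, ← map_mul, ← map_mul]
      rcases k g u hu with k | k | k <;> rw [k]
      exacts [m1, m2, map_mul χ s t ▸ mul_mem m1 m2]
    exact ⟨a, fun y hy => ⟨χ (eA ⟨y, hy⟩), h.ru a _ _ _ trivial s3 t3 c3 (fun e => n (ij e)) m1 m2
      (m _ _ (.inl rfl)) (m _ _ (.inr rfl)), (hψ _).trans (by rw [eA.symm_apply_apply])⟩⟩
  obtain ⟨a, ha⟩ := ex
  obtain ⟨p, _⟩ := CharP.exists F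
  obtain ⟨f, hp, cF⟩ := FiniteField.card F p
  haveI := Fact.mk hp
  have oq := odd_card_of_two_ne_zero h2
  have cL : 2 * Nat.card L = Nat.card F * (Nat.card F ^ 2 - 1) := by
    rw [← two_mul_card_psl h2, card_psl, Nat.card_congr e.toEquiv]
  have d := h.dvd a (o := 2 * f) (by
    rw [Nat.card_congr (MulAut.congr e).toEquiv, Known.card_aut_psl cF le_rfl, card_PGL_two, ← cL]
    exact dvd_of_eq (by simp; ring))
  have hf : 3 ^ (f : ℕ) ≤ Nat.card F := by
    rw [Nat.card_eq_fintype_card, cF] at oq ⊢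
    refine Nat.pow_le_pow_left (lt_of_le_of_ne hp.two_le fun k => ?_) _
    subst k
    exact Nat.not_even_iff_odd.2 oq (Nat.even_pow.2 ⟨even_two, f.ne_zero⟩)
  rw [← h.idx a] at cL
  have key : Nat.card (stabilizer L a) ∈ [12, 24, 60] → Cn L (Nat.card Ω) := fun k => by
    rcases num1 k cL (Nat.odd_iff.1 h.odd) h.one_lt (Nat.odd_iff.1 oq) f.pos hf d with k | k | k
    · letI := Fintype.ofFinite (GaloisField 2 2)
      obtain ⟨e1⟩ := PSL2_five_equiv k
      obtain ⟨e2⟩ := PSL2_four_equiv (F := GaloisField 2 2) (GaloisField.card 2 2 two_ne_zero)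
      exact h.se hG (se_psl (CharP.cast_eq_zero (GaloisField 2 2) 2) (e.trans (e1.trans e2.symm)))
    · exact (h.not_seven hG k.1 a k.2).elim
    · exact .inr (.inr (.inr ⟨k.2, .inl ⟨F, _, ‹_›, Nat.card_eq_fintype_card.symm.trans k.1, ⟨e⟩⟩⟩))
  have cT := card_map_of_injective (K := stabilizer L a) inj
  rcases dickson_PGL_of_A4_le h2 ha ⟨eA⟩ (fun l => h.ne a (eq_top_iff.2 fun x _ => by
    obtain ⟨y, hy, k⟩ := l ((e.trans (pslEquiv F)) x).2
    exact inj k ▸ hy)) with k | ⟨k, -⟩ | k | ⟨K, c, H, K1, l, k⟩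
  · exact key (by rw [← cT, k]; decide)
  · exact key (by rw [← cT, k]; decide)
  · exact key (by rw [← cT, k]; decide)
  obtain ⟨m, m0, hm⟩ := card_subfield_pow K
  have k2 := two_ne_zero_subfield h2 K
  have m2 : 2 ≤ m := by_contra fun n => K1 (by
    obtain rfl : m = 1 := by omega
    exact SetLike.coe_injective (Set.eq_univ_of_forall fun x =>
      (Set.eq_of_subset_of_ncard_le (Set.subset_univ (K : Set F)) (by
        rw [Set.ncard_univ, ← hm, pow_one]; rfl)).ge trivial))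
  rw [k, card_map_subPGL] at cT
  obtain ⟨j, hj, k⟩ : ∃ j, (j = 1 ∨ j = 2) ∧ j * Nat.card H = Nat.card K * (Nat.card K ^ 2 - 1) := by
    rcases eq_psl_or_eq_top l with rfl | rfl
    exacts [⟨2, .inr rfl, two_mul_card_psl k2⟩, ⟨1, .inl rfl, by rw [card_top, card_PGL_two, one_mul]⟩]
  exact (num2 hm m2 (three_le_card k2) (Nat.odd_iff.1 (odd_card_of_two_ne_zero k2)) hj (cT ▸ k) cL
    (Nat.odd_iff.1 h.odd) h.one_lt f.pos hf d).elim

theorem m11 (k : Spor.IsoM11 L) : Cn L (Nat.card Ω) := by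
  obtain ⟨e⟩ := k
  have : Nonempty Ω := (Nat.card_pos_iff.1 (by have := h.one_lt; omega)).1
  obtain ⟨a⟩ := this
  have cL : Nat.card L = 7920 := (Nat.card_congr e.toEquiv).trans Comp.Mat.card_M11
  have d := h.dvd a (o := 1) (by rw [one_mul]; exact aut_dvd e Bt.OutM11.out)
  have i := h.idx a
  have f := h.fact
  have o := Nat.odd_iff.1 h.odd
  have l := h.one_lt
  rw [cL] at i f
  rw [mul_one] at d
  have b := Nat.le_of_dvd Nat.card_pos d
  have hn : Nat.card Ω < 90 := by_contra fun k => by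
    have := Nat.mul_le_mul (not_lt.1 k) (show 89 ≤ Nat.card (stabilizer L a) by omega); omega
  have c : Nat.card (stabilizer L a) = 7920 / Nat.card Ω := by
    rw [← i, Nat.mul_div_cancel_left _ (by omega)]
  rcases (by decide +kernel : ∀ n < 90, n % 2 = 1 ∧ n ∣ 7920 ∧ n - 1 ∣ 7920 / n ∧ 7920 ∣ n.factorial → n = 11 ∨ n = 45)
    _ hn ⟨o, Dvd.intro _ i, c ▸ d, f⟩ with k | k
  · exact .inr (.inr (.inr ⟨k, .inr ⟨e⟩⟩))
  rw [k] at c
  obtain ⟨x, y, hx, hy, k⟩ := cent_syl (p := 11) (r := 2) (j := 2) (c := 16) (by norm_num) Nat.prime_two c (by decide)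
    (fun d hd => by have := Nat.le_of_dvd (by norm_num) hd; revert hd; revert d; decide) (by decide)
  have := Subgroup.orderOf_dvd_natCard (centralizer {(y : L)}) (x := x) (mem_centralizer_singleton_iff.2 (congrArg Subtype.val k))
  rw [Small.card_cent_7920 cL (by rwa [Subgroup.orderOf_coe]), Subgroup.orderOf_coe, hx] at this
  exact absurd this (by decide)

theorem j1 (k : Spor.IsoJ1 L) : Cn L (Nat.card Ω) := by
  obtain ⟨e⟩ := k
  have sp := Spec.J1.sp.congr e.symm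
  have cL : Nat.card L = 175560 := (Nat.card_congr e.toEquiv).trans Comp.J1.card
  obtain ⟨S⟩ : Nonempty (Sylow 2 L) := inferInstance
  have c8 := card_syl S (k := 3) (m := 21945) cL (by decide)
  have ab : Abel (S : Subgroup L) := ZD.abel_of_sq fun x hx => by
    obtain ⟨m, hm, k⟩ := sp.ub x
    have h1 := c8 ▸ Subgroup.orderOf_dvd_natCard _ hx
    have h2 := Nat.dvd_gcd h1 (orderOf_dvd_of_pow_eq_one k)
    rw [← pow_two, ← orderOf_dvd_iff_pow_eq_one]
    exact h2.trans ((by decide : ∀ m ∈ [6, 7, 10, 11, 15, 19], (2 ^ 3).gcd m ∣ 2) m hm)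
  rcases Ab2.abel_cases (Ab2.ns_top hG) (syl_sylow_top S) ab with ⟨F, _, _, -, ⟨e⟩⟩ | ⟨V, hV, c⟩ | k
  · exact h.l2 hG e
  · obtain ⟨V, rfl⟩ := hV.exists_sylow_top
    rw [card_syl V (k := 3) (m := 21945) cL (by decide)] at c
    omega
  obtain ⟨T, hT, -, cT, tr⟩ := k.syl
  obtain ⟨a, ha⟩ := h.fix hT.pi.isPGroup
  obtain ⟨z, hz, z1⟩ := exists_mem_ne_one (one_lt_card.1 (by omega) : T ≠ ⊥)
  have r := tr.card inf_le_right hz z1
  have d7 : 7 ∣ Nat.card (stabilizer L a) := ((show 7 = (𝐂₁ z).relIndex (⊤ ⊓ 𝐍 T) by omega).dvd.trans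
    (relIndex_dvd_card _ _)).trans (card_dvd_of_le (inf_le_right.trans ((h.ru a).norm (r2_syl hG hT) ha)))
  have d := h.dvd a (o := 1) (by rw [one_mul]; exact aut_dvd e Bt.OutJ1.out)
  have i := h.idx a
  have f := h.fact
  have o := Nat.odd_iff.1 h.odd
  have l := h.one_lt
  rw [cL] at i f
  rw [mul_one] at d
  have b := Nat.le_of_dvd Nat.card_pos d
  have hn : Nat.card Ω < 420 := by_contra fun k => by
    have := Nat.mul_le_mul (not_lt.1 k) (show 419 ≤ Nat.card (stabilizer L a) by omega); omega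
  have c : Nat.card (stabilizer L a) = 175560 / Nat.card Ω := by
    rw [← i, Nat.mul_div_cancel_left _ (by omega)]
  rw [(by decide +kernel : ∀ n < 420, n % 2 = 1 ∧ n ∣ 175560 ∧ n - 1 ∣ 175560 / n ∧ 7 ∣ 175560 / n ∧
    175560 ∣ n.factorial → n = 57) _ hn ⟨o, Dvd.intro _ i, c ▸ d, c ▸ d7, f⟩] at c
  obtain ⟨x, y, hx, hy, k⟩ := cent_syl (p := 7) (r := 5) (j := 1) (c := 440) (by norm_num) (by norm_num) c (by decide)
    (fun d hd => by have := Nat.le_of_dvd (by norm_num) hd; revert hd; revert d; decide +kernel) (by decide)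
  obtain ⟨m, hm, k⟩ := sp.ub (x * y : stabilizer L a)
  have := orderOf_dvd_of_pow_eq_one k
  rw [Subgroup.orderOf_coe, Commute.orderOf_mul_eq_mul_orderOf_of_coprime ‹_› (by rw [hx, hy]; decide), hx, hy] at this
  exact absurd this ((by decide : ∀ m ∈ [6, 7, 10, 11, 15, 19], ¬ 7 * 5 ∣ m) m hm)

theorem main : Cn L (Nat.card Ω) := by
  obtain ⟨S⟩ : Nonempty (Sylow 2 L) := inferInstance
  obtain ⟨a, ha⟩ := h.fix S.isPGroup'
  obtain ⟨F, _, _, -, ⟨e⟩⟩ | ⟨F, _, _, m, l, c, ⟨e⟩⟩ | ⟨F, _, _, n, l, c, ⟨e⟩⟩ | k | k :=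
    (Rt.TC.main hG (fun S h => Agent.S0507.result S h) (syl_sylow_top S) (h.ru a) (h.ne a) ha).1
  · exact h.l2 hG e
  · haveI := Finite.of_equiv _ e.toEquiv
    exact h.se hG (Perm.se_equiv (Perm.se_sz l c) e)
  · haveI := Finite.of_equiv _ e.toEquiv
    haveI : CharP F 2 := (CharP.ringChar_of_prime_eq_zero Nat.prime_two (two_eq_zero_of_even_card (F := F) (by
      rw [Nat.card_eq_fintype_card (α := F), c, ← pow_mul]; exact Nat.even_pow.2 ⟨even_two, by omega⟩))) ▸ ringChar.charP F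
    exact h.se hG (Perm.se_equiv (Perm.se_su3 (by omega)) e)
  · exact h.m11 hG k
  · exact h.j1 hG k

end St
end CF.OdT
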