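import Mathlib
import Cfsg.Statements.S2199
import Cfsg.Agent.TsY.Fgs1Ko11

set_option autoImplicit false
open Cfsg

namespace CF.TsY.S2199


/-- Doubly transitive simple groups with cyclic two-point stabilizers. Let a finite non-abelian simple group G act faithfully and 2-transitively on a finite set Ω, and suppose the stabilizer of two distinct points is cyclic. Then G ≅ PSL₂(F) with |F| ≥ 4 and |Ω| = |F| + 1; or G is a Suzuki group Sz(q), q = 2^(2m+1) ≥ 8, with |Ω| = q² + 1; or G ≅ PSU₃(q), q ≥ 3, with |Ω| = q³ + 1; or G is of Ree type in this action: the two-point stabilizer contains exactly one non-identity element fixing more than two points, all involutions of G are conjugate, and the centralizer of some involution is isomorphic to PSL₂(K) × C₂ for a finite field K of odd order. -/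
theorem result {G Ω : Type*} [Group G] [Finite G] [MulAction G Ω] [FaithfulSMul G Ω] [Fintype Ω] (hs : IsSimpleGroup G) (hna : ¬ IsMulCommutative G) (h2 : MulAction.IsMultiplyPretransitive G Ω 2) (a b : Ω) (hab : a ≠ b) (hcyc : IsCyclic ↥(MulAction.stabilizer G a ⊓ MulAction.stabilizer G b)) :
    (∃ (F : Type) (_ : Field F) (_ : Fintype F), 4 ≤ Fintype.card F ∧ Nonempty (G ≃* Matrix.ProjectiveSpecialLinearGroup (Fin 2) F) ∧ Fintype.card Ω = Fintype.card F + 1) ∨
    (∃ (F : Type) (_ : Field F) (_ : Fintype F) (m : ℕ), 1 ≤ m ∧ Fintype.card F = 2 ^ (2 * m + 1) ∧ Nonempty (G ≃* ↥(Cfsg.Lie.Sz F (2 ^ (m + 1)))) ∧ Fintype.card Ω = Fintype.card F ^ 2 + 1) ∨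
    (∃ (F : Type) (_ : Field F) (_ : Fintype F) (q : ℕ), 3 ≤ q ∧ Fintype.card F = q ^ 2 ∧ Nonempty (G ≃* Cfsg.PSU 3 F q) ∧ Fintype.card Ω = q ^ 3 + 1) ∨
    ((∃! t : G, t ∈ MulAction.stabilizer G a ⊓ MulAction.stabilizer G b ∧ t ≠ 1 ∧ 2 < Nat.card {x : Ω // t • x = x}) ∧
      (∀ s t : G, orderOf s = 2 → orderOf t = 2 → IsConj s t) ∧
      (∃ (t : G) (K : Type) (_ : Field K) (_ : Fintype K), orderOf t = 2 ∧ Odd (Fintype.card K) ∧ Nonempty (↥(Subgroup.centralizer ({t} : Set G)) ≃* Matrix.ProjectiveSpecialLinearGroup (Fin 2) K × Multiplicative (ZMod 2)))) := by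
  have := CF.Perm.twoTrans_iff.1 h2
  have h : CF.Ko.KT G Ω := ⟨⟨this, fun g e => eq_of_smul_eq_smul (α := Ω) fun x => by rw [e, one_smul]⟩, fun c d n => by
    obtain ⟨g, rfl, rfl⟩ := this a b c d hab n
    exact CF.Bender.cj_D2 g a b ▸ CF.BG.cyc_cj.2 hcyc⟩
  have k := h.cn (CF.Ab2.ns_top hna) hab
  simp only [CF.Ko.Cn, CF.Tw.Fx, Subgroup.zpowers_le] at k
  rw [← Nat.card_eq_fintype_card]
  exact k

end CF.TsY.S2199
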