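import Cfsg.Statements.S2201
import Cfsg.Agent.TsY.OnTL

set_option autoImplicit false
open Cfsg

namespace CF.TsY.S2201

/-- Let a finite group G act faithfully and 2-transitively on a finite set X, and let N be a normal subgroup of the stabilizer of a point x which is a trivial-intersection set in G (N meets each of its conjugates in N or trivially) and which is not semiregular on the remaining points (some non-identity element of N fixes a second point). Then G has a normal subgroup L isomorphic to PSL_n(F) for some n ≥ 3 and finite field F, with trivial centralizer in G (so PSL_n(F) ≤ G ≤ Aut PSL_n(F)), and X has (|F|^n − 1)/(|F| − 1) points. -/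
theorem result {G X : Type*} [Group G] [Finite G] [Fintype X] [MulAction G X] [FaithfulSMul G X] (h2 : MulAction.IsMultiplyPretransitive G X 2) (x : X) (N : Subgroup G) (hNle : N ≤ MulAction.stabilizer G x) (hNnormal : ∀ g ∈ MulAction.stabilizer G x, ∀ n ∈ N, g * n * g⁻¹ ∈ N)
    (hTI : ∀ g : G, N.map (MulAut.conj g).toMonoidHom = N ∨ N.map (MulAut.conj g).toMonoidHom ⊓ N = ⊥)
    (hnsr : ∃ n ∈ N, n ≠ 1 ∧ ∃ y : X, y ≠ x ∧ n • y = y) :
    ∃ (L : Subgroup G) (F : Type) (_ : Field F) (_ : Fintype F) (n : ℕ), 3 ≤ n ∧ L.Normal ∧ Subgroup.centralizer (L : Set G) = ⊥ ∧ Nonempty (↥L ≃* Matrix.ProjectiveSpecialLinearGroup (Fin n) F) ∧ Fintype.card X * (Fintype.card F - 1) = Fintype.card F ^ n - 1 := by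
  obtain ⟨M, l, nM, ab, ns⟩ := CF.OnT.onan_ti h2 x N hNle (CF.BG.le_norm_iff.2 hNnormal) hTI hnsr
  obtain ⟨_, -, h⟩ := CF.Perm.onan h2 x M (l.trans hNle) (CF.BG.le_norm_iff.1 nM) (fun _ ha _ hb => ab.mul_comm ha hb) ns
  obtain ⟨F, _, _, n, e, L, hn, hL, hc, i, -⟩ := h.main
  refine ⟨L, F, inferInstance, inferInstance, n, hn, hL, hc, i, ?_⟩
  have := Projectivization.card F (Fin n → F)
  rw [← Nat.card_congr e, Nat.card_fun, Nat.card_fin, Nat.card_eq_fintype_card, Nat.card_eq_fintype_card] at this
  exact this.symm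

end CF.TsY.S2201
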