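import Cfsg.Statements.S2208
import Cfsg.Agent.TsY.HirJ

set_option autoImplicit false
open Cfsg

namespace CF.TsY.S2208

/-- Let a finite group G act faithfully and 2-transitively on a finite set Ω, and suppose the stabilizer of a point has a normal subgroup N isomorphic to PSL₂(q), to a Suzuki group Sz(q), or to PSU₃(q), with q = 2^n ≥ 4. Then either Ω has 6 points, G is isomorphic to A₆ or S₆ and N ≅ PSL₂(4); or Ω has 11 points, G ≅ PSL₂(11) and N ≅ PSL₂(4); or G has a normal subgroup acting regularly on Ω. -/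
theorem result {G Ω : Type*} [Group G] [Finite G] [Fintype Ω] [MulAction G Ω] [FaithfulSMul G Ω] (h2 : MulAction.IsMultiplyPretransitive G Ω 2) (a : Ω) (N : Subgroup G) (hNle : N ≤ MulAction.stabilizer G a) (hNnormal : ∀ g ∈ MulAction.stabilizer G a, ∀ n ∈ N, g * n * g⁻¹ ∈ N)
    (hN : ∃ (F : Type) (_ : Field F) (_ : Fintype F) (m : ℕ), Fintype.card F = 2 ^ m ∧ 2 ≤ m ∧
      (Nonempty (↥N ≃* Matrix.ProjectiveSpecialLinearGroup (Fin 2) F) ∨ (Odd m ∧ Nonempty (↥N ≃* ↥(Cfsg.Lie.Sz F (2 ^ ((m + 1) / 2))))) ∨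
       (∃ (K : Type) (_ : Field K) (_ : Fintype K), Fintype.card K = (2 ^ m) ^ 2 ∧ Nonempty (↥N ≃* Cfsg.PSU 3 K (2 ^ m))))) :
    (Fintype.card Ω = 6 ∧ (Nonempty (G ≃* ↥(alternatingGroup (Fin 6))) ∨ Nonempty (G ≃* Equiv.Perm (Fin 6))) ∧ ∃ (F : Type) (_ : Field F) (_ : Fintype F), Fintype.card F = 4 ∧ Nonempty (↥N ≃* Matrix.ProjectiveSpecialLinearGroup (Fin 2) F)) ∨
    (Fintype.card Ω = 11 ∧ (∃ (F : Type) (_ : Field F) (_ : Fintype F), Fintype.card F = 11 ∧ Nonempty (G ≃* Matrix.ProjectiveSpecialLinearGroup (Fin 2) F)) ∧ ∃ (F : Type) (_ : Field F) (_ : Fintype F), Fintype.card F = 4 ∧ Nonempty (↥N ≃* Matrix.ProjectiveSpecialLinearGroup (Fin 2) F)) ∨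
    (∃ R : Subgroup G, R.Normal ∧ (∀ x y : Ω, ∃ r ∈ R, r • x = y) ∧ ∀ x : Ω, ∀ r ∈ R, r • x = x → r = 1) := by
  by_cases hr : CF.EqF.Reg G Ω
  · exact .inr (.inr hr)
  obtain ⟨s, se⟩ := CF.Hir.bender hN
  obtain ⟨e, k⟩ := CF.Hir.main h2 hNle hNnormal s se hr
  rw [Nat.card_eq_fintype_card] at k
  exact k.imp (fun k => ⟨k.1, k.2, CF.Hir.psl4 e⟩) fun k => .inl ⟨k.1, k.2, CF.Hir.psl4 e⟩

end CF.TsY.S2208
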