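import Mathlib
import Cfsg.Statements.S2213
import Cfsg.Agent.TsY.Fgs1Ko13

set_option autoImplicit false
open Cfsg

namespace CF.TsY.S2213


/-- Let a finite group G act faithfully and 2-transitively on a finite set Ω, and suppose that the stabilizer of two distinct points a, b contains exactly one non-identity element t fixing more than two points. Then one of: G is of Ree type in this action — all involutions of G are conjugate and the centralizer of t is isomorphic to PSL₂(K) × C₂ for a finite field K of odd order; or G ≅ PSU₃(5); or G has a normal subgroup acting regularly on Ω and G has exactly two conjugacy classes of involutions. -/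
theorem result {G Ω : Type*} [Group G] [Finite G] [Fintype Ω] [MulAction G Ω] [FaithfulSMul G Ω] (h2 : MulAction.IsMultiplyPretransitive G Ω 2) (a b : Ω) (hab : a ≠ b) (t : G)
    (ht : t ∈ (MulAction.stabilizer G a ⊓ MulAction.stabilizer G b) ∧ t ≠ 1 ∧ 2 < Nat.card {x : Ω // t • x = x})
    (huniq : ∀ s ∈ (MulAction.stabilizer G a ⊓ MulAction.stabilizer G b), s ≠ 1 → 2 < Nat.card {x : Ω // s • x = x} → s = t) :
    ((∀ u v : G, orderOf u = 2 → orderOf v = 2 → IsConj u v) ∧
      ∃ (K : Type) (_ : Field K) (_ : Fintype K), Odd (Fintype.card K) ∧ Nonempty (↥(Subgroup.centralizer ({t} : Set G)) ≃* Matrix.ProjectiveSpecialLinearGroup (Fin 2) K × Multiplicative (ZMod 2))) ∨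
    (∃ (F : Type) (_ : Field F) (_ : Fintype F), Fintype.card F = 25 ∧ Nonempty (G ≃* Cfsg.PSU 3 F 5)) ∨
    ((∃ N : Subgroup G, N.Normal ∧ (∀ x y : Ω, ∃ n ∈ N, n • x = y) ∧ ∀ x : Ω, ∀ n ∈ N, n • x = x → n = 1) ∧
      (ConjClasses.mk '' {g : G | orderOf g = 2}).ncard = 2) := by
  have e : ∀ s : G, Nat.card {x : Ω // s • x = x} = (CF.Tw.Fx Ω (Subgroup.zpowers s)).ncard := fun s => by
    simp only [CF.Tw.Fx, Subgroup.zpowers_le]; rfl
  simp only [e] at ht huniq
  exact CF.Ko.R0.main ⟨⟨CF.Perm.twoTrans_iff.1 h2, fun g e => eq_of_smul_eq_smul (α := Ω) fun x => by rw [e, one_smul]⟩,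
    hab, ht.1, ht.2.1, ht.2.2, huniq⟩

end CF.TsY.S2213
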