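import Cfsg.Agent.TsY.S0343
import Cfsg.Agent.TsY.S1145
import Cfsg.Agent.TsY.S1146
import Cfsg.Agent.TsY.S2199
import Cfsg.Agent.TsY.S2201
import Cfsg.Agent.TsY.S2208
import Cfsg.Agent.TsY.S2213
import Cfsg.Agent.TsY.S3120
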