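import Cfsg.Agent.Cy.A0
import Cfsg.Agent.Perm.ONan4
import Cfsg.Agent.Perm.Ks6
import Cfsg.Agent.TsY.PermHkZ

/-! Doubly transitive groups with a normal subgroup of odd prime order in the point stabiliser: basic facts. -/

set_option autoImplicit false
set_option linter.unusedSectionVars false

namespace CF.Cy

open MulAction Subgroup Cfsg CF.BG CF.Bender CF.ZD CF.Tw
open scoped commutatorElement

universe u v

variable {G : Type u} {Ω : Type v} [Group G] [Finite G] [MulAction G Ω] [Finite Ω]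
variable {p r : ℕ} {U : Ω → Subgroup G} {A H K N P T W X Y : Subgroup G} {Δ Λ : Set Ω} {a b c d e : Ω}
  {f g k s t u w x y z : G}

local notation "𝐒" => MulAction.stabilizer G

theorem fmul (hg : g • a = a) (hk : k • a = a) : (g * k) • a = a := by rw [mul_smul, hk, hg]
theorem finv (hg : g • a = a) : g⁻¹ • a = a := inv_smul_eq_iff.2 hg.symm
theorem fpow (hg : g • a = a) (n : ℕ) : g ^ n • a = a := (𝐒 a).pow_mem hg n
theorem fzp (hg : g • a = a) (hk : k ∈ zpowers g) : k • a = a := (zpowers_le (H := 𝐒 a)).2 hg hk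
theorem ne_of_fix (ga : g • a = a) (n : b ≠ a) : g • b ≠ a := fun e => n (MulAction.injective g (e.trans ga.symm))
theorem ne_smul (g : G) (n : a ≠ b) : g • a ≠ g • b := fun e => n (MulAction.injective g e)

/-- transitive on the points other than `a` -/
def Tr (a : Ω) (X : Subgroup G) : Prop := ∀ b c, b ≠ a → c ≠ a → ∃ u ∈ X, u • b = c

theorem Tr.of (h : ∀ c, c ≠ a → ∃ u ∈ X, u • b = c) : Tr a X := fun c d hc hd =>
  let ⟨u, hu, e⟩ := h c hc; let ⟨v, hv, e'⟩ := h d hd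
  ⟨v * u⁻¹, mul_mem hv (inv_mem hu), by rw [mul_smul, ← e, inv_smul_smul, e']⟩

theorem Tr.to (t : Tr a X) (n : b ≠ a) (h : ∀ x ∈ X, ∃ y ∈ Y, y • b = x • b) : Tr a Y := .of fun c hc =>
  let ⟨u, hu, e⟩ := t b c n hc; e ▸ h u hu

theorem Tr.mono (t : Tr a X) (l : X ≤ Y) : Tr a Y := fun b c hb hc => let ⟨u, hu, e⟩ := t b c hb hc; ⟨u, l hu, e⟩

theorem modp (hr : r.Prime) (e : PiElt {r} k) (inv : ∀ x ∈ Λ, k • x ∈ Λ) :
    Λ.ncard % r = {x | x ∈ Λ ∧ k • x = x}.ncard % r := by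
  haveI := Fact.mk hr
  obtain ⟨j, hj⟩ := e.zpowers.card_pow
  exact Fgs3.ncard_modEq_fixedBy (k := j) (by rw [← hj, Nat.card_zpowers, pow_orderOf_eq_one]) Λ (Set.toFinite _) inv

/-- the members inside a subgroup -/
def Pts (U : Ω → Subgroup G) (W : Subgroup G) : Set Ω := {e | U e ≤ W}

/-- the block through two points -/
abbrev Bl (U : Ω → Subgroup G) (a b : Ω) : Set Ω := Pts U (U a ⊔ U b)

theorem ptl : a ∈ Bl U a b := le_sup_left (a := U a)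
theorem ptr : b ∈ Bl U a b := le_sup_right (b := U b)
theorem bl_comm : Bl U a b = Bl U b a := by rw [Bl, sup_comm]

theorem cyc_pow (c : (♯A).Prime) (hr : r.Prime) (hf : f ∈ 𝐍 A) (hg : g ∈ 𝐍 A) (e : f ^ r ∈ 𝐂 A) (e' : g ^ r ∈ 𝐂 A) (n : f ∉ 𝐂 A) :
    ∃ φ ∈ zpowers f, g * φ⁻¹ ∈ 𝐂 A := by
  haveI : Fact (Nat.Prime (♯A)) := ⟨c⟩
  haveI := cyc_of_prime c
  haveI : IsCyclic (MulAut A) := (IsCyclic.mulAutMulEquiv A).isCyclic.2 inferInstance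
  have k : ∀ x : 𝐍 A, A.normalizerMonoidHom x = 1 ↔ (x : G) ∈ 𝐂 A := fun x => by
    rw [← MonoidHom.mem_ker, normalizerMonoidHom_ker, mem_subgroupOf]
  obtain ⟨j, hj⟩ := Fgs2.mem_zpowers_of_orderOf_dvd (a := A.normalizerMonoidHom ⟨g, hg⟩) (b := A.normalizerMonoidHom ⟨f, hf⟩) (by
    rw [orderOf_eq_of_pow (x := A.normalizerMonoidHom ⟨f, hf⟩) hr (by rw [← map_pow]; exact (k _).2 e) (mt (k _).1 n)]
    exact orderOf_dvd_of_pow_eq_one (by rw [← map_pow]; exact (k _).2 e'))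
  refine ⟨f ^ j, zpow_mem (mem_zpowers f) j, (k (⟨g, hg⟩ * (⟨f, hf⟩ ^ j)⁻¹)).1 ?_⟩
  rw [map_mul, map_inv, map_zpow, ← hj]; exact mul_inv_cancel _

namespace CY
variable (h : CY p U)
include h

theorem prime (a : Ω) : (♯(U a)).Prime := h.card a ▸ h.hp
theorem pi (a : Ω) : PiGrp {p} (U a) := piGrp_of_card_prime h.hp (h.card a)
theorem cyc (a : Ω) : Cyc (U a) := cyc_of_prime (h.prime a)
theorem abel (a : Ω) : Abel (U a) := (h.cyc a).abel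
theorem self (hx : x ∈ U a) : x • a = a := h.le a hx
theorem gen (hx : x ∈ U a) (x1 : x ≠ 1) : zpowers x = U a := zpowers_eq_of_prime (h.prime a) hx x1
theorem pow (hx : x ∈ U a) : x ^ p = 1 := orderOf_dvd_iff_pow_eq_one.1 (h.card a ▸ orderOf_dvd_card' hx)
theorem ne_bot (a : Ω) : U a ≠ ⊥ := ne_bot_of_prime_card (h.prime a)
theorem ex (a : Ω) : ∃ x ∈ U a, x ≠ 1 := exists_mem_ne_one (h.ne_bot a)
theorem p3 : 3 ≤ p := by have := h.hp.two_le; have := h.p2; omega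
theorem odd : Odd p := h.hp.odd_of_ne_two h.p2
theorem pi2 (a : Ω) : PiGrp {2}ᶜ (U a) := (h.pi a).of_single_ne h.p2

theorem cent_of (hx : x ∈ U a) (x1 : x ≠ 1) (c : g * x = x * g) : g ∈ 𝐂 (U a) := by
  rw [← h.gen hx x1, cent_zpowers]; exact mem_cent1.2 c

theorem norm (e : g • a = a) : g ∈ 𝐍 (U a) := by rw [← cj_eq_self, h.cj, e]

theorem conj (hx : x ∈ U a) (g : G) : g * x * g⁻¹ ∈ U (g • a) := h.cj g a ▸ conj_mem_cj.2 hx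

theorem cj_C (g : G) (a : Ω) : BG.cj g (𝐂 (U a)) = 𝐂 (U (g • a)) := by rw [cj_cent, h.cj]

theorem conjC (hx : x ∈ 𝐂 (U a)) (g : G) : g * x * g⁻¹ ∈ 𝐂 (U (g • a)) := h.cj_C g a ▸ conj_mem_cj.2 hx

theorem t1 (a b : Ω) : ∃ g : G, g • a = b := by
  by_cases e : a = b
  exacts [⟨1, by rw [one_smul, e]⟩, let ⟨g, e, _⟩ := h.tt a b b a e (Ne.symm e); ⟨g, e⟩]

theorem trS (a : Ω) : Tr a (𝐒 a) := fun b c hb hc => let ⟨g, e, k⟩ := h.tt a b a c hb.symm hc.symm; ⟨g, e, k⟩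

theorem exists_ne (a b : Ω) : ∃ c, c ≠ a ∧ c ≠ b :=
  let ⟨c, _, e⟩ := exists_third (Δ := Set.univ) ((Set.ncard_univ Ω).symm ▸ h.big) a b; ⟨c, e⟩

theorem triv (n : b ≠ a) (nm : 𝐒 a ≤ 𝐍 X) (l : X ≤ 𝐒 a) (e : X ≤ 𝐒 b) : X = ⊥ := eq_bot_of_forall fun x hx => h.ff x fun c => by
  by_cases k : c = a
  · exact k ▸ l hx
  obtain ⟨g, hg, rfl⟩ := h.trS a b c n k
  rw [← mul_inv_cancel_left g x, mul_smul, smul_smul _ g, e (conj_mem_of_norm' (nm hg) hx)]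

theorem semi (hx : x ∈ U a) (n : a ≠ b) (e : x • b = b) : x = 1 := by_contra fun x1 =>
  h.ne_bot a (h.triv n.symm (fun _ => h.norm) (h.le a) (h.gen hx x1 ▸ zpowers_le.2 e))

theorem inj (e : U a = U b) : a = b := by_contra fun n =>
  let ⟨_, hx, x1⟩ := h.ex a; x1 (h.semi hx n (h.self (e ▸ hx)))

theorem fix_iff : g • a = a ↔ g ∈ 𝐍 (U a) := ⟨h.norm, fun e => h.inj (by rw [← h.cj, cj_eq_self.2 e])⟩

theorem stab (a : Ω) : 𝐒 a = 𝐍 (U a) := Subgroup.ext fun _ => h.fix_iff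

theorem cfix (hg : g ∈ 𝐂 (U a)) : g • a = a := h.fix_iff.2 (cent_le_norm _ hg)

theorem normC (e : g • a = a) : g ∈ 𝐍 (𝐂 (U a)) := norm_le_norm_cent _ (h.norm e)

theorem nU (a : Ω) : U a ⊴ 𝐒 a := ⟨h.le a, fun _ => h.norm⟩
theorem nC (a : Ω) : 𝐂 (U a) ⊴ 𝐒 a := ⟨fun _ => h.cfix, fun _ => h.normC⟩

theorem der (a : Ω) : ⁅𝐒 a, 𝐒 a⁆ ≤ 𝐂 (U a) := (h.cyc a).der_le_cent (h.nU a).norm

theorem der' (hg : g • a = a) (hk : k • a = a) : g * k * g⁻¹ * k⁻¹ ∈ 𝐂 (U a) := h.der a (commutator_mem_commutator hg hk)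

theorem rel (l : X ≤ 𝐒 a) : (𝐂 (U a)).relIndex X ∣ p - 1 := h.card a ▸ relIndex_cent_dvd_pred (h.prime a) (l.trans (h.nU a).norm)

theorem pC (k : PiElt {p} g) (e : g • a = a) : g ∈ 𝐂 (U a) :=
  k.mem_of_relIndex (show g ∈ 𝐒 a from e) (h.nC a).norm (((piNat_compl_single h.hp).2 fun d => by
    have := Nat.le_of_dvd (by have := h.p3; omega) d; have := h.p3; omega).dvd (h.rel le_rfl))

theorem eq_of (hx : x ∈ U a) (hy : y ∈ U a) (n : a ≠ b) (e : x • b = y • b) : x = y :=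
  (inv_mul_eq_one.1 (h.semi (mul_mem (inv_mem hy) hx) n (by rw [mul_smul, e, inv_smul_smul]))).symm

theorem comm3 (hx : x ∈ U a) (n : a ≠ b) (ga : g • a = a) (gb : g • b = b) (e : g • x • b = x • b) : g * x = x * g :=
  mul_inv_eq_iff_eq_mul.1 (h.eq_of (conj_mem_of_norm (h.norm ga) hx) hx n (by rw [mul_smul, mul_smul, finv gb, e]))

theorem dvd (ha : a ∉ Δ) (inv : ∀ x ∈ U a, ∀ b ∈ Δ, x • b ∈ Δ) : p ∣ Δ.ncard :=
  h.card a ▸ card_dvd_ncard (Set.toFinite _) inv fun _ hx _ hg e => h.semi hg (fun k => ha (k ▸ hx)) e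

theorem mod (ha : a ∈ Δ) (inv : ∀ x ∈ U a, ∀ b ∈ Δ, x • b ∈ Δ) : ∃ m, Δ.ncard = p * m + 1 := by
  obtain ⟨m, e⟩ := h.dvd (Δ := Δ \ {a}) (a := a) (fun k => k.2 rfl) fun g hg x hx => ⟨inv g hg x hx.1, ne_of_fix (h.self hg) hx.2⟩
  exact ⟨m, by rw [← e, Set.ncard_sdiff_singleton_add_one ha]⟩

theorem modn (a : Ω) : ∃ m, Nat.card Ω = p * m + 1 := Set.ncard_univ Ω ▸ h.mod (Set.mem_univ a) fun _ _ _ _ => trivial

theorem card_J (n : a ≠ b) (m : c ≠ d) : ♯(𝐂 (U c) ⊓ 𝐂 (U d)) = ♯(𝐂 (U a) ⊓ 𝐂 (U b)) := by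
  obtain ⟨g, rfl, rfl⟩ := h.tt a b c d n m
  rw [← h.cj_C, ← h.cj_C, ← cj_inf, card_cj]

/-- an element centralising one root subgroup centralises the root subgroups of all its fixed points -/
theorem kl (c : g ∈ 𝐂 (U a)) (e : g • b = b) : g ∈ 𝐂 (U b) := by_contra fun m => by
  have n : a ≠ b := fun k => m (k ▸ c)
  obtain ⟨x, hx, x1⟩ := h.ex a
  have n1 : b ≠ x • b := fun k => x1 (h.semi hx n k.symm)
  have cx : ∀ y ∈ 𝐂 (U a), x * y * x⁻¹ = y := fun y hy => by rw [mem_cent.1 hy x hx, mul_inv_cancel_right]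
  have e1 : 𝐂 (U a) ⊓ 𝐂 (U b) = 𝐂 (U b) ⊓ 𝐂 (U (x • b)) :=
    eq_of_card_eq (fun y hy => ⟨hy.2, cx y hy.1 ▸ h.conjC hy.2 x⟩) (h.card_J n1 n)
  have l : D2 G b (x • b) ≤ D2 G a b := fun k hk => mem_D2.2 ⟨by_contra fun n2 => by
    have kn : k ∈ 𝐍 (𝐂 (U a) ⊓ 𝐂 (U b)) := by
      rw [e1, ← cj_eq_self, cj_inf, h.cj_C, h.cj_C, hk.1, hk.2]
    have e2 : 𝐂 (U a) ⊓ 𝐂 (U b) = 𝐂 (U a) ⊓ 𝐂 (U (k • a)) := eq_of_card_eq (fun y hy => ⟨hy.1, by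
      simpa [mul_assoc] using h.conjC (conj_mem_of_norm' kn hy).1 k⟩) (h.card_J (Ne.symm n2) n)
    have d : k * g * k⁻¹ * g⁻¹ ∈ 𝐂 (U a) ⊓ 𝐂 (U b) :=
      e1.ge ⟨h.der' hk.1 e, h.der' hk.2 (comm_smul (mem_cent.1 c x hx) e)⟩
    have := (mem_inf.1 (e2.ge ⟨inv_mul_cancel_right (k * g * k⁻¹) g ▸ mul_mem (mem_inf.1 d).1 c, h.conjC c k⟩)).2
    exact m (by simpa [mul_assoc] using mul_mem (inv_mem (mem_inf.1 d).2) this), hk.1⟩
  have l' := (eq_of_card_eq l (h.card_D n n1)).ge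
  have l2 : D2 G a b ≤ 𝐂 (U a) := fun k hk => h.cent_of hx x1 (h.comm3 hx n hk.1 hk.2 (l' hk).2)
  obtain ⟨s, sa, sb⟩ := h.tt a b b a n n.symm
  have := h.conjC (l2 (mem_D2.2 ⟨conj_smul' (show g • s • a = s • a by rw [sa, e]),
    conj_smul' (show g • s • b = s • b by rw [sb, h.cfix c])⟩)) s
  exact m (by simpa [mul_assoc, sa] using this)

theorem k0 (c : g ∈ 𝐂 (U a)) (e : g • b = b) : g ∈ 𝐂 (U a ⊔ U b) := by rw [cent_sup]; exact ⟨c, h.kl c e⟩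

theorem K_a (c : g ∈ 𝐂 (U a ⊔ U b)) : g • a = a := h.cfix (cent_anti le_sup_left c)
theorem K_b (c : g ∈ 𝐂 (U a ⊔ U b)) : g • b = b := h.cfix (cent_anti le_sup_right c)
theorem K_pt (c : g ∈ 𝐂 W) (ha : a ∈ Pts U W) : g • a = a := h.cfix (cent_anti ha c)
theorem K_D : 𝐂 (U a ⊔ U b) ≤ D2 G a b := fun _ c => mem_D2.2 ⟨h.K_a c, h.K_b c⟩

theorem K_mv (c' : g ∈ 𝐂 (U a)) (e : g • c = c) (e' : g • d = d) : g ∈ 𝐂 (U c ⊔ U d) := h.k0 (h.kl c' e) e'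

theorem K_eq (a b : Ω) : 𝐂 (U a ⊔ U b) = 𝐂 (U a) ⊓ 𝐒 b :=
  le_antisymm (fun _ c => ⟨cent_anti le_sup_left c, h.K_b c⟩) fun _ c => h.k0 c.1 c.2

theorem cj_F (ha : g • a = c) (hb : g • b = d) : BG.cj g (U a ⊔ U b) = U c ⊔ U d := by rw [cj_sup, h.cj, h.cj, ha, hb]

theorem cj_K (ha : g • a = c) (hb : g • b = d) : BG.cj g (𝐂 (U a ⊔ U b)) = 𝐂 (U c ⊔ U d) := by rw [cj_cent, h.cj_F ha hb]

theorem card_F (n : a ≠ b) (m : c ≠ d) : ♯(U c ⊔ U d) = ♯(U a ⊔ U b) := by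
  obtain ⟨g, e, k⟩ := h.tt a b c d n m; rw [← h.cj_F e k, card_cj]

theorem card_K (n : a ≠ b) (m : c ≠ d) : ♯(𝐂 (U c ⊔ U d)) = ♯(𝐂 (U a ⊔ U b)) := by
  obtain ⟨g, e, k⟩ := h.tt a b c d n m; rw [← h.cj_K e k, card_cj]

theorem F_eq (n : a ≠ b) (hc : c ∈ Bl U a b) (hd : d ∈ Bl U a b) (m : c ≠ d) : U c ⊔ U d = U a ⊔ U b :=
  eq_of_card_eq (sup_le hc hd) (h.card_F n m)

theorem bl_eq (n : a ≠ b) (hc : c ∈ Bl U a b) (hd : d ∈ Bl U a b) (m : c ≠ d) : Bl U c d = Bl U a b := by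
  rw [Bl, h.F_eq n hc hd m]

theorem smul (hg : g ∈ 𝐍 W) (ha : a ∈ Pts U W) : g • a ∈ Pts U W := (h.cj g a).symm.trans_le (cj_le_of_norm hg ha)

theorem smul' (hg : g ∈ W) (ha : a ∈ Pts U W) : g • a ∈ Pts U W := h.smul (le_norm_self W hg) ha

theorem smul_bl : g • c ∈ Bl U (g • a) (g • b) ↔ c ∈ Bl U a b := by
  change U _ ≤ _ ↔ U _ ≤ _
  rw [← h.cj_F rfl rfl, ← h.cj, cj_le_cj]

theorem norm2 (ha : g • a = a) (hb : g • b = b) : g ∈ 𝐍 (U a ⊔ U b) := cj_eq_self.1 (h.cj_F ha hb)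

theorem norm2' (ha : g • a = b) (hb : g • b = a) : g ∈ 𝐍 (U a ⊔ U b) := cj_eq_self.1 ((h.cj_F ha hb).trans (sup_comm _ _))

theorem nrm (n : a ≠ b) (ha : g • a ∈ Bl U a b) (hb : g • b ∈ Bl U a b) : g ∈ 𝐍 (U a ⊔ U b) :=
  cj_eq_self.1 ((h.cj_F rfl rfl).trans (h.F_eq n ha hb (ne_smul g n)))

theorem bl_tt (n : a ≠ b) : TT (𝐍 (U a ⊔ U b)) (Bl U a b) := ⟨fun _ hg _ ha => h.smul hg ha, fun c hc d hd _ he _ hf m m' => by
  obtain ⟨g, rfl, rfl⟩ := h.tt _ _ _ _ m m'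
  exact ⟨g, h.F_eq n hc hd m ▸ h.nrm m (by rwa [h.bl_eq n hc hd m]) (by rwa [h.bl_eq n hc hd m]), rfl, rfl⟩⟩

theorem orb_le (n : a ≠ b) (ha : a ∈ Δ) (hb : b ∈ Δ) (inv : ∀ x ∈ U a, ∀ b ∈ Δ, x • b ∈ Δ) : p + 1 ≤ Δ.ncard := by
  obtain ⟨m, e⟩ := h.mod ha inv
  have := (Set.one_lt_ncard (Set.toFinite _)).2 ⟨a, ha, b, hb, n⟩
  rcases m with _ | m
  · omega
  · rw [e, mul_add]; omega

theorem bl_le (n : a ≠ b) : p + 1 ≤ (Bl U a b).ncard := h.orb_le n ptl ptr fun _ hx _ hc => h.smul' (mem_sup_left hx) hc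

theorem bl_big (n : a ≠ b) : 2 < (Bl U a b).ncard := by have := h.bl_le n; have := h.p3; omega

theorem card_bl (n : a ≠ b) (m : c ≠ d) : (Bl U c d).ncard = (Bl U a b).ncard := by
  obtain ⟨g, rfl, rfl⟩ := h.tt a b c d n m
  exact Hk.ncard_smul g fun _ => h.smul_bl

/-- an element fixing a block pointwise centralises it -/
theorem K_of (n : a ≠ b) (e : ∀ c ∈ Bl U a b, g • c = c) : g ∈ 𝐂 (U a ⊔ U b) :=
  let ⟨_, hx, x1⟩ := h.ex a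
  h.k0 (h.cent_of hx x1 (h.comm3 hx n (e a ptl) (e b ptr) (e _ (h.smul' (mem_sup_left hx) ptr)))) (e b ptr)

theorem Pt_bl (n : a ≠ b) : Hk.Pt G (Bl U a b) = 𝐂 (U a ⊔ U b) :=
  le_antisymm (fun _ => h.K_of n) fun _ c _ => h.K_pt c

theorem St_bl (n : a ≠ b) : Hk.St G (Bl U a b) = 𝐍 (U a ⊔ U b) :=
  le_antisymm (fun _ hg => h.nrm n (Hk.St.smul hg ptl) (Hk.St.smul hg ptr)) fun _ hg => Hk.St.mk' fun _ => h.smul hg

/-- abelian normal subgroups centralising the root subgroup are semiregular -/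
theorem on (n : N ⊴ 𝐒 a) (ab : Abel N) (c : N ≤ 𝐂 (U a)) (hx : x ∈ N) (m : b ≠ a) (e : x • b = b) : x = 1 := by_contra fun x1 => by
  haveI := h.faith
  have nm : N ⊔ U a ⊴ 𝐒 a := n.sup (h.nU a)
  obtain ⟨M, e1, o⟩ := Perm.onan h.two a (N ⊔ U a) nm.le (fun g hg y hy => conj_mem_of_norm (nm.norm hg) hy)
    (fun y hy z hz => (ab.sup (h.abel a) c).mul_comm hy hz) ⟨x, mem_sup_left hx, x1, b, m, e⟩
  have l : ∀ d, U d ≤ M d := fun d => by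
    obtain ⟨g, rfl⟩ := h.t1 a d
    rw [e1, ← h.cj]; exact cj_mono g le_sup_right
  obtain ⟨d, hd⟩ := o.exists_notMem m
  obtain ⟨y, hy, y1⟩ := h.ex d
  obtain ⟨w, hw, k⟩ := o.exists_fix m (l d hy)
  exact y1 (h.semi hy (fun e => hd (e ▸ hw)) k)

theorem out_of (ev : Nat.card Ω % 2 = 0) (n : N ⊴ 𝐒 a) (nil : Nil N) (t : Tr a N) : Out G Ω := by
  haveI := h.faith
  have R := Hk.Ks.even_case Hk.main (h.t1 a) (Nat.even_iff.2 ev) (F_le _) (le_norm_F (le_norm_self _)) (F_nil _)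
    (t.mono (le_F n nil))
  refine .inr ⟨Nat.even_iff.2 ev, ?_⟩
  convert R using 1
  funext c
  obtain ⟨g, rfl⟩ := h.t1 a c
  rw [Hk.Ks.fam_eq (le_norm_F (le_norm_self _)), BG.cj_F, cj_stab]

theorem reg_of (n : N ⊴ ⊤) (s : Sol N) (l : U a ≤ N) : EqF.Reg G Ω := by_contra fun r =>
  h.ne_bot a (le_bot_iff.1 (h.O_bot r n s ▸ l))

end CY

end CF.Cy
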