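import Cfsg.Agent.TsY.CyA

/-! Doubly transitive groups with a normal subgroup of odd prime order in the point stabiliser: subsystems. -/

set_option autoImplicit false
set_option linter.unusedSectionVars false

namespace CF.Cy

open MulAction Subgroup Cfsg CF.BG CF.Bender CF.ZD CF.Tw
open CF.Hk (St Pt PB)
open scoped commutatorElement

universe u v

variable {G : Type u} {Ω : Type v} [Group G] [Finite G] [MulAction G Ω] [Finite Ω]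
variable {p r : ℕ} {U : Ω → Subgroup G} {A E H K N P T W X Y : Subgroup G} {Δ Λ : Set Ω} {a b c d e : Ω}
  {g k s t u w x y z : G}

local notation "𝐒" => MulAction.stabilizer G

/-- the possible outcomes -/
def Af (p : ℕ) (U : Ω → Subgroup G) : Prop := EqF.Reg G Ω ∨ (Nat.card Ω = p + 1 ∧ 5 ≤ p) ∨ AU p U ∨ AR p U

/-- the inductive hypothesis -/
def IH (p n : ℕ) : Prop := ∀ (X : Type u) (Λ : Type v) [Group X] [Finite X] [MulAction X Λ] [Finite Λ] (V : Λ → Subgroup X),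
  Nat.card Λ < n → CY p V → Af p V

/-- the minimal configuration -/
structure MC (p : ℕ) (U : Ω → Subgroup G) : Prop extends CY p U where
  nr : ¬ EqF.Reg G Ω
  ih : IH.{u, v} p (Nat.card Ω)

/-- subsystems -/
structure Sb (U : Ω → Subgroup G) (N : Subgroup G) (Λ : Set Ω) : Prop where
  tt : TT N Λ
  le : ∀ c ∈ Λ, U c ≤ N
  big : 1 < Λ.ncard

/-- a regular normal subgroup in a subsystem -/
structure SR (N : Subgroup G) (Λ : Set Ω) (E : Subgroup G) : Prop where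
  nm : E ⊴ N
  tr : ∀ c ∈ Λ, ∀ d ∈ Λ, ∃ e ∈ E, e • c = d
  semi : ∀ e ∈ E, ∀ c ∈ Λ, e • c = c → e ∈ Pt G Λ
  ker : N ⊓ Pt G Λ ≤ E

/-- unitary subsystems -/
structure SU (p : ℕ) (U : Ω → Subgroup G) (N : Subgroup G) (Λ : Set Ω) : Prop where
  card : Λ.ncard = p ^ 3 + 1
  z : ∀ a ∈ Λ, ∀ b ∈ Λ, a ≠ b → ∃ z ∈ U a ⊔ U b, z ∉ Pt G Λ ∧ z ∈ 𝐂 (U a ⊔ U b)
  ua : ∀ a ∈ Λ, ∀ W : Subgroup G, W ⊴ N ⊓ 𝐒 a → Abel W → PiGrp {p} W → ∀ w ∈ W, ∃ u ∈ U a, u⁻¹ * w ∈ Pt G Λ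

/-- subsystems of degree 28 -/
structure S3 (p : ℕ) (U : Ω → Subgroup G) (N : Subgroup G) (Λ : Set Ω) : Prop where
  p3 : p = 3
  card : Λ.ncard = 28
  fx : ∀ u ∈ N, u * u ∈ Pt G Λ → ∃ c ∈ Λ, u • c = c
  iv : ∀ a ∈ Λ, ∀ b ∈ Λ, a ≠ b → ∀ u ∈ N, u * u ∈ Pt G Λ → ∃ x ∈ U a ⊔ U b, x⁻¹ * u ∈ Pt G Λ
  all : ∀ a ∈ Λ, ∀ b ∈ Λ, a ≠ b → Λ ⊆ Bl U a b

theorem Sb.st (s : Sb U N Λ) : N ≤ St G Λ := fun g hg => St.mk' (s.tt.inv g hg)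

theorem Sb.F_le (s : Sb U N Λ) (ha : a ∈ Λ) (hb : b ∈ Λ) : U a ⊔ U b ≤ N := sup_le (s.le a ha) (s.le b hb)

namespace CY
variable (h : CY p U)
include h

theorem mem_of (ha : a ∈ Λ) (l : U a ≤ St G Λ) (l' : U c ≤ St G Λ) : c ∈ Λ := by_contra fun m => by
  obtain ⟨k, e⟩ := h.mod ha fun _ hx _ => St.smul (l hx)
  exact h.hp.not_dvd_one ((Nat.dvd_add_right (dvd_mul_right p k)).1 (e ▸ h.dvd m fun _ hx _ => St.smul (l' hx)))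

theorem bl_sub (ha : a ∈ Λ) (l : U a ⊔ U b ≤ St G Λ) : Bl U a b ⊆ Λ := fun _ hc => h.mem_of ha (le_sup_left.trans l) (hc.trans l)

theorem sb_bl (n : a ≠ b) : Sb U (𝐍 (U a ⊔ U b)) (Bl U a b) :=
  ⟨h.bl_tt n, fun _ hc => hc.trans (le_norm_self _), lt_trans one_lt_two (h.bl_big n)⟩

theorem sb_sub (s : Sb U N Λ) (ha : a ∈ Λ) (hb : b ∈ Λ) : Bl U a b ⊆ Λ := h.bl_sub ha ((s.F_le ha hb).trans s.st)

theorem sb_le (s : Sb U N Λ) : p + 1 ≤ Λ.ncard :=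
  let ⟨a, ha, _, hb, n⟩ := Ko.exists_pair s.big
  h.orb_le n ha hb fun _ hx => s.tt.inv _ (s.le a ha hx)

theorem sb_big (s : Sb U N Λ) : 2 < Λ.ncard := by have := h.sb_le s; have := h.p3; omega

theorem Pt_K (s : Sb U N Λ) (ha : a ∈ Λ) (hb : b ∈ Λ) (n : a ≠ b) : Pt G Λ ≤ 𝐂 (U a ⊔ U b) :=
  h.Pt_bl n ▸ Hk.Pt_anti (h.sb_sub s ha hb)

section
variable {X : Type*} [Group X] [Finite X] [MulAction X Λ] {f : G → X} (sb : Sb U N Λ) (Q : PB N Λ f)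
  (ek : ∀ x ∈ N, x ∈ Pt G Λ → f x = 1)
include sb Q ek

theorem pb_cy : CY p (Q.rt U) where
  tt := fun a b c d n m =>
    let ⟨g, hg, e0, e'⟩ := sb.tt.tt a a.2 b b.2 c c.2 d d.2 (Subtype.val_injective.ne n) (Subtype.val_injective.ne m)
    ⟨f g, (Q.iff hg).2 e0, (Q.iff hg).2 e'⟩
  ff := fun y hy => by
    obtain ⟨y, h', rfl⟩ := Q.sur y
    exact ek y h' fun a ha => (Q.iff h' (a := ⟨a, ha⟩) (b := ⟨a, ha⟩)).1 (hy _)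
  hp := h.hp
  p2 := h.p2
  big := h.sb_big sb
  card := fun a => by
    refine ((Nat.dvd_prime h.hp).1 (h.card a ▸ (card_map_dvd _ _).trans
      (card_comap_dvd_of_injective _ _ N.subtype_injective))).resolve_left fun k => ?_
    obtain ⟨x, hx, x1⟩ := h.ex a
    obtain ⟨c, hc, m, -⟩ := exists_third (h.sb_big sb) a a
    exact x1 (h.semi hx m.symm (Q.ker (sb.le a a.2 hx) (eq_one_of_mem_bot (card_eq_one.1 k) (Q.im_mem hx (sb.le a a.2 hx))) c hc))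
  le := fun a y hy => by
    obtain ⟨x, hx, k, rfl⟩ := Q.mem_im.1 hy
    exact (Q.iff k).2 (h.self hx)
  cj := fun g a => by
    obtain ⟨g, hg, rfl⟩ := Q.sur g
    refine le_antisymm ?_ fun y hy => ?_
    · rintro _ ⟨y, hy, rfl⟩
      obtain ⟨x, hx, k, rfl⟩ := Q.mem_im.1 hy
      exact (Q.conj hg k).subst (Q.im_mem (Q.act hg a ▸ h.conj hx g) (mul_mem (mul_mem hg k) (inv_mem hg)))
    · obtain ⟨x, hx, k, rfl⟩ := Q.mem_im.1 hy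
      rw [Q.act hg, ← h.cj] at hx
      obtain ⟨x, hx, rfl⟩ := hx
      exact ⟨f x, Q.im_mem hx (sb.le a a.2 hx), (Q.conj hg (sb.le a a.2 hx)).symm⟩

omit h sb in
theorem pb_eq (hx : x ∈ N) (hy : y ∈ N) : f x = f y ↔ x⁻¹ * y ∈ Pt G Λ := by
  rw [← inv_mul_eq_one, ← Q.inv hx, ← Q.mul (inv_mem hx) hy]
  exact ⟨Q.ker (mul_mem (inv_mem hx) hy), ek _ (mul_mem (inv_mem hx) hy)⟩

omit h ek in
theorem pb_sup (a b : Λ) : Q.rt U a ⊔ Q.rt U b = Q.im (U a ⊔ U b) := by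
  rw [PB.im, subgroupOf_sup (sb.le a a.2) (sb.le b b.2), Subgroup.map_sup]; rfl

omit h sb in
theorem pb_reg (r : EqF.Reg X Λ) : ∃ E, SR N Λ E := by
  obtain ⟨M, nm, tr, semi⟩ := r
  refine ⟨(M.comap Q.hom).map N.subtype, normal_iff_map_subtype.1 inferInstance, fun c hc d hd => ?_, ?_, fun x hx =>
    ⟨⟨x, hx.1⟩, (ek x hx.1 hx.2).symm.subst (motive := (· ∈ M)) (one_mem _), rfl⟩⟩
  · obtain ⟨y, hy, k⟩ := tr ⟨c, hc⟩ ⟨d, hd⟩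
    obtain ⟨x, hx, rfl⟩ := Q.sur y
    exact ⟨x, ⟨⟨x, hx⟩, hy, rfl⟩, (Q.iff hx).1 k⟩
  · rintro _ ⟨x, hx, rfl⟩ c hc k
    exact Q.ker x.2 (semi ⟨c, hc⟩ _ hx ((Q.iff x.2).2 k))

omit h sb in
theorem pb_reg' (r : SR N Λ E) : EqF.Reg X Λ := by
  haveI := normal_subgroupOf_of_le_normalizer r.nm.norm
  refine ⟨Q.im E, Normal.map inferInstance _ fun y => let ⟨x, hx, k⟩ := Q.sur y; ⟨⟨x, hx⟩, k⟩, fun c d => ?_, fun c y hy k => ?_⟩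
  · obtain ⟨x, hx, k⟩ := r.tr c c.2 d d.2
    exact ⟨f x, Q.im_mem hx (r.nm.le hx), (Q.iff (r.nm.le hx)).2 k⟩
  · obtain ⟨x, hx, k', rfl⟩ := Q.mem_im.1 hy
    exact ek x k' (r.semi x hx c c.2 ((Q.iff k').1 k))

theorem pb_bl {a b c : Λ} (n : a ≠ b) (l : c ∈ Bl (Q.rt U) a b) : (c : Ω) ∈ Bl U a b := by
  have n' := Subtype.val_injective.ne n
  refine h.mem_of ptl ((le_sup_left.trans (le_norm_self _)).trans (h.St_bl n').ge) fun x hx => ?_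
  obtain ⟨y, hy, k, e1⟩ := Q.mem_im.1 ((pb_sup sb Q a b).le (l (Q.im_mem hx (sb.le c c.2 hx))))
  have := (pb_eq Q ek k (sb.le c c.2 hx)).1 e1
  rw [h.St_bl n', ← mul_inv_cancel_left y x]
  exact mul_mem (le_norm_self _ hy) (cent_le_norm _ (h.Pt_K sb a.2 b.2 n' this))

theorem pb_au (r : AU p (Q.rt U)) : SU p U N Λ := ⟨r.card, fun a ha b hb n => by
  obtain ⟨y, hy, y1, c⟩ := r.z ⟨a, ha⟩ ⟨b, hb⟩ fun k => n (congrArg Subtype.val k)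
  obtain ⟨z, hz, k, rfl⟩ := Q.mem_im.1 ((pb_sup sb Q _ _).le hy)
  refine ⟨z, hz, mt (ek z k) y1, h.K_of n fun d hd => ?_⟩
  refine (Q.iff k (a := ⟨d, h.sb_sub sb ha hb hd⟩) (b := ⟨d, h.sb_sub sb ha hb hd⟩)).1 ((h.pb_cy sb Q ek).K_pt c ?_)
  rw [pb_sup sb Q]
  exact map_mono (comap_mono hd), fun a ha W n ab k w hw => by
  obtain ⟨u, hu, k, e1⟩ := Q.mem_im.1 (r.ua ⟨a, ha⟩ (Q.im W) ⟨fun y hy => by
      obtain ⟨x, hx, k, rfl⟩ := Q.mem_im.1 hy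
      exact (Q.iff k).2 (n.le hx).2, le_norm_iff.2 fun g hg y hy => by
      obtain ⟨x, hx, k, rfl⟩ := Q.mem_im.1 hy
      obtain ⟨g, hg', rfl⟩ := Q.sur g
      exact Q.conj hg' k ▸ Q.im_mem (conj_mem_of_norm (n.norm ⟨hg', (Q.iff hg').1 hg⟩) hx) (mul_mem (mul_mem hg' k) (inv_mem hg'))⟩
    ((ab.subgroupOf N).map _) (k.dvd ((card_map_dvd _ _).trans (card_comap_dvd_of_injective _ _ N.subtype_injective))) (Q.im_mem hw (n.le hw).1))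
  exact ⟨u, hu, (pb_eq Q ek k (n.le hw).1).1 e1⟩⟩

theorem pb_ar (r : AR p (Q.rt U)) : S3 p U N Λ := ⟨r.p3, r.card, fun u hu k =>
  let ⟨c, hc⟩ := r.fx (f u) (by rw [← Q.mul hu hu, ek _ (mul_mem hu hu) k]); ⟨c, c.2, (Q.iff hu).1 hc⟩, fun a ha b hb n u hu k => by
  obtain ⟨x, hx, k, e1⟩ := Q.mem_im.1 ((pb_sup sb Q _ _).le (r.iv ⟨a, ha⟩ ⟨b, hb⟩ (fun k => n (congrArg Subtype.val k)) (f u)
    (by rw [← Q.mul hu hu, ek _ (mul_mem hu hu) k])))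
  exact ⟨x, hx, (pb_eq Q ek k hu).1 e1⟩, fun a ha b hb n c hc =>
  h.pb_bl sb Q ek (a := ⟨a, ha⟩) (b := ⟨b, hb⟩) (c := ⟨c, hc⟩) (fun k => n (congrArg Subtype.val k))
    (r.all _ _ _ fun k => n (congrArg Subtype.val k))⟩

end

theorem sub (ih : IH.{u, v} p (Nat.card Ω)) (s : Sb U N Λ) (ne : Λ ≠ Set.univ) :
    (∃ E, SR N Λ E) ∨ (Λ.ncard = p + 1 ∧ 5 ≤ p) ∨ SU p U N Λ ∨ S3 p U N Λ := by
  obtain ⟨X, _, _, _, f, P, e⟩ := Hk.exists_pb_faith s.st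
  exact (ih X Λ _ ((Set.ncard_lt_ncard (Set.ssubset_univ_iff.2 ne)).trans_eq (Set.ncard_univ _)) (h.pb_cy s P e)).imp
    (pb_reg P e) (.imp_right (.imp (h.pb_au s P e) (h.pb_ar s P e)))

theorem fx_ne (n : X ≠ ⊥) : Fx Ω X ≠ Set.univ := fun e =>
  n (eq_bot_of_forall fun x hx => h.ff x fun c => (e.ge trivial : c ∈ Fx Ω X) hx)

theorem fx_K (l : X ≤ 𝐂 (U a)) (hc : c ∈ Fx Ω X) (hd : d ∈ Fx Ω X) : X ≤ 𝐂 (U c ⊔ U d) := fun _ hx => h.K_mv (l hx) (hc hx) (hd hx)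

theorem fx_U (l : X ≤ 𝐂 (U a)) (hc : c ∈ Fx Ω X) : U c ≤ 𝐂 X := cent_symm fun _ hx => h.kl (l hx) (hc hx)

theorem bl_fx (l : X ≤ 𝐂 (U a ⊔ U b)) : Bl U a b ⊆ Fx Ω X := fun _ hc _ hx => h.K_pt (l hx) hc

theorem witt (n : a ≠ b) (s : Syl r T (𝐂 (U a ⊔ U b))) : TT (𝐍 T) (Fx Ω T) := by
  have l := s.le.trans (cent_anti le_sup_left)
  have key : ∀ c ∈ Fx Ω T, ∀ d ∈ Fx Ω T, c ≠ d → ∃ g ∈ 𝐍 T, g • a = c ∧ g • b = d := fun c hc d hd m => by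
    obtain ⟨g, rfl, rfl⟩ := h.tt a b c d n m
    have s1 := s.cj g
    rw [h.cj_K rfl rfl] at s1
    obtain ⟨k, hk, e⟩ := s1.syl_conj (s1.of_card (h.fx_K l hc hd) (card_cj _ _).symm)
    exact ⟨k * g, cj_eq_self.1 (by rw [← cj_cj, ← e]), by rw [mul_smul, h.K_a hk], by rw [mul_smul, h.K_b hk]⟩
  refine ⟨fun _ hg _ => fx_inv hg, fun c hc d hd c' hc' d' hd' m m' => ?_⟩
  obtain ⟨g, hg, rfl, rfl⟩ := key c hc d hd m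
  obtain ⟨k, hk, rfl, rfl⟩ := key c' hc' d' hd' m'
  exact ⟨k * g⁻¹, mul_mem hk (inv_mem hg), by simp [mul_smul], by simp [mul_smul]⟩

theorem sb_fx (n : a ≠ b) (l : X ≤ 𝐂 (U a ⊔ U b)) (t : TT N (Fx Ω X)) (c : 𝐂 X ≤ N) : Sb U N (Fx Ω X) :=
  ⟨t, fun _ hc => (h.fx_U (l.trans (cent_anti le_sup_left)) hc).trans c,
    (Set.one_lt_ncard (Set.toFinite _)).2 ⟨a, h.bl_fx l ptl, b, h.bl_fx l ptr, n⟩⟩

end CY

/-- transitivity of the point stabilisers gives double transitivity -/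
theorem tt_of (l : 2 < Λ.ncard) (inv : ∀ g ∈ N, ∀ x ∈ Λ, g • x ∈ Λ)
    (t : ∀ c ∈ Λ, ∀ d ∈ Λ, ∀ e ∈ Λ, d ≠ c → e ≠ c → ∃ g ∈ N, g • c = c ∧ g • d = e) : TT N Λ := by
  refine ⟨inv, fun a ha b hb c hc d hd n m => ?_⟩
  obtain ⟨g, hg, rfl⟩ : ∃ g ∈ N, g • a = c :=
    let ⟨e, he, n1, n2⟩ := exists_third l a c; let ⟨g, hg, k⟩ := t e he a ha c hc n1.symm n2.symm; ⟨g, hg, k.2⟩
  obtain ⟨k, hk, e1, e2⟩ := t _ hc _ (inv g hg b hb) d hd (ne_smul g n).symm m.symm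
  exact ⟨k * g, mul_mem hk hg, by rw [mul_smul, e1], by rw [mul_smul, e2]⟩

theorem modP (hr : r.Prime) (k : PiGrp {r} P) (inv : ∀ g ∈ P, ∀ x ∈ Λ, g • x ∈ Λ) : r ∣ (Λ \ Fx Ω P).ncard := by_contra fun n =>
  let ⟨_, hc, m⟩ := Hk.Ks.exists_fx (Γ := Λ \ Fx Ω P) hr k (fun g hg x hx => ⟨inv g hg x hx.1, fun e => hx.2 (by
    simpa using fx_inv (inv_mem (le_norm_self P hg)) e)⟩) n
  hc.2 m

/-- a variant of Gleason's lemma -/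
theorem gleason (hr : r.Prime) (inv : ∀ g ∈ N, ∀ c ∈ Λ, g • c ∈ Λ) (ex : ∀ c ∈ Λ, ∃ Y ≤ N, PiGrp {r} Y ∧
    ¬ r ∣ (Λ ∩ Fx Ω Y).ncard ∧ ∀ d ∈ Λ ∩ Fx Ω Y, ∃ g ∈ N, g • c = d) (ha : a ∈ Λ) (hb : b ∈ Λ) :
    ∃ g ∈ N, g • a = b := by_contra fun n => by
  have key : ∀ Y ≤ N, PiGrp {r} Y → (r ∣ {y | ∃ g ∈ N, g • a = y}.ncard ↔ r ∣ ({y | ∃ g ∈ N, g • a = y} ∩ Fx Ω Y).ncard) :=
    fun Y l k => by
    rw [← Set.ncard_inter_add_ncard_diff_eq_ncard _ (Fx Ω Y)]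
    exact (Nat.dvd_add_iff_left (modP hr k (by rintro g hg _ ⟨k, hk, rfl⟩; exact ⟨_, mul_mem (l hg) hk, mul_smul _ _ _⟩))).symm
  obtain ⟨Y, l, k, nd, o⟩ := ex a ha
  obtain ⟨Y', l', k', -, o'⟩ := ex b hb
  refine nd ?_
  rw [show Λ ∩ Fx Ω Y = {y | ∃ g ∈ N, g • a = y} ∩ Fx Ω Y from Set.ext fun y =>
    ⟨fun m => ⟨o y m, m.2⟩, fun ⟨⟨g, hg, e⟩, m⟩ => ⟨e ▸ inv g hg a ha, m⟩⟩, ← key Y l k, key Y' l' k',
    Set.eq_empty_of_forall_notMem (s := _ ∩ Fx Ω Y') (by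
      rintro _ ⟨⟨g, hg, rfl⟩, m⟩
      obtain ⟨g', hg', e⟩ := o' _ ⟨inv g hg a ha, m⟩
      exact n ⟨g'⁻¹ * g, mul_mem (inv_mem hg') hg, by rw [mul_smul, ← e, inv_smul_smul]⟩), Set.ncard_empty]
  exact dvd_zero r

end CF.Cy
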