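import Cfsg.Agent.PLocal.ZpD
import Cfsg.Agent.TsY.S2754
import Cfsg.Agent.S2972
import Cfsg.Agent.S1169
import Cfsg.Agent.S0215
import Cfsg.Agent.Bender.Final
import Cfsg.Agent.Loc.L34a

/-! The 2-structure of a minimal counterexample to the `Z*_p` statement. -/

set_option autoImplicit false

namespace CF.Cl2
open Subgroup Cfsg CF.BG CF.Sig CF.GW CF.Ab2
open scoped MatrixGroups

variable {G : Type*} [Group G] [Finite G] {F : Type} [Field F] [Fintype F] {n : ℕ}

theorem ab_sl (hF : Fintype.card F = 2 ^ n) :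
    AB (⊤ : Subgroup SL(3, F)) (utS ⊤ ⊥) (utS ⊥ ⊤) (utS ⊤ ⊤) := by
  have t : ∀ x : F, x + x = 0 := fun x => by
    have := CF.BN.Suz.charP_of_card hF
    exact CharTwo.add_self_eq_zero x
  have cS : ♯(utS (⊤ : AddSubgroup F) ⊤) = 2 ^ (n * 3) := by simp [card_utS, hF]; ring
  refine ⟨ab_mk ?_, ab_mk ?_, syl_mk p2 le_top (piGrp_of_card p2 cS) ?_, ?_, ?_, ?_, ?_, ?_, ?_⟩
  · rintro _ ⟨⟨a, ⟨_, rfl⟩, c⟩, rfl⟩; simp [ut_mul, t, ut_zero]
  · rintro _ ⟨⟨⟨_, rfl⟩, a, c⟩, rfl⟩; simp [ut_mul, t, ut_zero]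
  · have := (utS (⊤ : AddSubgroup F) ⊤).card_mul_index
    rw [cS, CF.Zp.card_SL_three, hF, pow_mul, mul_assoc] at this
    have h0 : n ≠ 0 := by rintro rfl; exact Fintype.one_lt_card.ne' hF
    have o : ∀ k, k ≠ 0 → Odd ((2 ^ n) ^ k - 1) := fun k hk =>
      Nat.Even.sub_odd (Nat.one_le_pow _ _ (by positivity))
        ((Nat.even_pow' hk).2 ((Nat.even_pow' h0).2 even_two)) odd_one
    rw [relIndex_top_right, Nat.eq_of_mul_eq_mul_left (by positivity) this]
    exact ((o 2 (by decide)).mul (o 3 (by decide))).not_two_dvd_nat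
  · rintro _ ⟨x, rfl⟩; exact mem_utS.2 ⟨_, trivial, _, trivial, _, rfl⟩
  · rintro _ ⟨x, rfl⟩; exact mem_utS.2 ⟨_, trivial, _, trivial, _, rfl⟩
  · simp only [mem_utS]
    rintro _ ⟨a, -, b, -, c, rfl⟩
    exact ⟨_, ⟨a, trivial, 0, rfl, c - a * b, rfl⟩, _, ⟨0, rfl, b, trivial, 0, rfl⟩, by simp [ut_mul]⟩
  · simp only [mem_utS]
    rintro _ ⟨a, -, b, -, c, rfl⟩ e
    simpa [ut_mul, ← ut_zero, ut_inj, t, or_comm, eq_comm] using e
  · exact fun k => by simpa [mem_utS, ut_inj] using k (mem_utS.2 ⟨1, trivial, 0, rfl, 0, rfl⟩)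
  · exact fun k => by simpa [mem_utS, ut_inj] using k (mem_utS.2 ⟨0, rfl, 1, trivial, 0, rfl⟩)

theorem AB.psl_zp {A B S : Subgroup G} (h : AB ⊤ A B S) (m : Mv ⊤ A B) (m' : Mv ⊤ B A)
    (O : 𝒪 (⊤ : Subgroup G) = ⊥) (p : 𝐎' 2 (⊤ : Subgroup G) = ⊤) (q : 2 < Nat.card F)
    (i : A.relIndex S = Nat.card F) (cA : ♯A = Nat.card F * Nat.card F)
    (cB : ♯B = Nat.card F * Nat.card F) : Nonempty (G ≃* PSL(3, F)) := by
  obtain ⟨⟨F₁, _, _, L, ρ, ψ, na⟩, F₂, _, _, M, ρ', ψ', nb⟩ := h.exists_nt2 m m'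
  have e1 := na.cardA.trans i
  have e2 := nb.cardB.trans i
  have hA : A ⊓ 𝐂 L = ⊥ := card_eq_one.1 (by have := na.nat.card_V'; rw [cA, e1] at this; nlinarith)
  have hB : B ⊓ 𝐂 M = ⊥ := card_eq_one.1 (by have := nb.nat.card_V'; rw [cB, e2] at this; nlinarith)
  obtain ⟨T, w, y, f⟩ := Bs.exists_fr ⟨na, nb, e1 ▸ q, fun z hz a _ =>
    eq_one_of_mem_bot hA (mi (h.mem_of_cent hz (cent_anti na.aL a)) a), O⟩
  exact ⟨(f.psl hA hB p).some.trans (CIT.psl_congr (by simpa using e1)).some⟩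

/-- Simple groups with a Sylow 2-subgroup of type `L₃(2ⁿ)`. -/
theorem psl3_of_syl [IsSimpleGroup G] (hn : 2 ≤ n) (hF : Fintype.card F = 2 ^ n) {S : Subgroup G}
    (s : Syl 2 S ⊤) {P : Subgroup SL(3, F)} (p : Syl 2 P ⊤) (e : S ≃* P) :
    Nonempty (G ≃* PSL(3, F)) := by
  have h := ab_sl hF
  obtain ⟨g, -, eg⟩ := h.syl.syl_conj p
  have k := h.cj (mem_top g)
  rw [← eg] at k
  obtain ⟨A, hA⟩ := exists_map_subtype k.la
  obtain ⟨B, hB⟩ := exists_map_subtype k.lb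
  have i : Function.Injective (S.subtype.comp e.symm.toMonoidHom) :=
    S.subtype_injective.comp e.symm.injective
  have cA : ♯(A.map (S.subtype.comp e.symm.toMonoidHom)) = Nat.card F * Nat.card F := by
    rw [card_map i, ← card_map P.subtype_injective, hA, card_cj]; simp [card_utS]
  have cB : ♯(B.map (S.subtype.comp e.symm.toMonoidHom)) = Nat.card F * Nat.card F := by
    rw [card_map i, ← card_map P.subtype_injective, hB, card_cj]; simp [card_utS]
  have cS : ♯S = Nat.card F * Nat.card F * Nat.card F := by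
    rw [Nat.card_congr e.toEquiv, eg, card_cj]; simp [card_utS, mul_assoc]
  have k := k.mono le_rfl le_top
  rw [← hA, ← hB] at k
  have k := (AB.of_map (X := ⊤) (A := A) (B := B) (S := ⊤) P.subtype_injective
    (by rwa [map_top_subtype])).map_inj i
  rw [← map_map _ S.subtype, map_top_of_surjective _ e.symm.surjective, map_top_subtype] at k
  replace k : AB ⊤ _ _ S := { k with syl := s }
  have s0 : S ≠ ⊥ := fun e => k.not_abel (e ▸ abel_bot)
  refine k.psl_zp k.symm.mv_simple k.mv_simple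
    ((IsSimpleGroup.eq_bot_or_eq_top_of_normal _ (normalIn_top.1 (O_normal _ _))).resolve_right
      fun e => s0 (by simpa [e] using s.inf_eq_bot (O_pi {2}ᶜ ⊤)))
    ((IsSimpleGroup.eq_bot_or_eq_top_of_normal _ (normalIn_top.1 (Op_normal _))).resolve_left
      fun e => s0 (eq_bot_mono e (le_Op s.pi le_top))) ?_ ?_ cA cB
  · rw [Nat.card_eq_fintype_card, hF]
    exact (Nat.pow_le_pow_right two_pos hn).trans_lt' (by decide)
  · have := card_mul_relIndex k.la
    rw [cA, cS] at this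
    exact Nat.eq_of_mul_eq_mul_left (Nat.mul_pos Nat.card_pos Nat.card_pos) this

end CF.Cl2

namespace CF.Zp

open Cfsg Subgroup CF.Loc
open scoped MatrixGroups

section
variable {E : Type*} [Group E] [Finite E] [IsSimpleGroup E] (hE : commutator E = ⊤)
include hE

theorem ni_l2 {F : Type} [Field F] [Fintype F] (e : Nonempty (E ≃* PSL(2, F))) : NI E :=
  ni_of_equiv hE e.some fun _ => ni_psl2

theorem ni_l3 {F : Type} [Field F] [Fintype F] (e : Nonempty (E ≃* PSL(3, F))) : NI E :=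
  ni_of_equiv hE e.some fun _ => ni_psl3

theorem ni_u3 {F : Type} [Field F] [Fintype F] {q : ℕ} (hF : Fintype.card F = q ^ 2) (hq : q ≠ 2)
    (e : Nonempty (E ≃* PSU 3 F q)) : NI E :=
  ni_of_equiv hE e.some fun _ => ni_psu3 hF hq

omit hE in
theorem two_pow_ne {n : ℕ} (h : 2 ≤ n) : 2 ^ n ≠ 2 :=
  ((Nat.pow_le_pow_right two_pos h).trans_lt' (by decide)).ne'

theorem ni_se {H : Subgroup E} (h : IsStronglyEmbedded H) : NI E := by
  rcases (CF.Bender.se_simple CF.Bender.part2 h).1 with ⟨F, _, _, -, e⟩ | h | ⟨F, _, _, n, h, c, e⟩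
  exacts [ni_l2 hE e, ni_sz h hE, ni_u3 hE c (two_pow_ne h) e]

theorem ni_s4 (hR : IsReeType E → Lie.IsoRee E) (na : ¬ IsMulCommutative E)
    (h : ¬ Involves (Equiv.Perm (Fin 4)) E) : NI E := by
  rcases (CF.TsY.S2754.result na).1 h with h | ⟨F, _, _, _, -, -, e⟩ | h | ⟨F, _, _, n, h, c, e⟩ |
    ⟨F, _, _, _, -, -, -, e⟩ | h
  exacts [ni_ree (hR h), ni_l2 hE e, ni_sz h hE, ni_u3 hE (by rw [c, ← pow_mul, mul_comm, pow_mul]; rfl)
    (two_pow_ne h) e, ni_l2 hE e, ni_j1 hE h]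

end

variable {G : Type*} [Group G] [Finite G] {p : ℕ} [Fact p.Prime] {x : G} (h : ZMin p x)
include h

theorem zm_ne_two : p ≠ 2 := by
  rintro rfl
  obtain ⟨P, hP⟩ := (isPGroup_zpowers_of_prime h.ord).exists_le_sylow
  obtain ⟨N, _, h1, h2⟩ := Agent.S0215.result P x h.ord (zpowers_le.1 hP) fun g =>
    iso_eq_of_mem h.iso P.isPGroup' (zpowers_le.1 hP)
  have h3 := le_pPrimeCoreOf (p := 2) (H := ⊤) le_top le_normalizer_of_normal
    (Nat.coprime_two_right.2 h1)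
  rw [pPrimeCoreOf_top, h.pPrimeCore_eq] at h3
  exact h.not_mem_center (mem_center_iff.2 fun g =>
    (commutatorElement_eq_one_iff_mul_comm.1 (h3 (h2 g))).symm)

theorem zm_not_ni : ¬ NI (commutator G) := not_ni_of_zmin h (zm_ne_two h)

theorem zm_simple : IsSimpleGroup (commutator G) ∧ ¬ IsMulCommutative (commutator G) ∧
    commutator (commutator G) = ⊤ := by
  obtain ⟨h1, h2, -⟩ := Agent.S2972.result x h.ord h.iso h.nz h.sub h.quot
  refine ⟨h1, h2, (IsSimpleGroup.eq_bot_or_eq_top_of_normal _ inferInstance).resolve_left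
    fun k => h2 ⟨⟨fun a b => commutatorElement_eq_one_iff_mul_comm.1
      (k.le (commutator_mem_commutator (mem_top a) (mem_top b)))⟩⟩⟩

theorem zm_le {S : Subgroup G} (hS : IsPGroup 2 S) : S ≤ commutator G := fun s hs => by
  obtain ⟨k, hk⟩ := isPGroup_iff_forall.1 hS s hs
  have h1 : s ^ p ∈ commutator G := by
    have := h.comp_commutator.2.ge (mem_top s)
    rw [← SetLike.mem_coe, normal_mul] at this
    obtain ⟨a, ha, _, ⟨j, rfl⟩, rfl⟩ := this
    rw [← QuotientGroup.eq_one_iff, QuotientGroup.mk_pow, QuotientGroup.mk_mul,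
      (QuotientGroup.eq_one_iff _).2 ha, one_mul, ← QuotientGroup.mk_pow, ← zpow_natCast, ← zpow_mul,
      mul_comm, zpow_mul, zpow_natCast, ← h.ord, pow_orderOf_eq_one, one_zpow, QuotientGroup.mk_one]
  obtain ⟨m, hm⟩ := exists_pow_eq_self_of_coprime (x := s) (n := p) (Nat.Coprime.coprime_dvd_right
    (orderOf_dvd_of_pow_eq_one hk) (Nat.Coprime.pow_right _
      ((Nat.coprime_primes Fact.out Nat.prime_two).2 (zm_ne_two h))))
  exact hm ▸ pow_mem h1 m

theorem zm_not_se : ¬ ∃ H : Subgroup G, IsStronglyEmbedded H := fun ⟨H, hH⟩ => by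
  obtain ⟨_, -, hE⟩ := zm_simple h
  obtain ⟨h1, h2, h3⟩ := CF.Invol.se_iff.1 hH
  obtain ⟨t, ht, ho⟩ := exists_orderOf_eq_of_dvd_card (p := 2) h2.two_dvd
  have h4 := zpowers_le.1 (zm_le h (isPGroup_zpowers_of_prime ho))
  refine zm_not_ni h (ni_se hE (H := H.subgroupOf _) (CF.Invol.se_iff.2 ⟨fun k => h1 ?_, ?_,
    fun u hu o g hg => h3 u hu ((orderOf_coe u).trans o) g hg⟩))
  · exact top_unique fun g _ => h3 t ht ho g
      (subgroupOf_eq_top.1 k (Normal.conj_mem inferInstance _ h4 g))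
  · exact even_iff_two_dvd.2 (((orderOf_coe ⟨t, h4⟩).symm.trans ho).symm.dvd.trans
      (Subgroup.orderOf_dvd_natCard _ ht))

theorem zm_rank (hq : ¬ IsMulCommutative (commutator G) → PRankLE 2 2 (commutator G) →
    NI (commutator G)) : PRankAtLeast 2 3 G := by
  by_contra k
  refine zm_not_ni h (hq (zm_simple h).2.1 fun A hA h2 => not_lt.1 fun h3 =>
    k ⟨A.map (commutator G).subtype, inferInstance, ?_, ?_⟩)
  · rintro _ ⟨a, ha, rfl⟩
    exact congrArg Subtype.val (h2 a ha)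
  · obtain ⟨n, hn⟩ := (isPGroup_iff_forall.2 fun a ha => ⟨1, h2 a ha⟩ :
      IsPGroup 2 A).exists_card_eq
    rw [card_map_of_injective (subtype_injective _), hn]
    rw [hn] at h3
    exact Nat.pow_le_pow_right two_pos ((Nat.pow_lt_pow_iff_right one_lt_two).1 h3)

theorem zm_main (hR : IsReeType (commutator G) → Lie.IsoRee (commutator G)) :
    Involves (Equiv.Perm (Fin 4)) G ∧ (∀ (S : Sylow 2 G) (A : Subgroup G), A ≤ (S : Subgroup G) →
      IsMulCommutative A → IsStronglyClosed A (S : Subgroup G) → A = ⊥) ∧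
    (∀ (S : Sylow 2 G) (n : ℕ) (F : Type) [Field F] [Fintype F], 2 ≤ n → Fintype.card F = 2 ^ n →
      ∀ T : Sylow 2 SL(3, F), ¬ Nonempty ((S : Subgroup G) ≃* (T : Subgroup SL(3, F)))) := by
  obtain ⟨_, na, hE⟩ := zm_simple h
  have h4 : Involves (Equiv.Perm (Fin 4)) (commutator G) := by_contra fun k =>
    zm_not_ni h (ni_s4 hE hR na k)
  refine ⟨CF.Transfer.involves_trans h4 (CF.Transfer.involves_subgroup _),
    fun S A hA hc hs => by_contra fun k => ?_, fun S n F _ _ hn hF T ⟨e⟩ => ?_⟩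
  · have l := zm_le h S.isPGroup'
    rcases Agent.S1169.result (S.subtype l) (A.subgroupOf _) (fun e => k (by
      rw [← map_subgroupOf_eq_of_le (hA.trans l), e, Subgroup.map_bot])) inferInstance
      ⟨fun _ ha => hA ha, fun a ha g hg => hs.2 a ha g hg⟩ with k | ⟨H, k⟩
    · exact CF.JR.not_s4_of_abs ⟨_, CF.BG.syl_sylow_top _, le_centralizer_iff_isMulCommutative.2 k⟩ h4
    · exact CF.JR.not_s4_of_se k h4
  · have l := zm_le h S.isPGroup'
    exact zm_not_ni h (ni_l3 hE (CF.Cl2.psl3_of_syl hn hF (CF.BG.syl_sylow_top (S.subtype l))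
      (CF.BG.syl_sylow_top T) ((subgroupOfEquivOfLe l).trans e)))

end CF.Zp
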