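import Cfsg.Agent.TsY.FsetF
import Cfsg.Agent.SM.WE
import Cfsg.Agent.CIT.Nil2
import Cfsg.Agent.TsY.PLocalZpE
import Cfsg.Agent.NC.J
import Cfsg.Agent.Spec.Sym

/-! The minimal configuration does not exist. -/

set_option autoImplicit false
set_option linter.unusedSectionVars false

namespace CF.Fset

open Subgroup CF.BG CF.GW
open scoped commutatorElement MatrixGroups

variable {G G' : Type*} [Group G] [Finite G] [Group G'] {p q r : ℕ} {D : Set (Subgroup G)}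
  {A B E H K L N P Q R R' S T U V X Y Z : Subgroup G} {a g k s t u v w x y z : G}

theorem core_J [IsSimpleGroup G] (nc : ¬ IsMulCommutative G) (S : Sylow 2 G)
    (r : 2 < pRank 2 (S : Subgroup G)) (c : ¬ Cfsg.IsFourConnected (S : Subgroup G)) :
    ∃ t : G, Iv t ∧ 𝐎 {2}ᶜ (𝐂₁ t) = ⊥ := by
  have hS := syl_sylow_top S
  have n := Ab2.ns_top nc
  obtain ⟨z, u, H, x, hx, xu, m⟩ := NC.exN0 hS (NC.ne_of_conn hS.pi c) r
  obtain ⟨c1, c2⟩ := H.fused' n hx xu m c
  obtain ⟨P, ⟨e⟩⟩ := (NC.fused_end S H n r c1 c2).resolve_right fun k => c k.1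
  obtain ⟨φ, h, -⟩ := W2.J.exists_sm S e
  obtain ⟨⟨Q, l, c⟩, -, -⟩ := W2.J.hyp h
  have k : PiGrp {2} Q := piGrp_of_card Nat.prime_two (k := 5) c
  have n : Q ⊴ 𝐂₁ (φ W2.J.z) := ⟨le_cent1_iff.2 l.cent, l.nor⟩
  exact ⟨_, (W2.J.fp h).l, (k.le ((cent_symm (n.cent_of_inf_eq_bot (O_normal _ _)
    (k.inf_left.eq_bot (O_pi _ _).inf_right))).trans l.cen)).eq_bot (O_pi _ _)⟩

theorem order_two_mul (i : Iv t) (hq : q.Prime) (q2 : q ≠ 2) (o : orderOf x = q) (c : t * x = x * t) :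
    orderOf (t * x) = 2 * q := by
  rw [Commute.orderOf_mul_eq_mul_orderOf_of_coprime c, i, o]
  rw [i, o]
  exact (Nat.coprime_primes Nat.prime_two hq).2 q2.symm

theorem a7_three (e : G ≃* alternatingGroup (Fin 7)) (hq : q.Prime) (q2 : q ≠ 2)
    (o : orderOf x = 2 * q) : q = 3 := by
  obtain ⟨m, hm, h⟩ := (Spec.sp_alt (n := 7) (f := 3) (μ := [4, 5, 6, 7]) (by norm_num) (by decide +kernel) (by
    simp only [List.mem_cons, List.not_mem_nil, or_false, forall_eq_or_imp, forall_eq]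
    exact ⟨⟨{4, 2}, by decide⟩, ⟨{5}, by decide⟩, ⟨{3, 2, 2}, by decide⟩, ⟨{7}, by decide⟩⟩)).ub (e x)
  rw [← orderOf_dvd_iff_pow_eq_one, e.orderOf_eq, o] at h
  simp only [List.mem_cons, List.not_mem_nil, or_false] at hm
  have := Nat.le_of_dvd (by omega) h
  have := hq.two_le
  omega

namespace Mn
variable (m : Mn p r D) (n : T ⊴ ⊤)
include m n

theorem syl_up (h1 : T ≠ ⊥) {S : Subgroup T} (hS : Syl 2 S ⊤) : Syl 2 (S.map T.subtype) ⊤ := by
  obtain ⟨A, hA⟩ := m.ex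
  have := (hall_map_iff T.subtype_injective).2 hS
  rw [map_top_subtype] at this
  refine this.trans_idx le_top ?_
  rw [← m.sup_top hA n h1, relIndex_sup_norm' (.inl (le_top.trans n.norm))]
  exact (odd_iff_pi.1 (m.odd hA)).relIndex _

omit n in
theorem qw (hS : Syl 2 S ⊤) (q : Cfsg.IsQuasiDihedral S ∨ Cfsg.IsWreathed S) : False := by
  obtain ⟨A, hA⟩ := m.ex
  obtain ⟨A, hA, c⟩ := m.fix2 hA hS.pi
  have r2 : Cfsg.pResidual 2 G = ⊤ := eq_top_iff.2 (m.top ▸ sSup_le fun B hB x hx =>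
    subset_closure (Nat.coprime_two_right.2 (odd_orderOf (m.odd hB) hx)))
  obtain ⟨z, -, -, one, -⟩ := Invol.qw_facts (hS.isSylowIn Nat.prime_two) q r2
  obtain ⟨y, hy, iy, -⟩ := SM.WE.exists_nc q
  refine m.ne_bot hA (SM.WE.core hS q r2 (Sig.oddCore_eq.trans (m.rad _ (O_normal _ _)
    (sol_of_odd (odd_O _)))) (normalIn_norm A) (odd_iff_pi.1 (m.odd hA)) (c hy) iy
    (fun a ha ia => ?_) fun y hy iy => ?_)
  · obtain ⟨g, rfl⟩ := isConj_iff.1 ((one y iy).trans (one a ia).symm)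
    obtain ⟨k, hk, e⟩ := m.conj_cent hA (m.inv A hA g⁻¹) iy.piGrp (zpowers_le.2 (c hy))
      (zpowers_le.2 (by rw [← cj_norm]; exact mem_cj_inv.2 ha))
    refine ⟨g * k, cj_eq_self.1 (by rw [← cj_cj, ← e, cj_cj_inv]), ?_⟩
    rw [mul_assoc g, ← mem_cent.1 hk y (mem_zpowers y)]; group
  · have c := zp_le_cent.1 (cent_symm (cent_symm (m.cent2 hA iy.piGrp (zpowers_le.2 hy))))
    refine (m.frattini (m.sub _ (m.c1 iy.ne_one)) hA c).trans (sup_le (le_sup_of_le_right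
      (le_O (m.Rg_normal _) (Rg_pi.of_single_ne m.r2))) (le_sup_of_le_left (inf_comm _ _).le))

theorem dvd (h1 : T ≠ ⊥) : p ∣ ♯T := by
  by_contra nd
  obtain ⟨A, hA⟩ := m.ex
  have c : (♯A).Coprime (♯T) := by rw [m.card A hA]; exact m.hp.coprime_iff_not_dvd.2 nd
  have a : A ≤ 𝐍 T := le_top.trans n.norm
  obtain ⟨P, hP, aP⟩ := exists_syl_inv a c (.inl (m.cyc hA).sol) r
  have i : PiNat {r} ((T ⊓ 𝐍 A).relIndex T) := fun s hs d => by
    by_contra ne
    obtain ⟨Q, hQ, aQ⟩ := exists_syl_inv a c (.inl (m.cyc hA).sol) s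
    exact hQ.idx_of_le (le_inf hQ.le (m.norm hA (hQ.pi.of_single_ne ne) aQ)) s hs d rfl
  refine m.ns ((m.sol_sup hA hP.pi.sol aP).mono (m.top ▸ sSup_le fun B hB => ?_))
  obtain ⟨R, hR, -, k, hk, rfl⟩ := m.pair' hA hB
  obtain ⟨x, hx, y, hy, e⟩ := CF.Solv.exists_mul_eq_of_coprime_index (H := P.subgroupOf T)
    (K := (T ⊓ 𝐍 A).subgroupOf T) (hP.idx.coprime' i) ⟨k, m.rr_le hA n h1 hR hk⟩
  rw [show k = x * y from congrArg Subtype.val e, ← cj_cj, cj_of_norm (g := (y : G)) hy.2]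
  exact cj_le_of_mem (mem_sup_left hx) le_sup_right

theorem inner (h1 : T ≠ ⊥) (ni : Zp.NI T) (hA : A ∈ D) : A ≤ T := by
  by_contra nl
  have i := inf_eq_bot_of_prime_of_not_le (m.prime hA) nl
  have := normalIn_top.1 n
  obtain ⟨a, ha, o⟩ := BG.exists_mem_orderOf_eq m.hp (m.card A hA).symm.dvd
  have a1 : a ≠ 1 := fun e => m.hp.ne_one (by rw [← o, e, orderOf_one])
  have za := zpowers_eq_of_prime (m.prime hA) ha a1
  have := Fact.mk m.hp
  refine ni p m.hp m.p2 (m.dvd n h1) (MulAut.conjNormal a) (orderOf_eq_prime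
    (by rw [← map_pow, ← o, pow_orderOf_eq_one, map_one]) fun e => ?_) fun e he => ?_
  · have c : A ≤ 𝐂 T := za ▸ zpowers_le.2 (mem_cent.2 fun x hx => by
      have := congrArg Subtype.val (DFunLike.congr_fun e ⟨x, hx⟩)
      simp only [MulAut.conjNormal_apply, MulAut.one_apply] at this
      exact (mul_inv_eq_iff_eq_mul.1 this).symm)
    have := m.top_of_le m.top hA ⟨le_top, norm_cent n.norm⟩ c
    exact h1 (m.rad T n (Abel.sol (le_top.trans this.ge)))
  · have he := congrArg Subtype.val he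
    simp only [MulAut.conjNormal_apply, coe_mul, coe_inv] at he
    have c : cj (e : G)⁻¹ A ≤ 𝐍 A := norm_of_cent (by
      rw [← za, cj_zpowers, cent_zpowers, zpowers_le, mem_cent1]
      calc _ = (e : G)⁻¹ * (a * e * a⁻¹) * a * a := by group
        _ = _ := by rw [← he]; group)
    have m1 : (e : G)⁻¹ * a * e ∈ A := by
      rw [← m.eq_of_norm hA (m.inv A hA _) c]
      simpa using (conj_mem_cj (g := (e : G)⁻¹)).2 ha
    have := eq_one_of_mem_bot i (show (e : G)⁻¹ * (a * e * a⁻¹) ∈ A ⊓ T from ⟨by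
      simpa [mul_assoc] using mul_mem m1 (inv_mem ha),
      T.mul_mem (T.inv_mem e.2) (n.conj_mem trivial e.2)⟩)
    exact Subtype.ext (by simpa using (inv_mul_eq_one.1 this).symm)

theorem gw [IsSimpleGroup T] (nc : ¬ IsMulCommutative T) (h : GWC T) : False := by
  have ns := Ab2.ns_top nc
  have h1 : T ≠ ⊥ := (nontrivial_iff_ne_bot T).1 inferInstance
  obtain ⟨S, hS⟩ := exists_syl 2 (⊤ : Subgroup T)
  obtain ⟨V, hV, kV⟩ := Rt.TC.r2_syl nc hS
  obtain ⟨s, t, f, rfl⟩ := exists_fp_of_klein kV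
  obtain ⟨A, hA⟩ := m.ex
  have q := (m.syl_up n h1 hS).pi
  obtain ⟨A, hA, c⟩ := m.fix2 hA q
  have c := m.cent2 hA q c
  have l := m.inner n h1 (h.elim (fun ⟨_, _, _, _, _, e⟩ => Zp.ni_l2 ns.perf e)
    fun ⟨e⟩ => Zp.ni_a7 ns.perf e) hA
  obtain ⟨a, ha, o⟩ := BG.exists_mem_orderOf_eq m.hp (m.card A hA).symm.dvd
  have cc : ∀ v ∈ V4 s t, v * ⟨a, l ha⟩ = ⟨a, l ha⟩ * v := fun v hv =>
    Subtype.ext (mem_cent.1 (c (mem_map_of_mem _ (hV hv))) a ha).symm
  have o1 := order_two_mul f.l m.hp m.p2 ((Subgroup.orderOf_mk _ _).trans o) (cc s (left_mem_V4 s t))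
  rcases h with ⟨F, _, _, o2, -, ⟨e⟩⟩ | ⟨⟨e⟩⟩
  · obtain ⟨l, hl⟩ := CharP.exists F
    obtain ⟨k, pl, hF⟩ := FiniteField.card F l
    have := CIT.cyc_cent_psl l (g := e (s * ⟨a, _⟩)) (fun e' => by
      rw [← orderOf_dvd_iff_pow_eq_one, e.orderOf_eq, o1] at e'
      have := (Nat.prime_dvd_prime_iff_eq Nat.prime_two pl).1 (Dvd.dvd.trans (Dvd.intro _ rfl) e')
      subst this
      have := Nat.le_of_dvd (by norm_num) e'
      have := m.hp.two_le
      omega) fun e' => by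
        rw [← pow_two, ← orderOf_dvd_iff_pow_eq_one, e.orderOf_eq, o1] at e'
        have := Nat.le_of_dvd (by norm_num) e'
        have := m.hp.two_le
        omega
    have inj : Function.Injective e.toMonoidHom := e.injective
    refine f.not_cyc ((cyc_map_iff inj).1 (this.mono (map_le_iff_le_comap.2 fun v hv =>
      (mem_cent1_map_iff inj).2 (mem_cent1.2 ?_))))
    rw [← mul_assoc, f.abel.mul_comm hv (left_mem_V4 s t), mul_assoc, cc v hv, mul_assoc]
  · have i : Iv (s : G) := (iv_map_iff T.subtype_injective).2 f.l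
    have cs := c (mem_map_of_mem _ (hV (left_mem_V4 s t)))
    obtain ⟨x, hx, ox⟩ := BG.exists_mem_orderOf_eq m.hr (Rg_pi.dvd_card (m.Rt_ne hA i cs))
    have := order_two_mul (x := ⟨x, m.rr_le hA n h1 (m.rr1 hA i.ne_one cs) hx⟩) f.l m.hr m.r2
      ((Subgroup.orderOf_mk x _).trans ox) (Subtype.ext (mem_cent1.1 (Rg_le hx)).symm)
    exact m.ne ((a7_three e m.hr m.r2 this).trans (a7_three e m.hp m.p2 o1).symm)

omit n in
theorem false : False := by
  obtain ⟨T, n, _, nc⟩ := m.exists_T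
  have h1 : T ≠ ⊥ := (nontrivial_iff_ne_bot T).1 inferInstance
  rcases le_or_gt (pRank 2 (⊤ : Subgroup T)) 2 with r2 | r3
  · rcases CIT.rank_two_cases nc r2 with k | ⟨H, k⟩ | ⟨S, k⟩
    · exact m.gw n nc k
    · obtain ⟨t, -, i⟩ := exists_iv (K := (⊤ : Subgroup T)) fun o => (Ab2.ns_top nc).not_sol (sol_of_odd o)
      exact m.core n i (CIT.se_core nc k i)
    · exact m.qw (m.syl_up n h1 (syl_sylow_top S))
        (Invol.qw_of_equiv ((S : Subgroup T).equivMapOfInjective _ T.subtype_injective) k)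
  · have := Fact.mk Nat.prime_two
    obtain ⟨S⟩ : Nonempty (Sylow 2 T) := inferInstance
    have hS := syl_sylow_top S
    rw [← hS.syl_pRank] at r3
    obtain ⟨t, i, e⟩ := core_J nc S r3 (m.conn n nc hS r3)
    exact m.core n i e

end Mn

end CF.Fset
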