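import Cfsg.Agent.TsY.CyC
import Cfsg.Agent.Cy.T0
import Cfsg.Agent.TsY.FsetG
import Cfsg.Agent.Fset.H
import Cfsg.Agent.TsY.S3120

/-! Doubly transitive groups with a normal subgroup of odd prime order in the point stabiliser: affine blocks, odd degree. -/

set_option autoImplicit false
set_option linter.unusedSectionVars false

namespace CF.Cy

open MulAction Subgroup Cfsg CF.BG CF.Bender CF.ZD CF.Tw
open CF.Hk (St Pt PB)
open scoped commutatorElement MatrixGroups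

universe u v

variable {G : Type u} {Ω : Type v} [Group G] [Finite G] [MulAction G Ω] [Finite Ω]
variable {p r : ℕ} {U : Ω → Subgroup G} {A E H K N P T W X Y : Subgroup G} {Δ Λ : Set Ω} {a b c d e : Ω}
  {g k s t u w x y z : G}

local notation "𝐒" => MulAction.stabilizer G

theorem gen_mod (c : (♯A).Prime) (l : T ≤ 𝐍 A) : ∃ t ∈ T, ∀ x ∈ T, ∃ φ ∈ zpowers t, x * φ⁻¹ ∈ 𝐂 A := by
  haveI : Fact (Nat.Prime (♯A)) := ⟨c⟩
  haveI := cyc_of_prime c
  haveI : IsCyclic (MulAut A) := (IsCyclic.mulAutMulEquiv A).isCyclic.2 inferInstance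
  obtain ⟨_, ⟨t, rfl⟩, ht⟩ : ∃ y ∈ (A.normalizerMonoidHom.comp (inclusion l)).range,
      zpowers y = (A.normalizerMonoidHom.comp (inclusion l)).range :=
    let ⟨y, e⟩ := Cyc.exists_gen (H := (A.normalizerMonoidHom.comp (inclusion l)).range) inferInstance
    ⟨y, e ▸ mem_zpowers y, e⟩
  refine ⟨t, t.2, fun x hx => ?_⟩
  obtain ⟨j, hj⟩ := ht.ge ⟨⟨x, hx⟩, rfl⟩
  refine ⟨t ^ j, zpow_mem (mem_zpowers _) j, ?_⟩
  have : inclusion l (⟨x, hx⟩ * (t ^ j)⁻¹) ∈ A.normalizerMonoidHom.ker := by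
    rw [MonoidHom.mem_ker, ← MonoidHom.comp_apply, map_mul, map_inv, map_zpow, ← hj]; exact mul_inv_cancel _
  rwa [normalizerMonoidHom_ker, mem_subgroupOf] at this

theorem sq_elt (e : x * x = 1) : PiElt {2} x := piElt_of_pow_eq_one Nat.prime_two ((pow_two x).trans e)

theorem one_of_odd (o : Odd (♯K)) (hx : x ∈ K) (k : PiElt {2} x) : x = 1 := k.eq_one ((pi_of_odd o).elt hx)

theorem second (i : u * u = 1) (ev : Λ.ncard % 2 = 0) (inv : ∀ x ∈ Λ, u • x ∈ Λ) (hc : c ∈ Λ) (e : u • c = c) :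
    ∃ d ∈ Λ, d ≠ c ∧ u • d = d :=
  let ⟨d, hd, n⟩ := exists_second (Δ := {x | x ∈ Λ ∧ u • x = x}) (modp Nat.prime_two (sq_elt i) inv ▸ ev) ⟨hc, e⟩
  ⟨d, hd.1, n, hd.2⟩

namespace CY
variable (h : CY p U)
include h

theorem cyc_of (l : T ≤ 𝐒 a) (e : ∀ x ∈ T, x ∈ 𝐂 (U a) → x = 1) : Cyc T := by
  obtain ⟨t, ht, k⟩ := gen_mod (h.prime a) (l.trans (h.nU a).norm)
  refine (cyc_zpowers t).mono fun x hx => ?_
  obtain ⟨φ, hφ, m⟩ := k x hx
  exact mul_inv_eq_one.1 (e _ (mul_mem hx (inv_mem (zpowers_le.2 ht hφ))) m) ▸ hφ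

theorem abel_of (l : T ≤ 𝐒 a) (e : T ⊓ 𝐂 (U a) ≤ 𝐂 T) : Abel T := by
  obtain ⟨t, ht, k⟩ := gen_mod (h.prime a) (l.trans (h.nU a).norm)
  refine (((center_abel T).sup (abel_zpowers t) (inf_le_right.trans (cent_anti (zpowers_le.2 ht)))).mono fun x hx => ?_)
  obtain ⟨φ, hφ, m⟩ := k x hx
  have m' := mul_mem hx (inv_mem (zpowers_le.2 ht hφ))
  exact inv_mul_cancel_right x φ ▸ mul_mem_sup ⟨m', e ⟨m', m⟩⟩ hφ

theorem L_normal : sSup (Set.range U) ⊴ ⊤ := ⟨le_top, le_norm_of_cj_le fun g _ => by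
  rw [cj_sSup]
  exact sSup_le (by rintro _ ⟨_, ⟨a, rfl⟩, rfl⟩; exact le_sSup ⟨_, (h.cj g a).symm⟩)⟩

theorem not_cent (n : a ≠ b) : ¬ U b ≤ 𝐂 (U a) := fun l =>
  let ⟨_, hx, x1⟩ := h.ex b; x1 (h.semi hx n.symm (h.cfix (l hx)))

theorem odd_reg (n : a ≠ b) (o : Odd (♯(U a ⊔ U b))) : EqF.Reg G Ω := by
  have f : Fset.FS p (Set.range U) ↥(U a ⊔ U b) := ⟨h.hp, h.p2, by rintro _ ⟨a, rfl⟩; exact h.card a,
    by rintro _ ⟨a, rfl⟩ g; exact ⟨_, (h.cj g a).symm⟩, o, by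
      rintro _ ⟨c, rfl⟩ _ ⟨d, rfl⟩ m
      obtain ⟨g, e, k⟩ := h.tt a b c d n fun e => m (e ▸ rfl)
      exact h.cj_F e k ▸ ⟨(equivMapOfInjective _ _ (conj_inj g)).symm⟩,
    fun c => h.not_cent n ((Abel.of_comm c).cent le_sup_right le_sup_left)⟩
  obtain ⟨r, w⟩ := f.w ⟨a, rfl⟩ ⟨b, rfl⟩ (mt h.inj n)
  exact h.reg_of h.L_normal (Fset.solv_aux Fset.Mn.false _ (Nat.lt_succ_self _) w f.tab) (le_sSup ⟨a, rfl⟩)

theorem le_comm (n : a ≠ b) : U b ≤ ⁅U a, U b⁆ ⊔ U a := by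
  obtain ⟨x, hx, x1⟩ := h.ex a
  obtain ⟨g, hg, e⟩ := (h.bl_tt n).trans (normalIn_norm _) (fun k => x1 (h.semi hx n (k ptr (mem_sup_left hx)))) ptl ptr
  have m : U a ⊔ U b ≤ 𝐍 (⁅U a, U b⁆ ⊔ U a) := sup_le (norm_of_le le_sup_right) (norm_of_comm_le (comm_sup_le
    ((comm_le_left (norm_comm_right _ _)).trans le_sup_left) le_sup_left (norm_of_le le_sup_left) (norm_of_le le_sup_right)))
  have := cj_le_of_norm (m hg) le_sup_right
  rwa [h.cj, e] at this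

theorem sr_der (n : a ≠ b) (r : SR (𝐍 (U a ⊔ U b)) (Bl U a b) E) (o : (Bl U a b).ncard % 2 = 0) :
    PiGrp {2} ⁅U a ⊔ U b, U a ⊔ U b⁆ := by
  have s := h.sb_bl n
  have nE := (le_norm_self _).trans r.nm.norm
  obtain ⟨T, hT⟩ := exists_syl 2 ((U a ⊔ U b) ⊓ E)
  have k : (U a ⊔ U b) ⊓ E ≤ 𝐙 (U a ⊔ U b) ⊔ T := fun x hx => by
    obtain ⟨y, hy, e⟩ := Ko.R2_sup hT hx
    refine mul_inv_cancel_left y x ▸ mul_mem_sup ((closure_le (𝐙 (U a ⊔ U b))).2 (fun y hy => mem_inf.2 ⟨hy.1.1, ?_⟩) hy) e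
    have := h.Pt_bl n ▸ h.sr_sq s r o hy.1.2
    exact zpowers_le.2 this (by
      rw [← pow_two]; exact mem_zpowers_pow_iff.2 ((piNat_compl_single_iff_coprime Nat.prime_two).1 hy.2).symm)
  have c : 𝐙 (U a ⊔ U b) ≤ 𝐍 T := norm_of_cent (inf_le_right.trans (cent_anti (hT.le.trans inf_le_left)))
  have nT : U a ⊔ U b ≤ 𝐍 T := (hT.syl_frattini_sup (normalIn_inf_left nE)).ge.trans
    (sup_le (k.trans (sup_le c (le_norm_self T))) inf_le_right)
  refine hT.pi.le (der_le_of ((center_abel _).sup (h.abel a) (inf_le_right.trans (cent_anti le_sup_left)))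
    (sup_le c (le_sup_left.trans nT)) ?_)
  refine (le_inf le_rfl (h.sr_le s r ptl ptr)).trans ((inf_sup_right le_sup_left (.inr (le_sup_left.trans nE))).le.trans ?_)
  exact sup_le (k.trans (sup_le (le_sup_left.trans le_sup_right) le_sup_left)) (le_sup_right.trans le_sup_right)

theorem tc (n : a ≠ b) (r : SR (𝐍 (U a ⊔ U b)) (Bl U a b) E) (o : (Bl U a b).ncard % 2 = 0) : TC p (Set.range U) := by
  have k : ∀ c d, ⁅U c, U d⁆ ≤ ⁅U c ⊔ U d, U c ⊔ U d⁆ := fun c d => commutator_mono le_sup_left le_sup_right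
  have two : ∀ c d, c ≠ d → PiGrp {2} ⁅U c, U d⁆ := fun c d m =>
    let ⟨_, r⟩ := h.sr_mv n m r; (h.sr_der m r (h.card_bl n m ▸ o)).le (k c d)
  have z : ∀ c, ⁅U c, U c⁆ = ⊥ := fun c => der_eq_bot.2 (h.abel c)
  refine ⟨h.hp, h.p2, by rintro _ ⟨a, rfl⟩; exact h.card a, by rintro _ ⟨a, rfl⟩ g; exact ⟨_, (h.cj g a).symm⟩, ?_, ?_, ?_, ?_⟩ <;>
    rintro _ ⟨c, rfl⟩ _ ⟨d, rfl⟩ <;> rcases eq_or_ne c d with rfl | m
  · exact z c ▸ piGrp_bot _
  · exact two c d m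
  · exact le_sup_right
  · exact h.le_comm m
  · exact fun x hx => eq_one_of_mem_bot (z c) hx ▸ by simpa using one_mem _
  · obtain ⟨E, r⟩ := h.sr_mv n m r
    exact fun x hx => h.Pt_bl m ▸ h.sr_sq (h.sb_bl m) r (h.card_bl n m ▸ o)
      (h.sr_two (h.sb_bl m) r ptl ptr ((k c d).trans (der_le _)) (two c d m) hx)
  · exact fun _ _ _ _ => le_sup_left
  · rintro _ ⟨e, rfl⟩ l m'
    exact h.F_eq m ptl l (fun k => m' (k ▸ rfl)) ▸ le_sup_right

theorem flat (f : PiGrp {2} ⁅sSup (Set.range U), sSup (Set.range U)⁆) (a : Ω) : EqF.Reg G Ω :=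
  h.reg_of h.L_normal (f.sol.of_qt (der_normal _).norm (abel_qt_der _).sol) (le_sSup ⟨a, rfl⟩)

theorem uc (u : UC p (Set.range U)) (n : a ≠ b) : ∃ z ∈ U a ⊔ U b, z ≠ 1 ∧ z ∈ 𝐂 (U a ⊔ U b) ∧
    (Bl U a b).ncard = p + 1 ∧ ∀ c : Ω, z • c = c → c ∈ Bl U a b := by
  obtain ⟨z, hz, z1, -, zK, k⟩ := u.fix _ ⟨a, rfl⟩ _ ⟨b, rfl⟩ (mt h.inj n)
  have k : ∀ c : Ω, z • c = c → c = a ∨ ∃ x ∈ U a, x • b = c := fun c e =>
    (k _ ⟨c, rfl⟩ (h.kl (cent_anti le_sup_left zK) e)).imp h.inj fun ⟨x, hx, e⟩ => ⟨x, hx, h.inj (h.cj x b ▸ e.symm)⟩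
  refine ⟨z, (commutator_mono le_sup_left le_sup_right).trans (der_le _) hz, z1, zK, le_antisymm ?_ (h.bl_le n), fun c e => ?_⟩
  · refine (Set.ncard_le_ncard (t := insert a ((· • b) '' (U a : Set G))) fun c hc => k c (h.K_pt zK hc)).trans
      ((Set.ncard_insert_le _ _).trans (Nat.add_le_add_right ((Set.ncard_image_le).trans (h.card a).le) 1))
  · rcases k c e with rfl | ⟨x, hx, rfl⟩
    exacts [ptl, h.smul' (mem_sup_left hx) ptr]

end CY

theorem MC.ev (h : MC p U) : Nat.card Ω % 2 = 0 := by_contra fun o => by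
  obtain ⟨a, -, b, -, n⟩ := Ko.exists_pair (Δ := (Set.univ : Set Ω)) (by have := h.big; rw [Set.ncard_univ]; omega)
  have po := Nat.odd_iff.1 h.odd
  by_cases k : Odd (♯(𝐂 (U a ⊔ U b)))
  · haveI := Fintype.ofFinite Ω
    haveI := h.faith
    haveI := Fact.mk Nat.prime_two
    obtain ⟨m, hm⟩ := h.modn a
    have p2 : ∀ j, Nat.card Ω ≠ 2 ^ j + 1 := fun j e =>
      h.p2 ((Nat.prime_dvd_prime_iff_eq h.hp Nat.prime_two).1 (h.hp.dvd_of_dvd_pow (n := j) ⟨m, by omega⟩))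
    obtain ⟨L, -, -, -, -, k'⟩ := (CF.TsY.S3120.result (G := G) (Ω := Ω) (by rw [← Nat.card_eq_fintype_card, Nat.odd_iff]; omega)
      h.tt a b n fun S => .inl ((cyc_map_iff (subtype_injective _)).1 (h.cyc_of (a := a) ((map_subtype_le _).trans inf_le_left)
        fun x hx c => one_of_odd k (h.k0 c (map_subtype_le _ hx).2) ((syl_sylow S).pi.elt hx)))).resolve_left h.nr
    rw [← Nat.card_eq_fintype_card] at k'
    rcases k' with ⟨F, _, _, c, e, -⟩ | ⟨F, _, _, m, -, c, e, -⟩ | ⟨F, _, _, q, v, c, e, -⟩ | ⟨e, k'⟩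
    · obtain ⟨j, -, hj⟩ := FiniteField.card F (ringChar F)
      exact p2 j (by rw [e, hj, c])
    · exact p2 _ (by rw [e, c, ← pow_mul])
    · obtain ⟨j, pp, hj⟩ := FiniteField.card F (ringChar F)
      have h2 := (Nat.prime_dvd_prime_iff_eq Nat.prime_two pp).1 (Nat.prime_two.dvd_of_dvd_pow (hj ▸ c ▸ dvd_pow v.two_dvd two_ne_zero))
      obtain ⟨i, -, rfl⟩ := (Nat.dvd_prime_pow Nat.prime_two).1 (show q ∣ 2 ^ (j : ℕ) by
        rw [h2, ← hj, c]; exact dvd_pow_self _ two_ne_zero)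
      exact p2 _ (by rw [e, ← pow_mul])
    have d : 3 ∣ Nat.card G := Dvd.dvd.trans (by
      rcases k' with ⟨F, _, _, c, ⟨i⟩⟩ | ⟨⟨i⟩⟩
      · have := Classical.card_PSL_two (F := F)
        rw [c, ← Nat.card_congr i.toEquiv] at this
        norm_num at this
        omega
      · rw [Nat.card_congr i.toEquiv, Comp.Mat.card_M11]; norm_num) L.card_subgroup_dvd_card
    rw [h.toT2.card n, e] at d
    obtain ⟨x, hx, o⟩ := exists_mem_orderOf_eq Nat.prime_three ((Nat.prime_three.dvd_mul.1 d).resolve_right (by norm_num))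
    obtain rfl : p = 5 := by
      have := Nat.le_of_dvd (by norm_num) (show p ∣ 10 from ⟨m, by omega⟩)
      have := h.p3
      have := h.hp
      interval_cases p <;> first | omega | norm_num at this
    have x3 : PiElt {3} x := (piNat_self Nat.prime_three).dvd o.dvd
    have c : x ∈ 𝐂 (U a) := x3.mem_of_relIndex (show x ∈ 𝐒 a from hx.1) (h.nC a).norm
      (((piNat_compl_single Nat.prime_three).2 (by norm_num)).dvd (h.rel le_rfl))
    have h1 := modp (Λ := (Set.univ : Set Ω)) Nat.prime_three x3 fun _ _ => trivial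
    have h2 := h.mod (Δ := {y | y ∈ Set.univ ∧ x • y = y}) (a := a) ⟨trivial, hx.1⟩ fun y hy d hd =>
      ⟨trivial, comm_smul (mem_cent.1 c y hy) hd.2⟩
    have h3 := Set.ncard_lt_ncard (s := {y | y ∈ Set.univ ∧ x • y = y}) (t := (Set.univ : Set Ω)) (Set.ssubset_univ_iff.2 fun k =>
      absurd o (by rw [h.ff x fun c => (k.ge trivial : c ∈ {y | y ∈ Set.univ ∧ x • y = y}).2]; simp))
    rw [Set.ncard_univ, e] at h1 h3
    omega
  obtain ⟨T, s⟩ := exists_syl 2 (𝐂 (U a ⊔ U b))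
  have S := h.sb_fx n s.le (h.witt n s) (cent_le_norm T)
  have o' := ncard_fx (Δ := (Set.univ : Set Ω)) s.pi fun _ _ _ _ => trivial
  rw [Set.ncard_univ, Set.univ_inter] at o'
  rcases h.sub h.ih S (h.fx_ne (s.syl_ne_bot Nat.prime_two (Nat.not_odd_iff_even.1 k).two_dvd)) with ⟨E, r⟩ | ⟨e, -⟩ | e | e
  · exact h.nr (h.odd_reg n (h.sr_odd S r (by omega) (h.bl_fx s.le ptl) (h.bl_fx s.le ptr) n))
  · omega
  · have := Nat.odd_iff.1 (h.odd.pow (n := 3)); have := e.card; omega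
  · have := e.card; omega

end CF.Cy
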