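import Cfsg.Agent.TsY.CyD

/-! Doubly transitive groups with a normal subgroup of odd prime order in the point stabiliser: blocks of degree 28, lines. -/

set_option autoImplicit false
set_option linter.unusedSectionVars false

namespace CF.Cy

open MulAction Subgroup Cfsg CF.BG CF.Bender CF.ZD CF.Tw
open CF.Hk (St Pt PB)
open scoped commutatorElement

universe u v

/-- the results on two point stabilisers with small Sylow 2-subgroups -/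
structure Ext (G : Type u) (Ω : Type v) [Group G] [MulAction G Ω] : Prop where
  ce : ∀ (t : G) (a b : Ω), Ko.CI t a b → (∀ u : G, Iv u → IsConj t u) → (∀ x ∈ D2 G a b, PiElt {2} x → x * x = 1) →
    (∀ s, Sw a b s → s ∈ 𝐂 (D2 G a b)) → Nat.card Ω = 6 ∨ Nat.card Ω = 28
  dh : ∀ (a b : Ω) (s x : G), Sw a b s → x ∈ D2 G a b → x ^ 4 = 1 → x * x ≠ 1 → s * x * s⁻¹ = x⁻¹ →
    (∀ T, Syl 2 T (D2 G a b) → Cyc T) → (∀ y ∈ D2 G a b, y * x * y⁻¹ ≠ x⁻¹) → (Fx Ω (zpowers x)).ncard % 2 = 0 → Nat.card Ω % 4 = 2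
  pp : ∀ (a b : Ω) (T : Subgroup G), Nat.card Ω % 4 = 2 → a ≠ b → Syl 2 T (D2 G a b) → Abel T →
    ∃ r k : ℕ, r.Prime ∧ Nat.card Ω = r ^ k + 1

variable {G : Type u} {Ω : Type v} [Group G] [Finite G] [MulAction G Ω] [Finite Ω]
variable {p r : ℕ} {U : Ω → Subgroup G} {A E H K N P T W X Y : Subgroup G} {Δ Λ : Set Ω} {a b c d e : Ω}
  {f g k s t u w x y z : G}

local notation "𝐒" => MulAction.stabilizer G

theorem mem_of_odd (o : Odd (♯K)) (c : K ≤ 𝐂 H) (hx : x ∈ H) (m : x⁻¹ * u ∈ K) (i : u * u = 1) : u ∈ H := by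
  obtain ⟨j, e⟩ := o
  have c1 : Commute x (x⁻¹ * u) := mem_cent.1 (c m) x hx
  have := c1.mul_pow (2 * j + 1)
  rw [mul_inv_cancel_left, ← e, orderOf_dvd_iff_pow_eq_one.1 (orderOf_dvd_card' m), mul_one, e, pow_succ, pow_mul, pow_two, i] at this
  exact (by simpa using this : u = _) ▸ pow_mem hx _

namespace CY
variable (h : CY p U)
include h

theorem sw_fpf (n : a ≠ b) (ev : (Bl U a b).ncard % 2 = 0) (hw : w ∈ 𝐂 (U e)) (j : Sw a b w) (hc : c ∈ Bl U a b) : w • c ≠ c :=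
  fun k => by
  obtain ⟨d, hd, m, k'⟩ := second j.sq ev (fun _ => h.smul (h.norm2' j.ab j.ba)) hc k
  exact n ((h.K_a (h.F_eq n hc hd m.symm ▸ h.K_mv hw k k')).symm.trans j.ab)

theorem pw (ga : g • a = a) : g ^ (p - 1) ∈ 𝐂 (U a) := by
  haveI := (h.nC a).normal
  obtain ⟨m, e⟩ := h.rel (le_refl (𝐒 a))
  rw [e, pow_mul]
  exact pow_mem (((𝐂 (U a)).subgroupOf (𝐒 a)).pow_index_mem ⟨g, ga⟩) m

theorem two_mod (ga : g • a = a) (ta : t • a = a) (g2 : g * g ∈ 𝐂 (U a)) (t2 : t * t ∈ 𝐂 (U a)) (m : t ∉ 𝐂 (U a)) :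
    ∃ φ ∈ zpowers t, g * φ⁻¹ ∈ 𝐂 (U a) :=
  cyc_pow (h.prime a) Nat.prime_two (h.norm ta) (h.norm ga) (by rwa [pow_two]) (by rwa [pow_two]) m

theorem ce_of (X : Ext G Ω) (ev : Nat.card Ω % 2 = 0) (o : ∀ a b, a ≠ b → Odd (♯(𝐂 (U a ⊔ U b))))
    (sq : ∀ a b, a ≠ b → ∀ x ∈ D2 G a b, x * x ∈ 𝐂 (U a))
    (iv : ∀ a b, a ≠ b → ∀ u ∈ PS G a b, u * u = 1 → ∃ x ∈ U a ⊔ U b, x⁻¹ * u ∈ 𝐂 (U a ⊔ U b))
    (fx : ∀ (a b : Ω) (u : G), Sw a b u → ∃ c : Ω, u • c = c) : Nat.card Ω = 6 ∨ Nat.card Ω = 28 := by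
  have F : ∀ a b, a ≠ b → ∀ u ∈ PS G a b, u * u = 1 → u ∈ U a ⊔ U b := fun a b n u hu i =>
    let ⟨_, hx, m⟩ := iv a b n u hu i; mem_of_odd (o a b n) le_rfl hx m i
  have nc : ∀ a b, a ≠ b → ∀ u ∈ D2 G a b, Iv u → u ∉ 𝐂 (U a) := fun a b n u hu i k => i.not_mem (o a b n) (h.k0 k hu.2)
  have dec : ∀ a b, a ≠ b → ∀ t ∈ D2 G a b, Iv t → ∀ x ∈ D2 G a b, ∃ φ ∈ zpowers t, x * φ⁻¹ ∈ 𝐂 (U a ⊔ U b) :=
    fun a b n t ht i x hx =>
      let ⟨φ, hφ, m⟩ := h.two_mod hx.1 ht.1 (sq a b n x hx) (sq a b n t ht) (nc a b n t ht i)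
      ⟨φ, hφ, h.k0 m (fmul hx.2 (finv (fzp ht.2 hφ)))⟩
  have ui : Ko.UI G Ω := ⟨h.toT2, fun a b u t n hu ht i j => by
    obtain ⟨φ, hφ, m⟩ := dec a b n t ht j u hu
    have hφ' := zpowers_le.2 (F a b n t (.inl ht) j.sq) hφ
    have m' := mul_mem (F a b n u (.inl hu) i.sq) (inv_mem hφ')
    have : u = φ := mul_inv_eq_one.1 (one_of_odd (o a b n) m ((sq_elt i.sq).mul ((sq_elt j.sq).of_mem_zpowers hφ).inv (by
      have := mem_cent.1 m _ (inv_mem hφ')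
      rw [← mul_assoc] at this
      exact (mul_right_cancel this).symm)))
    exact ((GW.Iv.mk' j.ne j.sq).mem_zpowers.1 (this ▸ hφ)).resolve_left i.ne⟩
  obtain ⟨a, -, b, -, n⟩ := Ko.exists_pair (Δ := (Set.univ : Set Ω)) (by have := h.big; rw [Set.ncard_univ]; omega)
  obtain ⟨t, j⟩ := h.exists_sw n
  obtain ⟨c, e⟩ := fx a b t j
  obtain ⟨d, -, m, e'⟩ := second (Λ := Set.univ) j.sq (Set.ncard_univ Ω ▸ ev) (fun _ _ => trivial) trivial e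
  have ht : t ∈ D2 G d c := mem_D2.2 ⟨e', e⟩
  have C : Ko.CI t d c := ⟨ui, m, j.iv, ht⟩
  refine X.ce t d c C (fun u i => ?_) (fun x hx k => one_of_odd (o d c m) (h.k0 (sq d c m x hx) (fmul hx.2 hx.2)) (k.mul k rfl))
    fun s k => mem_cent.2 fun x hx => ?_
  · by_cases e : u • a = a
    · exact C.conj' ev i e
    · obtain ⟨c, e⟩ := fx a _ u ⟨i.sq, rfl, Ne.symm e⟩
      exact C.conj' ev i e
  · obtain ⟨φ, hφ, l⟩ := dec d c m t ht j.iv x hx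
    have c1 : Commute s (x * φ⁻¹) := mem_cent.1 l s (F d c m s (.inr ⟨k.ab, k.ba⟩) k.sq)
    have c2 : Commute s φ := mem_cent.1 (cent_zpowers t ▸ C.sw_c k) φ hφ |>.symm
    simpa using (c1.mul_right c2).symm.eq

theorem s3_false (X : Ext G Ω) (ev : Nat.card Ω % 2 = 0) (s : ∀ a b, a ≠ b → S3 p U (𝐍 (U a ⊔ U b)) (Bl U a b)) (n : a ≠ b)
    (ne : Bl U a b ≠ Set.univ) : False := by
  have := Set.ncard_lt_ncard (Set.ssubset_univ_iff.2 ne)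
  rw [(s a b n).card, Set.ncard_univ] at this
  have fx : ∀ a b (u : G), Sw a b u → ∃ c ∈ Bl U a b, u • c = c := fun a b u j =>
    (s a b j.ne).fx u (h.norm2' j.ab j.ba) (j.sq ▸ one_mem _)
  have := h.ce_of X ev (fun a b n => by_contra fun o => by
      obtain ⟨k, hk, i⟩ := exists_iv o
      obtain ⟨g, j⟩ := h.to_sw n i
      obtain ⟨c, hc, e⟩ := fx a b _ j
      exact h.sw_fpf n (by rw [(s a b n).card]) (h.conjC (cent_anti le_sup_left hk) g) j hc e)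
    (fun a b n x hx => by simpa [(s a b n).p3, pow_two] using h.pw hx.1)
    (fun a b n u hu i => h.Pt_bl n ▸ (s a b n).iv a ptl b ptr n u (hu.elim (fun k => h.norm2 k.1 k.2) fun k => h.norm2' k.1 k.2)
      (i ▸ one_mem _))
    fun a b u j => let ⟨c, _, e⟩ := fx a b u j; ⟨c, e⟩
  omega

section
variable (l : LN p U a b z w)
include l

theorem w_pi : PiElt {2} w := (piNat_pow_self Nat.prime_two 2).dvd (orderOf_dvd_of_pow_eq_one (by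
  rw [show w ^ 2 ^ 2 = w * w * (w * w) by simp [pow_succ, mul_assoc], l.w2, l.z2]))

theorem U_le (p5 : 5 ≤ p) (le : U a ⊔ U b ≤ E ⊔ U a) (nE : U a ≤ 𝐍 E) : U a ≤ E := by
  obtain ⟨f, hf, k, -, m⟩ := l.tor2 p5
  obtain ⟨x, hx, x1⟩ := h.ex a
  rw [← h.gen (mul_mem (conj_mem_of_norm (h.norm k.1) hx) (inv_mem hx)) fun e =>
    m (h.cent_of hx x1 (mul_inv_eq_iff_eq_mul.1 (mul_inv_eq_one.1 e)))]
  exact zpowers_le.2 (der_le_of (h.abel a) nE le (commutator_mem_commutator hf (mem_sup_left hx)))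

theorem onl (hc : c ∈ Bl U a b) (m : c ≠ a) : ∃ x ∈ U a, x • b = c := h.reg l.ne l.card ptl ptr hc l.ne.symm m

theorem st (ga : g • a = a) (hg : g • b ∈ Bl U a b) : ∃ x ∈ U a, x • b = g • b := h.onl l hg (ne_of_fix ga l.ne.symm)

theorem fixb (c : g ∈ 𝐂 (U a)) (hg : g • b ∈ Bl U a b) (o : PiElt {p}ᶜ g) : g • b = b := by
  obtain ⟨x, hx, k⟩ := h.st l (h.cfix c) hg
  have := fpow (show (x⁻¹ * g) • b = b by rw [mul_smul, ← k, inv_smul_smul]) (orderOf g)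
  rw [(show Commute x⁻¹ g from mem_cent.1 c _ (inv_mem hx)).mul_pow, pow_orderOf_eq_one, mul_one] at this
  rw [← k, ← inv_inv x, ((h.pi a).elt (inv_mem hx)).eq_one (o.dvd (orderOf_dvd_of_pow_eq_one
    (h.semi (pow_mem (inv_mem hx) _) l.ne this))), inv_one, one_smul]

theorem trC (ev : Nat.card Ω % 2 = 0) : Tr a (𝐂 (U a)) := (h.trS a).to l.ne.symm fun g hg => by
  have nX : 𝐒 a ≤ 𝐍 (𝐂 (U a) ⊔ D2 G a b) := norm_of_der_le (sup_le (h.nC a).le inf_le_left) ((h.der a).trans le_sup_left)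
  have m : g ∈ 𝐂 (U a) ⊔ D2 G a b := by
    obtain ⟨x, y, hx, hy, x2, y2, rfl⟩ := exists_piPart {2} g
    have ya := fzp hg hy
    obtain ⟨τ, -, k, e⟩ := l.sq y ya
    refine mul_mem (x2.mem_of_relIndex (show x ∈ 𝐒 a from fzp hg hx) nX (((piNat_compl_single Nat.prime_two).2 ?_).dvd
      (relIndex_dvd_left _ le_sup_right))) (zpowers_le.2 (mul_inv_cancel_left τ (y * y) ▸ mul_mem (mem_sup_right k) (mem_sup_left e)) ?_)
    · rw [h.index2 l.ne]; have := h.big; omega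
    · rw [← pow_two]; exact mem_zpowers_pow_iff.2 ((piNat_compl_single_iff_coprime Nat.prime_two).1 y2).symm
  obtain ⟨x, hx, y, hy, rfl⟩ := (mem_sup_norm' (inf_le_left.trans (h.nC a).norm)).1 m
  exact ⟨x, hx, by rw [mul_smul, hy.2]⟩

end

end CY

/-- all blocks are projective lines -/
structure LC (p : ℕ) (U : Ω → Subgroup G) : Prop extends MC p U where
  ln : ∀ a b, a ≠ b → ∃ z w, LN p U a b z w
  out : ∀ a b, a ≠ b → Bl U a b ≠ Set.univ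
  p5 : 5 ≤ p ∨ ∀ a b z w, LN p U a b z w → z ≠ 1 ∧ ∀ c : Ω, z • c = c → c ∈ Bl U a b

namespace LC
variable (h : LC p U)
include h

theorem lsub (l : LN p U a b z w) (s : Sb U N Λ) (ne : Λ ≠ Set.univ) (ha : a ∈ Λ) (hb : b ∈ Λ) :
    Λ ⊆ Bl U a b ∨ (z ∉ Pt G Λ ∧ SU p U N Λ) := by
  rcases h.sub h.ih s ne with ⟨E, r⟩ | ⟨e, -⟩ | e | e
  · rcases Nat.mod_two_eq_zero_or_one Λ.ncard with o | o
    · rcases h.p5 with p5 | k
      · obtain ⟨x, hx, x1⟩ := h.ex a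
        exact absurd (h.semi hx l.ne (r.semi x (h.U_le l p5 (h.sr_le s r ha hb) ((s.le a ha).trans r.nm.norm) hx) a ha
          (h.self hx) b hb)) x1
      · exact .inl fun c hc => (k a b z w l).2 c (l.w2 ▸ h.sr_sq s r o
          (h.sr_two s r ha hb (zpowers_le.2 l.wF) (h.w_pi l).zpowers (mem_zpowers w)) c hc)
    · exact absurd (by rw [← l.wa, one_of_odd (h.sr_odd s r o ha hb l.ne) l.wF (h.w_pi l), one_smul]) l.ne
  · exact .inl (Set.eq_of_subset_of_ncard_le (h.sb_sub s ha hb) (e.trans l.card.symm).le).ge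
  · obtain ⟨y, hy, m, k⟩ := e.z a ha b hb l.ne
    exact .inr ⟨((l.uq y hy k).resolve_left fun e => m (e ▸ one_mem _)) ▸ m, e⟩
  · exact .inl (e.all a ha b hb l.ne)

theorem fx_le (hr : r.Prime) (rp : r ≠ p) (zr : ∀ a b z w, LN p U a b z w → PiElt {r} z) (l : LN p U a b z w) (k : PiGrp {r} X)
    (x1 : X ≠ ⊥) (le : X ≤ 𝐂 (U a ⊔ U b)) (hz : z ∈ X) : Fx Ω X ⊆ Bl U a b := by_contra fun m => by
  obtain ⟨X, ⟨k, x1, a, b, z, w, l, le, hz, m⟩, mx⟩ := exists_max_card (P := fun X : Subgroup G => PiGrp {r} X ∧ X ≠ ⊥ ∧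
    ∃ a b z w, LN p U a b z w ∧ X ≤ 𝐂 (U a ⊔ U b) ∧ z ∈ X ∧ ¬ Fx Ω X ⊆ Bl U a b) ⟨k, x1, a, b, z, w, l, le, hz, m⟩
  have la := le.trans (cent_anti le_sup_left)
  have t : TT (𝐍 X) (Fx Ω X) := by
    by_cases e : ∃ c d, c ≠ d ∧ Syl r X (𝐂 (U c ⊔ U d))
    · obtain ⟨c, d, n, s⟩ := e
      exact h.witt n s
    refine tt_of ((h.bl_big l.ne).trans_le (Set.ncard_le_ncard (h.bl_fx le))) (fun _ hg _ => fx_inv hg) fun c hc d hd d' hd' n n' => ?_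
    obtain ⟨g, hg, e⟩ := gleason (N := 𝐍 X ⊓ 𝐒 c) (Λ := Fx Ω X \ {c}) hr (fun g hg d hd => ⟨fx_inv hg.1 hd.1, ne_of_fix hg.2 hd.2⟩)
      (fun d hd => by
        obtain ⟨z, w, l⟩ := h.ln c d (Ne.symm hd.2)
        obtain ⟨P, s, lP⟩ := exists_syl_le (h.fx_K la hc hd.1) k
        have lY : P ⊓ 𝐍 X ≤ 𝐂 (U c ⊔ U d) := inf_le_left.trans s.le
        have lt : X < P ⊓ 𝐍 X := lt_of_le_of_ne (le_inf lP (le_norm_self X)) fun k =>
          e ⟨c, d, l.ne, s.pi.nil.eq_of_inf_norm_le lP k.ge ▸ s⟩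
        have zP := cent_symm s.le l.zF
        have e1 : (Fx Ω X \ {c}) ∩ Fx Ω (P ⊓ 𝐍 X) = Bl U c d \ {c} := Set.ext fun y => ⟨fun hy => ⟨by_contra fun m =>
          (card_lt lt).not_ge (mx _ ⟨s.pi.inf_left, ne_bot_mono x1 lt.le, c, d, z, w, l, lY,
            ⟨s.mem_of_norm l.zK (cent_le_norm _ zP) (zr _ _ _ _ l), cent_le_norm _ (cent_anti lP zP)⟩, fun k => m (k hy.2)⟩), hy.1.2⟩,
          fun hy => ⟨⟨lt.le.trans (h.bl_fx lY hy.1), hy.2⟩, h.bl_fx lY hy.1⟩⟩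
        refine ⟨P ⊓ 𝐍 X, fun y hy => ⟨hy.2, h.K_a (lY hy)⟩, s.pi.inf_left, ?_, ?_⟩
        · rw [e1, Set.ncard_sdiff_singleton_of_mem ptl, l.card]
          exact fun k => rp ((Nat.prime_dvd_prime_iff_eq hr h.hp).1 k)
        · rw [e1]
          exact fun y hy => let ⟨x, hx, e⟩ := h.onl l hy.1 hy.2; ⟨x, ⟨cent_le_norm _ (h.fx_U la hc hx), h.self hx⟩, e⟩)
      ⟨hd, n⟩ ⟨hd', n'⟩
    exact ⟨g, hg.1, hg.2, e⟩
  rcases h.lsub l (h.sb_fx l.ne le t (cent_le_norm X)) (h.fx_ne x1) (h.bl_fx le ptl) (h.bl_fx le ptr) with e | e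
  exacts [m e, e.1 fun c hc => hc hz]

end LC

end CF.Cy
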