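import Cfsg.Agent.Cy.A0
import Cfsg.Agent.TsY.PermHkZ
import Cfsg.Agent.Known.Pres.U3
import Cfsg.Agent.Suz.SylU

/-! Reading off the linear and the unitary type. -/

set_option autoImplicit false
set_option linter.unusedSectionVars false

namespace CF.Cy.Af

open MulAction Subgroup Cfsg CF.BG CF.Bender CF.ZD CF.Tw CF.Fisch CF.Hk
open scoped MatrixGroups

universe u v
variable {G : Type u} {Ω : Type v} [Group G] [Finite G] [MulAction G Ω] [Finite Ω]
variable {F K : Type} [Field F] [Fintype F] [Field K] [Fintype K] {p q k : ℕ} {U Q : Ω → Subgroup G} {Δ : Set Ω}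
  {a b c : Ω} {g m s t u x y z : G} {pt : F → F → Ω} {π : SL(2, F) →* G} {V W N M : Subgroup G}

local notation "𝐒" => MulAction.stabilizer G

theorem pw (hp : p.Prime) (c : ♯V = p) (hg : g ∈ 𝐍 V) : g ^ (p - 1) ∈ 𝐂 V := by
  obtain ⟨j, e⟩ := relIndex_cent_dvd_pred (X := V) (c ▸ hp) le_rfl
  haveI := (normalIn_inf_cent (H := V) le_rfl).normal
  have := ((𝐍 V ⊓ 𝐂 V).subgroupOf (𝐍 V)).pow_index_mem ⟨g, hg⟩
  rw [← c, e, pow_mul, ← inf_relIndex_left]
  exact pow_mem this.2 j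

theorem small (e : ∀ r : F, r ≠ 0 → r ^ k = 1) : Fintype.card F - 1 ∣ k :=
  (FiniteField.forall_pow_eq_one_iff F k).1 fun x => Units.ext (by simpa using e x x.ne_zero)

theorem dvd_pred (hp : p.Prime) (d : p ∣ Fintype.card F) : p - 1 ∣ Fintype.card F - 1 := by
  obtain ⟨r, hr⟩ := CharP.exists F
  obtain ⟨j, pr, e⟩ := FiniteField.card F r
  rw [e] at d ⊢
  rw [(Nat.prime_dvd_prime_iff_eq hp pr).1 (hp.dvd_of_dvd_pow d)]
  exact Nat.sub_one_dvd_pow_sub_one r j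

theorem psu_na (hK : Fintype.card K = q ^ 2) : ∃ P : Subgroup (PSU 3 K q), ♯P = q ^ 3 ∧ ¬ Abel P := by
  obtain ⟨_, hs, ⟨e⟩⟩ := Known.Pres.exists_U3 hK
  have c := Suz.UT.card hK hs
  have q2 := Geom.two_le_of_card_eq_sq hK
  let ι : Suz.UT K →* Known.Pres.UT K := MonoidHom.mk' (fun x => ⟨x.e, x.y, x.h⟩) fun _ _ => rfl
  let ψ := e.toMonoidHom.comp (Known.Pres.U3.u.comp ι)
  have i1 : Function.Injective ψ := e.injective.comp fun x y k => by
    have : (Known.Pres.U3.u (ι x)).1.1 = (Known.Pres.U3.u (ι y)).1.1 := congrArg (fun g => g.1.1) k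
    simp only [Known.Pres.U3.val_u] at this
    have h1 := congrFun (congrFun this 1) 2
    have h2 := congrFun (congrFun this 0) 2
    exact Suz.UT.ext (by simpa [ι] using h1) (by simpa [ι] using h2)
  let φ := (QuotientGroup.mk' (center (SU 3 K q))).comp ψ
  have i2 : Function.Injective φ := (injective_iff_map_eq_one φ).2 fun x k => by
    have h1 : orderOf (ψ x) ∣ Nat.gcd 3 (q + 1) := Cfsg.Agent.S0279.result hK 3 le_rfl ▸
      orderOf_dvd_card' ((QuotientGroup.eq_one_iff _).1 k)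
    rw [orderOf_injective ψ i1] at h1
    exact orderOf_eq_one_iff.1 (Nat.eq_one_of_dvd_coprimes (Nat.Coprime.pow_left 3 (by simp : q.Coprime (q + 1)))
      (c ▸ _root_.orderOf_dvd_natCard x) (h1.trans (Nat.gcd_dvd_right _ _)))
  refine ⟨φ.range, c ▸ Nat.card_congr (MonoidHom.ofInjective i2).symm.toEquiv, fun ab => ?_⟩
  have z := Suz.UT.card_center hK hs
  rw [show center (Suz.UT K) = ⊤ from eq_top_iff.2 fun x _ => mem_center_iff.2 fun y => i2 (by
    rw [map_mul, map_mul]; exact ab.mul_comm ⟨y, rfl⟩ ⟨x, rfl⟩), card_top, c] at z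
  exact (Nat.pow_lt_pow_right (show 1 < q by omega) (show 1 < 3 by omega)).ne ((pow_one q).trans z.symm)

/-- no nontrivial normal subgroup has a point stabiliser centralising `U a` -/
def NC (U : Ω → Subgroup G) : Prop := ∀ (a : Ω) (N : Subgroup G), N ⊴ ⊤ → N ≠ ⊥ → ¬ N ⊓ stabilizer G a ≤ 𝐂 (U a)

/-- linear outcome -/
structure PL (p : ℕ) (U : Ω → Subgroup G) : Prop where
  card : Nat.card Ω = p + 1
  five : 5 ≤ p
  si : IsSimpleGroup G
  iso : ∃ (F : Type) (_ : Field F) (_ : Fintype F), Nat.card Ω = Fintype.card F + 1 ∧ Nonempty (G ≃* PSL(2, F))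
  nc : NC U

/-- unitary outcome -/
structure PU (p : ℕ) (U Q : Ω → Subgroup G) : Prop where
  card : Nat.card Ω = p ^ 3 + 1
  z : ∀ a b, a ≠ b → ∃ z ∈ U a ⊔ U b, z ≠ 1 ∧ z ∈ 𝐂 (U a ⊔ U b)
  ua : ∀ (a : Ω) (W : Subgroup G), W ⊴ stabilizer G a → Abel W → W ≤ Q a → W ≤ U a
  si : IsSimpleGroup G
  iso : ∃ (F : Type) (_ : Field F) (_ : Fintype F), Fintype.card F = p ^ 2 ∧ Nonempty (G ≃* PSU 3 F p)
  nc : NC U

/-- the group is generated by its root groups -/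
structure CT (p : ℕ) (U Q : Ω → Subgroup G) : Prop extends CY p U where
  co : Core Q
  lq : ∀ a, U a ≤ Q a

namespace CT
variable (h : CT p U Q)
include h

theorem nm : 𝐒 a ≤ 𝐍 (U a) := fun g e => cj_eq_self.1 (by rw [h.cj, show g • a = a from e])

theorem pr (a : Ω) : (♯(U a)).Prime := (h.card a).symm ▸ h.hp

theorem ex (a : Ω) : ∃ u ∈ U a, u ≠ 1 := exists_mem_ne_one (ne_bot_of_prime_card (h.pr a))

theorem mem (g : G) : g ∈ St G (Set.univ : Set Ω) := by simp [St_univ]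

theorem cQ (a : Ω) : U a ≤ 𝐂 (Q a) := (h.co.rs.nil a).cent_of_prime ⟨h.lq a, h.co.rs.le_stab.trans h.nm⟩ (h.pr a)

theorem dv (e : Nat.card Ω = q ^ 3 + 1) : p ∣ q := by
  obtain ⟨a, b, n⟩ := h.co.exists_pair
  have := h.card a ▸ card_dvd (h.lq a)
  rw [show ♯(Q a) = q ^ 3 by have := h.co.rs.card_Q n.symm; omega] at this
  exact h.hp.dvd_of_dvd_pow this

theorem syl (e : Nat.card Ω = p ^ 3 + 1) (n : a ≠ b) (pel : ∀ g ∈ D2 G a b, ∃ m, m.Coprime p ∧ g ^ m = 1) :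
    ♯(Q a) = p ^ 3 ∧ Syl p (Q a) ⊤ := by
  have c : ♯(Q a) = p ^ 3 := by have := h.co.rs.card_Q n.symm; omega
  refine ⟨c, syl_mk h.hp le_top (piGrp_of_card h.hp c) fun d => ?_⟩
  have k := (Q a).card_mul_index
  rw [h.toT2.card n, e, Nat.add_sub_cancel, c, ← mul_assoc, mul_comm _ (p ^ 3),
    mul_right_inj' (pow_ne_zero 3 h.hp.ne_zero)] at k
  rw [relIndex_top_right, k, h.hp.dvd_mul, Nat.dvd_add_right (dvd_pow_self p three_ne_zero)] at d
  obtain ⟨g, hg, o⟩ := exists_mem_orderOf_eq h.hp (d.resolve_right h.hp.not_dvd_one)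
  obtain ⟨m, c, e⟩ := pel g hg
  exact not_dvd_of_coprime c.symm h.hp dvd_rfl (o ▸ orderOf_dvd_of_pow_eq_one e)

section
variable (T : TLd Q Δ pt π) (st : U (pt 1 0) ≤ St G Δ)
include T st

theorem up (t : F) : π (upT t) ∈ U (pt 1 0) := by
  have R := h.co.rs
  obtain ⟨x, hx, x1⟩ := h.ex (pt 1 0)
  obtain ⟨r, rfl⟩ := T.mem_U R (h.lq _ hx) (st hx)
  have r0 : r ≠ 0 := fun e => x1 (by rw [e, upT_zero, map_one])
  have sq : ∀ u : F, π (upT (u ^ 2 * r)) ∈ U (pt 1 0) := fun u => by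
    by_cases e : u = 0
    · simp [e, upT_zero]
    · exact T.conj_up R (T.sc_hT e) r ▸ conj_mem_of_norm (h.nm (T.hT_D e).1) hx
  have := T.two
  rw [show t = ((t / r + 1) / 2) ^ 2 * r + -(((t / r - 1) / 2) ^ 2 * r) by field_simp; ring, upT_add, upT_neg, map_mul, map_inv]
  exact mul_mem (sq _) (inv_mem (sq _))

theorem U_eq : Q (pt 1 0) ⊓ St G Δ = U (pt 1 0) := le_antisymm
  (fun _ hx => let ⟨t, e⟩ := T.mem_U h.co.rs hx.1 hx.2; e ▸ h.up T st t) (le_inf (h.lq _) st)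

theorem q_eq : Fintype.card F = p := by rw [← T.card_U h.co.rs, h.U_eq T st, h.card]

theorem rng (A : SL(2, F)) : π A ∈ U (pt 1 0) ⊔ U (pt 0 1) := by
  refine sl2_ind (p := fun N => π N ∈ U (pt 1 0) ⊔ U (pt 0 1)) (fun t => mem_sup_left (h.up T st t))
    (fun t => mem_sup_right ?_) (fun _ _ h k => map_mul π _ _ ▸ mul_mem h k) _
  have := conj_mem_cj (g := π (wT 1)).2 (h.up T st (-t))
  rwa [h.cj, T.w_ab one_ne_zero, ← map_mul, wT_mul_upT one_ne_zero, map_mul, mul_inv_cancel_right, neg_neg, one_pow,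
    div_one] at this

theorem sc1 {r : F} (e : Sc pt g r) (c : g ∈ 𝐂 (U (pt 1 0))) : r = 1 := by
  have := T.conj_up h.co.rs e 1
  rw [← mem_cent.1 c _ (h.up T st 1), mul_inv_cancel_right] at this
  simpa using (T.up_inj this).symm

end

theorem tl (T : TL Q Set.univ) : Sol (⊤ : Subgroup G) ∨ PL p U := by
  have R := h.co.rs
  obtain ⟨F, _, _, pt, π, T0⟩ := id T
  have e := h.q_eq T0 fun x _ => h.mem x
  have c := T0.card
  rw [Set.ncard_univ] at c
  obtain ⟨f⟩ := T0.psl R h.ff h.co.top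
  by_cases p3 : p = 3
  · have := Fintype.ofFinite Ω
    have := h.toT2.faith
    have := Classical.isSolvable_S4
    let k := Equiv.permCongrHom (Fintype.equivFinOfCardEq (α := Ω) (n := 4) (by rw [← Nat.card_eq_fintype_card, c, e, p3]))
    have := Group.isSolvable_of_isSolvable_injective (f := k.toMonoidHom.comp (toPermHom G Ω))
      (k.injective.comp toPerm_injective)
    exact .inl inferInstance
  have p5 : 5 ≤ p := h.hp.five_le_of_ne_two_of_ne_three h.p2 p3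
  have := Classical.isSimpleGroup_PSL2 (F := F) (by rw [Nat.card_eq_fintype_card]; omega)
  have si := f.isSimpleGroup
  refine .inr ⟨e ▸ c, p5, si, ⟨F, _, _, c, ⟨f⟩⟩, fun a N n N1 l => ?_⟩
  obtain rfl := (normalIn_top.1 n).eq_bot_or_eq_top.resolve_left N1
  obtain ⟨b, n⟩ := h.co.exists_ne a
  obtain ⟨F, _, _, pt, π, T, rfl, -⟩ := T.at R trivial trivial n
  have := Nat.le_of_dvd two_pos (small (k := 2) fun r r0 =>
    h.sc1 T (fun x _ => h.mem x) (T.sc_hT r0) (l ⟨trivial, (T.hT_D r0).1⟩))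
  have := h.q_eq T fun x _ => h.mem x
  omega

section
variable (T : TUd Q Set.univ pt π)
include T

theorem uT : TLd Q (FE Ω (π (-1))) pt π := T.T.congr (Set.univ_inter _)

theorem uI : Iv (π (-1)) := ⟨T.z1, T.T.z_sq⟩

theorem uD : D2 G (pt 1 0) (pt 0 1) ≤ 𝐂₁ (π (-1)) := fun g hg => mem_cent1.2 (mul_inv_eq_iff_eq_mul.1
  (T.uq _ (h.co.mem _) (mul_mem (mul_mem hg ⟨(h.uT T).ma, (h.uT T).mb⟩) (inv_mem hg)) ((h.uI T).conj g)))

theorem cyc (c : ♯V = p) (n : D2 G (pt 1 0) (pt 0 1) ≤ 𝐍 V) : π (-1) ∈ 𝐂 V := by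
  have T' := h.uT T
  obtain ⟨g, -, d, s1, nd⟩ := T.nsq
  obtain ⟨r, e⟩ := T'.sc_of h.co.rs s1 d
  have r0 := Sc.ne e
  have e1 := e.pow (Fintype.card F / 2)
  rw [(FiniteField.pow_dichotomy (char_ne T'.two) r0).resolve_left fun k =>
    nd ((T'.dp_sc e).2 ((FiniteField.isSquare_iff (char_ne T'.two) r0).2 k))] at e1
  obtain ⟨j, k⟩ := dvd_pred h.hp (h.dv ((Set.ncard_univ Ω).symm.trans T.card))
  have cy : g ^ (Fintype.card F / 2) * g ^ (Fintype.card F / 2) ∈ 𝐂 V := by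
    rw [← pow_add, show _ / 2 + _ / 2 = (p - 1) * j by have := card_odd T'.two; omega, pow_mul]
    exact pow_mem (pw h.hp c (n d)) j
  have dy := pow_mem d (Fintype.card F / 2)
  generalize g ^ (Fintype.card F / 2) = y at e1 cy dy
  by_cases o : Odd (♯(zpowers (y * y)))
  · have e2 := e1.pow (♯(zpowers (y * y)))
    rw [o.neg_one_pow] at e2
    have n1 : y ^ ♯(zpowers (y * y)) ∉ Pt G (FE Ω (π (-1))) := fun k =>
      T'.two (by linear_combination -(T'.sc_one e2).1 k)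
    refine (n1 (T.uq _ (h.co.mem _) (pow_mem dy _) ⟨fun k => n1 (k ▸ one_mem _), ?_⟩ ▸ self_Pt)).elim
    rw [← Commute.mul_pow (Commute.refl y), Nat.card_zpowers, pow_orderOf_eq_one]
  obtain ⟨x, hx, i⟩ := exists_iv o
  exact T.uq x (h.co.mem _) (zpowers_le.2 (mul_mem dy dy) hx) i ▸ zpowers_le.2 cy hx

theorem ust : U (pt 1 0) ≤ St G (FE Ω (π (-1))) := fun x hx =>
  cent_St (mem_cent.1 (h.cyc T (h.card _) (inf_le_left.trans h.nm)) x hx)

end

theorem tu (nr : ¬ EqF.Reg G Ω) (C : CU Q) : PU p U Q := by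
  have R := h.co.rs
  obtain ⟨T, K, _, _, q, hK, o, ⟨e⟩⟩ := C
  obtain ⟨F, _, _, pt, π, T0⟩ := id T
  have one : ∀ u, Iv u → IsConj (π (-1)) u := fun y j => by
    simpa using e.symm.toMonoidHom.map_isConj (psu_one hK o (iv_iff.2 ((e.orderOf_eq _).trans (h.uI T0).orderOf))
      (iv_iff.2 ((e.orderOf_eq _).trans j.orderOf)))
  have B : B1 Q (π (-1)) pt π := ⟨⟨h.co, nr, fun t i => by
    obtain ⟨g, rfl⟩ := isConj_iff.1 (one t i)
    rw [ncard_FE_conj]; exact (h.uT T0).two_lt.ne'⟩, h.uT T0, rfl, T0.z1, fun y d i _ => T0.uq y (h.co.mem y) d i⟩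
  obtain ⟨K', _, _, φ, hq, c⟩ := cmp_u3 hK o
  obtain rfl : q = p := (hq.symm.trans (B.q_eq e one (hq ▸ o) c)).trans (h.q_eq (h.uT T0) (h.ust T0))
  have si := B.simple (let ⟨g, _, k⟩ := T0.nsq; ⟨g, k⟩)
  have n3 : Nat.card Ω = q ^ 3 + 1 := by rw [← Set.ncard_univ, T0.card, h.q_eq (h.uT T0) (h.ust T0)]
  clear B one c hq T0 φ
  refine ⟨n3, fun a b n => ?_, fun a W nW ab l => ?_, si, ⟨K, _, _, hK, ⟨e⟩⟩, fun a N n N1 l => ?_⟩
  · obtain ⟨F, _, _, pt, π, T, rfl, rfl⟩ := T.at R trivial trivial n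
    exact ⟨_, h.rng (h.uT T) (h.ust T) _, T.z1, (cent_sup _ _).ge ⟨h.cyc T (h.card _) (inf_le_left.trans h.nm),
      h.cyc T (h.card _) (inf_le_right.trans h.nm)⟩⟩
  · obtain ⟨b, n⟩ := h.co.exists_ne a
    obtain ⟨F, _, _, pt, π, T, rfl, rfl⟩ := T.at R trivial trivial n
    have T' := h.uT T
    have qe := h.q_eq T' (h.ust T)
    obtain ⟨c3, S⟩ := h.syl n3 n fun g hg => let ⟨m, c, k⟩ := T.pel g (h.co.mem g) hg
      ⟨m, qe ▸ c, h.ff _ fun a => k a trivial⟩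
    have aA : Abel (W ⊔ U (pt 1 0)) := ab.sup (cyc_of_prime (h.pr _)).abel (cent_symm ((h.cQ _).trans (cent_anti l)))
    have nA := norm_sup nW.norm h.nm
    have lA := sup_le l (h.lq _)
    have zD : zpowers (π (-1)) ≤ 𝐒 (pt 1 0) := zpowers_le.2 T'.ma
    have d := aA.dprod_cent_comm (zD.trans nA) ((h.uI T).coprime (odd_mono (R.odd _) lA))
    have cU : (W ⊔ U (pt 1 0)) ⊓ 𝐂 (zpowers (π (-1))) = U (pt 1 0) := le_antisymm (fun x hx => h.U_eq T' (h.ust T) ▸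
      ⟨lA hx.1, cent_St (mem_cent.1 hx.2 _ (mem_zpowers _)).symm⟩) (le_inf le_sup_right
        (cent_symm (zpowers_le.2 (h.cyc T (h.card _) (inf_le_left.trans h.nm)))))
    have k := d.card
    have k' := card_dvd lA
    rw [cU] at k d
    rw [← k, c3, h.card, pow_succ', Nat.mul_dvd_mul_iff_left h.hp.pos, Nat.dvd_prime_pow h.hp] at k'
    obtain ⟨j, l2, k'⟩ := k'
    interval_cases j
    · rw [pow_zero, card_eq_one'] at k'
      exact le_sup_left.trans (d.sup.ge.trans (by rw [k', sup_bot_eq]))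
    · have := h.cyc T (k'.trans (pow_one _)) (norm_commutator (inf_le_left.trans nA)
        (norm_of_cent ((h.uD T).trans (cent_zpowers _).ge)))
      exact absurd (eq_bot_mono d.inf (le_inf ((le_inf d.right_le (cent_symm (zpowers_le.2 this))).trans cU.le) le_rfl))
        (ne_bot_of_prime_card (by rw [k', pow_one]; exact h.hp))
    obtain ⟨P, cP, na⟩ := psu_na hK
    obtain ⟨g, -, l⟩ := S.syl_cj_le (K := P.map e.symm.toMonoidHom) le_top
      (piGrp_of_card h.hp ((card_map e.symm.injective).trans cP))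
    rw [eq_of_card_eq lA (by rw [← k, k', c3, h.card, ← pow_succ'])] at aA
    exact absurd ((abel_map_iff e.symm.injective).1 (abel_cj.1 (aA.mono l))) na
  obtain rfl := (normalIn_top.1 n).eq_bot_or_eq_top.resolve_left N1
  obtain ⟨b, n⟩ := h.co.exists_ne a
  obtain ⟨F, _, _, pt, π, T, rfl, -⟩ := T.at R trivial trivial n
  obtain ⟨g, -, d, s1, nd⟩ := T.nsq
  obtain ⟨r, k⟩ := (h.uT T).sc_of R s1 d
  exact nd (((h.uT T).dp_sc k).2 (h.sc1 (h.uT T) (h.ust T) k (l ⟨trivial, d.1⟩) ▸ IsSquare.one))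

end CT

end CF.Cy.Af
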