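import Cfsg.Agent.TsY.CyF1
import Cfsg.Agent.S1011
import Cfsg.Agent.S1075
import Cfsg.Agent.S0810
import Cfsg.Agent.Perm.AutL2
import Cfsg.Agent.Known.Aut.PSLRes

/-! Reading off the Ree type. -/

set_option autoImplicit false
set_option linter.unusedSectionVars false

namespace CF.Cy.Af

open MulAction Subgroup Cfsg CF.BG CF.Bender CF.ZD CF.Tw CF.Fisch CF.Hk
open scoped MatrixGroups commutatorElement

universe u v
variable {G : Type u} {Ω : Type v} [Group G] [Finite G] [MulAction G Ω] [Finite Ω]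
variable {F : Type} [Field F] [Fintype F] {p : ℕ} {U Q : Ω → Subgroup G}
  {a b c : Ω} {g s t u x y z : G} {pt : F → F → Ω} {π : SL(2, F) →* G} {V W N M : Subgroup G}

local notation "𝐒" => MulAction.stabilizer G

theorem split (C : B2 Q t pt π) (pq : (Fintype.card F).Prime) : Fintype.card F = 3 ∧ ∃ M : Subgroup G, M ⊴ ⊤ ∧ M ≠ ⊥ ∧
    (∀ N : Subgroup G, N ⊴ ⊤ → N ≠ ⊥ → M ≤ N) ∧ 𝐂 M = ⊥ ∧ IsSimpleGroup M ∧ ♯M = 504 ∧
      ∀ y ∈ M, y * t = t * y → y * y = 1 := by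
  have R := C.rs
  have J := C.rk
  obtain ⟨-, T, hT, sq, c8⟩ := C.syl
  obtain ⟨M, nM, ne, mn, cM0, s, na⟩ := C.socle C.nr
  have iM : ∀ x, x * x = 1 → x ∈ M := fun x e => C.two_mem nM ne (two_of_sq e)
  have tM := iM t C.iv.sq
  have lT : T ≤ M := fun x hx => iM x (sq x hx)
  have n := Ab2.ns_top na
  have i : GW.Iv (⟨t, tM⟩ : M) := .mk' (fun e => C.iv.ne (congrArg Subtype.val e)) (Subtype.ext C.iv.sq)
  have hS : Syl 2 (T.subgroupOf M) ⊤ := by simpa only [subgroupOf_self] using hall_subgroupOf (hT.of_le lT le_top) le_rfl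
  obtain ⟨-, h⟩ := walter2 n hS ((Hk.abel_of_sq sq).subgroupOf M) ((card_subgroupOf' lT).trans c8) i
  have cM : ∀ x : M, x ∈ 𝐂₁ (⟨t, tM⟩ : M) ↔ (x : G) * t = t * x := fun x => mem_cent1.trans Subtype.ext_iff
  rcases h with ⟨h1, h2⟩ | ⟨K, q, q3, k, r⟩
  · have k : ∀ y ∈ M, y * t = t * y → y * y = 1 := fun y m c => congrArg Subtype.val (h2 ⟨_, m⟩ ((cM _).2 c))
    refine ⟨by_contra fun e => C.T.up_ne one_ne_zero (R.one_of_sq (C.T.root 1) (k _ (C.L_le (by have := C.q3; omega) nM ne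
      (C.T.mem_L R _)) (C.cpi _))), M, nM, ne, mn, cM0, s, ?_, k⟩
    rw [← (𝐂₁ (⟨t, tM⟩ : M)).card_mul_index, h1, ← hS.card_eq (syl_mk p2 le_top (Hk.pi_of_sq h2)
      (by rw [relIndex_top_right, h1]; decide)), card_subgroupOf' lT, c8]
  have kL := k.isL.map M.subtype_injective
  have kC : K.map M.subtype ≤ 𝐂₁ t := by rintro _ ⟨x, hx, rfl⟩; exact mem_cent1.2 ((cM x).1 (k.lK hx))
  have k1 : ∀ x ∈ LF Q t, x * x = 1 → x ∈ K.map M.subtype ∨ t * x ∈ K.map M.subtype := fun x hx e =>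
    (k.mem_or ((cM ⟨x, iM x e⟩).2 (J.lc R hx))).imp (fun h => ⟨_, h, rfl⟩) fun h => ⟨_, h, rfl⟩
  have le : K.map M.subtype ≤ LF Q t := inf_eq_left.1 (((kL.ns k.oq q3).eq_or _ (normalIn_inf_left (kC.trans (J.nL R)))).resolve_left (by
    obtain ⟨v, hv, w, hw, _, -, c⟩ := C.isL.a4 C.oq
    rcases k1 v hv c.fp.l.sq with h1 | h1
    · exact ne_bot_of_mem ⟨h1, hv⟩ c.fp.l.ne_one
    rcases k1 w hw c.fp.r.sq with h2 | h2
    · exact ne_bot_of_mem ⟨h2, hw⟩ c.fp.r.ne_one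
    refine ne_bot_of_mem ⟨?_, mul_mem hv hw⟩ c.fp.iv.ne_one
    have := mul_mem h1 h2
    rwa [← J.lc R hv, mul_assoc, ← mul_assoc t, C.iv.sq, one_mul] at this))
  have c1 := kL.card k.oq
  have c2 := C.isL.card C.oq
  have l1 : q ≤ Fintype.card F := cube_le Fintype.card_pos (by rw [← c1, ← c2]; exact Nat.mul_le_mul_left 2 (card_le le))
  have lM := C.L_le (by omega) nM ne
  have ge : LF Q t ≤ K.map M.subtype := LL_le_iff.2 fun γ hγ x hx hs =>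
    have m := mem_LL hγ hx hs
    ⟨⟨x, lM m⟩, k.mem_E ((cM _).2 (J.lc R m)) (by rw [orderOf_mk]; exact R.odd_elt hx), rfl⟩
  obtain rfl : q = Fintype.card F :=
    l1.antisymm (cube_le (by omega) (by rw [← c1, ← c2]; exact Nat.mul_le_mul_left 2 (card_le ge)))
  obtain ⟨m, -, e⟩ := (r C.q3).q3
  rw [e] at pq q3
  simp [pq.eq_one_of_pow] at q3

theorem aut8 [M.Normal] (c : 𝐂 M = ⊥) (e : M ≃* PSL(2, F)) : ∃ φ : G →* MulAut PSL(2, F), Function.Injective φ ∧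
    ∀ g (x : M), φ g (e x) = e (MulAut.conjNormal g x) := by
  refine ⟨(MulAut.congr e).toMonoidHom.comp MulAut.conjNormal, (injective_iff_map_eq_one _).2 fun g k => ?_, by simp⟩
  have k' : (MulAut.conjNormal g : MulAut M) = 1 := (MulAut.congr e).injective (k.trans (map_one _).symm)
  refine eq_one_of_mem_bot c (mem_cent.2 fun x hx => ?_)
  exact (mul_inv_eq_iff_eq_mul.1 (congrArg (fun f : MulAut M => (f ⟨x, hx⟩ : G)) k')).symm

theorem card_aut8 (hF : Fintype.card F = 8) : Nat.card (MulAut PSL(2, F)) = 1512 := by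
  haveI : Fact (Nat.Prime 2) := ⟨p2⟩
  rw [Known.card_aut_psl (p := 2) (f := 3) hF le_rfl, Classical.card_PGL_two, Nat.card_eq_fintype_card, hF]
  rfl

theorem iso8 [M.Normal] (c : 𝐂 M = ⊥) (hF : Fintype.card F = 8) (e : M ≃* PSL(2, F)) (k : Nat.card G = 1512) :
    Nonempty (G ≃* MulAut PSL(2, F)) :=
  let ⟨φ, i, _⟩ := aut8 c e
  ⟨MulEquiv.ofBijective φ (i.bijective_of_nat_card_le (by rw [k, card_aut8 hF]))⟩

theorem ree8 (hF : Fintype.card F = 8) : Nonempty (Lie.twistedG2 (ZMod 3) 1 ≃* MulAut PSL(2, F)) := by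
  obtain ⟨T, ⟨D⟩⟩ := BN.Ree.nonempty_ree (K := ZMod 3) (m := 0) rfl
  obtain ⟨e⟩ := (Cfsg.Agent.S1075.result hF).2
  have := D.finite
  refine iso8 (D.eq_bot_of_normal_le_B fun g hg => ?_) hF e (D.card_G.trans (by rw [Nat.card_zmod]; rfl))
  have m : ⁅D.j, D.u 0 0 1⁆ ∈ D.U := by
    rw [commutatorElement_def, D.j_conj_u]; exact mul_mem (D.u_mem_U ..) (inv_mem (D.u_mem_U ..))
  refine D.mem_B_of_conj m (fun k => one_ne_zero (D.j_conj_u_eq.1 (mul_inv_eq_one.1 k)).2) ?_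
  rw [← mem_cent.1 hg _ (commutator_mem_commutator (mem_top _) (mem_top _)), mul_inv_cancel_right]
  exact D.U_le_B m

theorem inv_of (sq : s * s = 1) (o : Odd (♯V)) (n : s ∈ 𝐍 V) (c : ∀ y ∈ V, y * s = s * y → y = 1) (hx : x ∈ V) :
    s * x * s⁻¹ = x⁻¹ := by
  obtain ⟨y, hy, k, z, hz, rfl⟩ := Suz.exists_cent_mul_inv sq o (fun x => conj_mem_of_norm n) hx
  rw [c y hy k.symm, one_mul]; exact hz.2

/-- Ree outcome -/
structure PR (p : ℕ) (U Q : Ω → Subgroup G) : Prop where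
  ar : AR p U
  nc : NC U
  cG : Nat.card G = 1512
  ree : ∃ (K : Type) (_ : Field K) (_ : Fintype K), Fintype.card K = 3 ∧ Nonempty (G ≃* Lie.twistedG2 K 1)
  soc : ∃ M : Subgroup G, M ⊴ ⊤ ∧ M ≠ ⊥ ∧ (∀ N : Subgroup G, N ⊴ ⊤ → N ≠ ⊥ → M ≤ N) ∧
    (∀ a W, U a ≤ W → W ≤ Q a → stabilizer G a ≤ 𝐍 W → Cyc W → W ≤ M) ∧
    ∃ (F : Type) (_ : Field F) (_ : Fintype F), Fintype.card F = 8 ∧ Nonempty (M ≃* PSL(2, F))

namespace CT
variable (h : CT p U Q)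
include h

theorem r_q (T : TRd Q Set.univ s pt π) : Fintype.card F = p := by
  have R := h.co.rs
  have T' : TLd Q (FE Ω s) pt π := T.T.congr (Set.univ_inter _)
  have sD : s ∈ D2 G (pt 1 0) (pt 0 1) := ⟨T'.ma, T'.mb⟩
  rcases inf_eq_bot_or_le_of_prime (h.pr (pt 1 0)) (𝐂₁ s) with k | k
  swap
  · exact h.q_eq T' fun x hx => cent_St (mem_cent1.1 (k hx))
  obtain ⟨u, hu, u1⟩ := h.ex (pt 1 0)
  have r : RE Q (pt 1 0) (pt 0 1) u := ⟨T'.ab, h.lq _ hu, u1⟩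
  have i := R.mu_invt r sD (inv_of T.iv.sq (odd_mono (R.odd _) (h.lq _)) (h.nm sD.1)
    (fun y hy c => eq_one_of_mem_bot k ⟨hy, mem_cent1.2 c⟩) hu)
  have c := mul_inv_eq_iff_eq_mul.1 (T.uq _ (h.co.mem _) (conj_D2 (.inr ⟨R.mu_ab r, R.mu_ba r⟩) sD) (T.iv.conj _))
  rw [← c, mul_inv_cancel_right, ← mul_eq_one_iff_eq_inv] at i
  obtain ⟨j, e⟩ := T'.an_of R (T'.s1_two R T.q3 (cent_St c) (two_of_sq i)) (R.mu_ab r) (R.mu_ba r)
  have d := small (F := F) (k := (p - 1) * 2) fun a a0 => by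
    have b0 := pow_ne_zero (p - 1) a0
    have h1 := R.mu_comm r (T'.hT_D b0) (by
      rw [← hT_pow a0, map_pow]; exact (mem_cent.1 (pw h.hp (h.card _) (h.nm (T'.hT_D a0).1)) u hu).symm)
    rw [T'.an_hT R e b0, mul_left_inj, ← mul_eq_one_iff_eq_inv] at h1
    have h2 := (T'.sc_one ((T'.sc_hT b0).mul (T'.sc_hT b0))).1 (h1 ▸ one_mem _)
    rw [pow_mul]
    refine (mul_self_eq_one_iff.1 h2).resolve_right fun k => ?_
    have := (neg_one_sq T'.two).1 ⟨_, k.symm.trans (pow_two _)⟩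
    have := T.q3
    omega
  obtain ⟨j, e⟩ := h.dv ((Set.ncard_univ Ω).symm.trans T.card)
  have := h.hp.two_le
  have := Nat.le_of_dvd (by omega) d
  have := Fintype.card_pos (α := F)
  rcases j with _ | _ | j
  · omega
  · omega
  · rw [mul_add, mul_add] at e; omega

theorem fix (hu : u ∈ U a) (u1 : u ≠ 1) (c : g * u = u * g) : g • a = a := by_contra fun n =>
  u1 (h.co.rs.semi (h.lq a hu) n (comm_smul c (h.le a hu)))

theorem tr (nr : ¬ EqF.Reg G Ω) (T : TR Q Set.univ) : PR p U Q := by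
  have R := h.co.rs
  obtain ⟨E, _, _, s, pt, π, T⟩ := T
  have T' : TLd Q (FE Ω s) pt π := T.T.congr (Set.univ_inter _)
  have one : ∀ t, Iv t → ∃ g, g * s * g⁻¹ = t := fun t i => let ⟨g, _, e⟩ := T.one t (h.co.mem t) i; ⟨g, e⟩
  have qp := h.r_q T
  obtain ⟨q3, M, nM, ne, mn, cM, si, c504, k⟩ := split ⟨⟨h.co, nr, fun t i => by
    obtain ⟨g, rfl⟩ := one t i
    rw [ncard_FE_conj]; exact T'.two_lt.ne'⟩, T', T.z1, T.iv, fun y d i _ => T.uq y (h.co.mem y) d i⟩ (qp ▸ h.hp)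
  obtain rfl : p = 3 := qp.symm.trans q3
  have n28 : Nat.card Ω = 28 := by rw [← Set.ncard_univ, T.card, q3]; rfl
  replace k : ∀ t, Iv t → ∀ y ∈ M, y * t = t * y → y * y = 1 := fun t i y hy c => by
    obtain ⟨g, rfl⟩ := one t i
    obtain ⟨y, rfl⟩ := ex_conj g y
    rw [conj_mul, k y (by simpa [mul_assoc] using nM.conj_mem' (mem_top g) hy) (comm_conj.1 c), mul_one, mul_inv_cancel]
  obtain ⟨F, _, _, hF⟩ := Perm.exists_field_card p2 (show 1 ≤ 3 by decide)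
  obtain ⟨e⟩ := Cfsg.Agent.S1011.result c504 (F := F) hF
  haveI := normalIn_top.1 nM
  obtain ⟨φ, iφ, hφ⟩ := aut8 cM e
  have cD : ∀ {a b}, a ≠ b → ♯(D2 G a b) = 2 := fun n => by
    have d := card_aut8 hF ▸ card_dvd_of_injective φ iφ
    rw [h.toT2.card T'.ab, n28] at d
    rw [h.toT2.card_D T'.ab n]
    exact Nat.dvd_antisymm (Nat.dvd_of_mul_dvd_mul_right (by decide) d)
      (T.iv.orderOf ▸ orderOf_dvd_card' (H := D2 G _ _) ⟨T'.ma, T'.mb⟩)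
  have cG : Nat.card G = 1512 := by rw [h.toT2.card T'.ab, cD T'.ab, n28]
  have sD : ∀ {a b}, a ≠ b → ∀ g ∈ D2 G a b, g * g = 1 := fun n g hg => by
    rw [← pow_two, ← cD n]; exact congrArg Subtype.val (pow_card_eq_one' (x := (⟨g, hg⟩ : D2 G _ _)))
  have eD : ∀ {a b}, a ≠ b → ∃ s ∈ D2 G a b, Iv s := fun n => exists_iv (by rw [cD n]; decide)
  have iM : ∀ x, x * x = 1 → x ∈ M := fun x e => h.co.two_mem nM ne (two_of_sq e)
  have S : ∀ a, ♯(Q a) = 3 ^ 3 ∧ Syl 3 (Q a) ⊤ := fun a => let ⟨_, n⟩ := h.co.exists_ne a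
    h.syl n28 n fun g hg => ⟨2, by decide, (pow_two g).trans (sD n g hg)⟩
  have UM : ∀ a, U a ≤ M := fun a u hu => by
    haveI : Fact (Nat.Prime 3) := ⟨h.hp⟩
    have S1 := (hall_subgroupOf ((S a).2.normal_inf nM) le_rfl).map e.toMonoidHom
    rw [subgroupOf_self, map_top_of_surjective _ e.surjective] at S1
    obtain ⟨P, hP⟩ := S1.exists_sylow_top
    obtain ⟨m, hm⟩ := Perm.inner_psl (k := 1) (by decide) P (by rw [← Nat.card_congr e.toEquiv, c504]; decide) (β := φ u)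
      (by rw [← map_pow, pow_one, ← h.card a, show u ^ _ = 1 from
        congrArg Subtype.val (pow_card_eq_one' (x := (⟨u, hu⟩ : U a))), map_one]) fun x hx => by
        obtain ⟨x, hy, rfl⟩ : x ∈ ((M ⊓ Q a).subgroupOf M).map e.toMonoidHom := hP ▸ hx
        exact (hφ u x).trans (congrArg e (Subtype.ext (mul_inv_eq_iff_eq_mul.2 (mem_cent.1 (h.cQ a hu) _ hy.2).symm)))
    obtain ⟨m, rfl⟩ := e.surjective m
    have := eq_one_of_mem_bot cM (x := (m : G)⁻¹ * u) (mem_cent.2 fun x hx => by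
      have := hm (e ⟨x, hx⟩)
      rw [hφ, ← map_mul, ← map_inv, ← map_mul, e.injective.eq_iff] at this
      have : u * x * u⁻¹ = m * x * (m : G)⁻¹ := congrArg Subtype.val this
      rw [mul_assoc, ← inv_mul_cancel_right (u * x) u, this]; group)
    exact inv_mul_eq_one.1 this ▸ m.2
  have nc : ∀ {a t u}, Iv t → u ∈ U a → u * t = t * u → u = 1 := fun i hu c =>
    R.one_of_sq (h.lq _ hu) (k _ i _ (UM _ hu) c)
  have FM : ∀ a b, a ≠ b → U a ⊔ U b = M := fun a b n => by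
    obtain ⟨s, d, i⟩ := eD n
    have lF := sup_le (UM a) (UM b)
    have nF : zpowers s ≤ 𝐍 (U a ⊔ U b) := norm_sup (zpowers_le.2 (h.nm d.1)) (zpowers_le.2 (h.nm d.2))
    have lH := sup_le lF (zpowers_le.2 (iM s i.sq))
    by_cases eH : U a ⊔ U b ⊔ zpowers s = M
    · exact lF.antisymm (subgroupOf_eq_top.1 ((eH ▸ normalIn_sup_left nF).normal.eq_bot_or_eq_top.resolve_left fun z =>
        ne_bot_of_prime_card (h.pr a) (le_bot_iff.1 ((le_inf le_sup_left (UM a)).trans (disjoint_iff_inf_le.1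
          (subgroupOf_eq_bot.1 z))))))
    have sH : Sol (U a ⊔ U b ⊔ zpowers s) := map_subgroupOf lH ▸ ((sol_map_iff e.injective).1
      (((Cfsg.Agent.S0810.result hF).2 (.inl ⟨3, h.hp, rfl⟩)).2.2 _ fun z => eH (lH.antisymm (subgroupOf_eq_top.1
        (map_injective e.injective (z.trans (map_top_of_surjective e.toMonoidHom e.surjective).symm)))))).map _
    obtain ⟨r, V, hr, V1, nV, -, aV⟩ := sH.exists_abelem_norm (A := ⊥) (ne_bot_of_mem (mem_sup_right (mem_zpowers s)) i.ne) bot_le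
    have iv : ∀ t ∈ U a ⊔ U b ⊔ zpowers s, Iv t → ∀ v ∈ V, t * v * t⁻¹ = v⁻¹ := fun t ht j v hv => by
      by_cases r2 : r = 2
      · subst r2
        obtain ⟨W, hW, sq, -⟩ := T.syl
        obtain ⟨g, -, l⟩ := hW.syl_cj_le (K := V ⊔ zpowers t) (fun x _ => h.co.mem x)
          (aV.pi.sup (two_of_sq j.sq).zpowers (.inr (zpowers_le.2 (nV.norm ht))))
        rw [← (abel_cj.1 ((Hk.abel_of_sq sq).mono l)).mul_comm (mem_sup_left hv) (mem_sup_right (mem_zpowers t)),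
          mul_inv_cancel_right, ← mul_eq_one_iff_eq_inv, ← pow_two, aV.pow v hv]
      have o := Nat.odd_iff.2 (Nat.two_dvd_ne_zero.1 ((aV.pi.of_single_ne r2).not_dvd' p2 rfl))
      exact inv_of j.sq o (nV.norm ht) (fun y hy c => by_contra fun y1 =>
        Iv.not_mem ⟨y1, k t j y (lH (nV.le hy)) c⟩ o hy) hv
    have key : ∀ c, U c ≤ U a ⊔ U b → s • c = c → ∃ w ∈ U c, w ≠ 1 ∧ ∀ v ∈ V, v * w = w * v := fun c l f => by
      obtain ⟨u, hu, u1⟩ := h.ex c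
      have m := mem_sup_right (S := U a ⊔ U b) (mem_zpowers s)
      have m' := mem_sup_left (T := zpowers s) (l hu)
      refine ⟨s * (u * s * u⁻¹), ?_, fun z => u1 (nc i hu ?_), fun v hv => ?_⟩
      · simpa only [i.inv, mul_assoc] using mul_mem (conj_mem_of_norm (h.nm f) hu) (inv_mem hu)
      · exact mul_inv_eq_iff_eq_mul.1 ((inv_eq_of_mul_eq_one_right z).symm.trans i.inv)
      · rw [eq_comm, ← mul_inv_eq_iff_eq_mul, mul_inv_rev, show s * (u * s * u⁻¹) * v * ((u * s * u⁻¹)⁻¹ * s⁻¹) =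
          s * (u * s * u⁻¹ * v * (u * s * u⁻¹)⁻¹) * s⁻¹ by group, iv _ (mul_mem (mul_mem m' m) (inv_mem m')) (i.conj u) v hv,
          iv s m i _ (inv_mem hv), inv_inv]
    obtain ⟨v, hv, v1⟩ := exists_mem_ne_one V1
    obtain ⟨w, hw, w1, c⟩ := key a le_sup_left d.1
    obtain ⟨w', hw', w1', c'⟩ := key b le_sup_right d.2
    exact absurd (nc ⟨v1, sD n v ⟨h.fix hw w1 (c v hv), h.fix hw' w1' (c' v hv)⟩⟩ hw (c v hv).symm) w1
  obtain ⟨f⟩ := iso8 cM hF e cG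
  obtain ⟨f'⟩ := ree8 hF
  refine ⟨⟨rfl, n28, fun u e => ?_, fun a b n u e => FM a b n ▸ iM u e, fun a b c n => FM a b n ▸ UM c⟩, fun a N nN N1 l => ?_,
    cG, ⟨ZMod 3, _, _, rfl, ⟨f.trans f'.symm⟩⟩, M, nM, ne, mn, fun a W l l' n c x hx => ?_, F, _, _, hF, ⟨e⟩⟩
  · by_cases u1 : u = 1
    · exact ⟨pt 1 0, by rw [u1, one_smul]⟩
    obtain ⟨g, rfl⟩ := one u ⟨u1, e⟩
    exact ⟨_, conj_smul T'.ma g⟩
  all_goals
    obtain ⟨b, n⟩ := h.co.exists_ne a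
    obtain ⟨s, d, i⟩ := eD n
  · obtain ⟨u, hu, u1⟩ := h.ex a
    exact u1 (nc i hu (mem_cent.1 (l ⟨mn N nN N1 (iM s i.sq), d.1⟩) u hu))
  refine h.co.real nM ne (inv_of i.sq (odd_mono (R.odd a) l') (‹𝐒 a ≤ _› d.1) (fun y hy e => by_contra fun y1 => ?_) hx)
  obtain ⟨u, hu, u1⟩ := exists_mem_ne_one (c.inf_ne_bot ((S a).2.pi.le l') l (inf_le_left (b := 𝐂₁ s))
    (ne_bot_of_prime_card (h.pr a)) (ne_bot_of_mem ⟨hy, mem_cent1.2 e⟩ y1))
  exact u1 (nc i hu.1 (mem_cent1.1 hu.2.2))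

end CT

end CF.Cy.Af
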