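import Cfsg.Agent.TsY.CyG

/-! Doubly transitive groups with a normal subgroup of odd prime order in the point stabiliser: tori of odd order. -/

set_option autoImplicit false
set_option linter.unusedSectionVars false

namespace CF.Cy

open MulAction Subgroup Cfsg CF.BG CF.Bender CF.ZD CF.Tw
open CF.Hk (St Pt PB)
open scoped commutatorElement

universe u v

variable {G : Type u} {Ω : Type v} [Group G] [Finite G] [MulAction G Ω] [Finite Ω]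
variable {p r : ℕ} {U : Ω → Subgroup G} {A E H K N P T W X Y : Subgroup G} {Δ Λ : Set Ω} {a b c d e : Ω}
  {f g k s t t' u w x y z κ : G}

local notation "𝐒" => MulAction.stabilizer G

/-- the blocks are lines of centreless groups -/
structure LZ (p : ℕ) (U : Ω → Subgroup G) : Prop extends LC p U where
  z1 : ∀ a b z w, LN p U a b z w → z = 1

namespace LZ
variable (h : LZ p U)
include h

theorem ln1 (n : a ≠ b) : ∃ w, LN p U a b 1 w := let ⟨z, w, l⟩ := h.ln a b n; ⟨w, h.z1 a b z w l ▸ l⟩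

theorem five : 5 ≤ p := h.p5.resolve_right fun k =>
  let ⟨a, _, b, _, n⟩ := Ko.exists_pair (Δ := (Set.univ : Set Ω)) (by have := h.big; rw [Set.ncard_univ]; omega)
  let ⟨w, l⟩ := h.ln1 n; (k a b 1 w l).1 rfl

theorem FK (n : a ≠ b) (hy : y ∈ U a ⊔ U b) (k : y ∈ 𝐂 (U a ⊔ U b)) : y = 1 := let ⟨_, l⟩ := h.ln1 n; (l.uq y hy k).elim id id

theorem three (n : a ≠ b) (fa : f • a = a) (fb : f • b = b) (hc : c ∈ Bl U a b) (m : c ≠ a) (m' : c ≠ b) (fc : f • c = c) :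
    f ∈ 𝐂 (U a) := by
  obtain ⟨x, hx, rfl⟩ := h.on1 n hc m
  exact h.cent_of hx (fun e => m' (by rw [e, one_smul])) (h.comm3 hx n fa fb fc)

theorem sub1 (n : a ≠ b) (le : X ≤ 𝐂 (U a ⊔ U b)) (x1 : X ≠ ⊥) (t : TT (𝐂 X) (Fx Ω X)) : Fx Ω X ⊆ Bl U a b :=
  let ⟨_, l⟩ := h.ln1 n
  (h.lsub l (h.sb_fx n le t le_rfl) (h.fx_ne x1) (h.bl_fx le ptl) (h.bl_fx le ptr)).resolve_right fun k => k.1 (one_mem _)

variable (hr : r.Prime) (rd : r ∣ p - 1) (r2 : r ≠ 2)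
include hr rd r2

omit r2 in
theorem rp : r ≠ p := fun e => by
  have := Nat.le_of_dvd (by have := h.p3; omega) rd
  have := h.p3
  omega

theorem ol (f5 : f ^ r = 1) (nf : f ∉ 𝐂 (U a)) (sf : s * f * s⁻¹ = f⁻¹) (fa : f • a = a) (fc : f • c = c) : c = a ∨ c = s • a := by
  have fp := piElt_of_pow_eq_one hr f5
  have nf : ∀ b, f ∉ 𝐂 (U b) := fun b k => nf (h.kl k fa)
  have key : ∀ b c, b ≠ c → f • b = b → f • c = c → (∃ t, t * f * t⁻¹ = f⁻¹ ∧ t • b = c) ∨ ∃ κ ∈ 𝐂₁ f, PiElt {r} κ ∧ κ • b = b ∧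
      κ • c = c ∧ ∀ d, f • d = d → κ • d = d → d = b ∨ d = c := fun b c n fb fc => by
    obtain ⟨w, l⟩ := h.ln1 n
    obtain ⟨f', hf, fD, e, m⟩ := l.tor r hr rd r2
    obtain ⟨φ, hφ, k⟩ := cyc_pow (h.prime b) hr (h.norm fD.1) (h.norm fb) (e ▸ one_mem _) (f5 ▸ one_mem _) m
    have φF := zpowers_le.2 hf hφ
    by_cases k1 : f * φ⁻¹ = 1
    · exact .inl ⟨w, l.inv' f (mul_inv_eq_one.1 k1 ▸ φF) (mem_D2.2 ⟨fb, fc⟩), l.wa⟩
    have k := h.k0 k (fmul fc (finv (fzp fD.2 hφ)))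
    have c1 : Commute φ (f * φ⁻¹) := mem_cent.1 k φ φF
    have c2 : Commute f φ := by simpa using c1.symm.mul_left (Commute.refl φ) |>.symm |>.symm
    have kp : PiElt {r} (f * φ⁻¹) := fp.mul ((piElt_of_pow_eq_one hr e).of_mem_zpowers hφ).inv c2.inv_right
    exact .inr ⟨_, mem_cent1.2 ((Commute.refl f).mul_left c2.symm.inv_left), kp, h.K_a k, h.K_b k, fun d fd kd => by_contra fun m =>
      nf b (h.three n fb fc ((h.li h.z1 hr (h.rp hr rd)).elt n kp k1 k kd) (not_or.1 m).1 (not_or.1 m).2 fd)⟩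
  have ni : ∀ b t, f • b = b → t * f * t⁻¹ = f⁻¹ → t • b ≠ b := fun b t fb e tb => nf b (inv_mem_iff.1
    (GW.mem_of_sq_mem (GW.odd_iff_piElt.2 (fp.inv.of_single' r2)) (e ▸ h.der' tb fb)))
  have iv : ∀ {t y}, y ∈ 𝐂₁ f → t * f * t⁻¹ = f⁻¹ → (y⁻¹ * t) * f * (y⁻¹ * t)⁻¹ = f⁻¹ := fun {t y} hy e => by
    rw [show y⁻¹ * t * f * (y⁻¹ * t)⁻¹ = y⁻¹ * (t * f * t⁻¹) * y by group, e, mul_assoc,
      ← (show Commute y f from mem_cent1.1 hy).inv_right.eq, inv_mul_cancel_left]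
  have sY : s ∈ 𝐍 (𝐂₁ f) := by
    rw [← cj_eq_self, cj_cent1, sf, ← cent_zpowers, zpowers_inv, cent_zpowers]
  have fs : ∀ b : Ω, f • b = b → f • s • b = s • b := fun b fb => by have := finv (conj_smul fb s); rwa [sf, inv_inv] at this
  have fix : ∀ b : Ω, f • b = b → ∀ y ∈ 𝐂₁ f, y • b = b := fun b fb y hy => by_contra fun n => by
    have fy : ∀ b : Ω, f • b = b → ∀ y ∈ 𝐂₁ f, f • y • b = y • b := fun b fb y hy => comm_smul (mem_cent1.1 hy) fb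
    rcases key b _ (Ne.symm n) fb (fy b fb y hy) with ⟨t, e, k⟩ | ⟨κ, hκ, k5, kb, kc, uq⟩
    · exact ni b _ fb (iv hy e) (by rw [mul_smul, k, inv_smul_smul])
    have inv : ∀ b : Ω, ∀ x ∈ {x | ∃ g ∈ 𝐂₁ f, g • b = x}, κ • x ∈ {x | ∃ g ∈ 𝐂₁ f, g • b = x} := by
      rintro b _ ⟨g, hg, rfl⟩; exact ⟨_, mul_mem hκ hg, mul_smul _ _ _⟩
    have h1 := modp hr k5 (inv b)
    have h2 := modp hr k5 (inv (s • b))
    have e1 : {x | x ∈ {x | ∃ g ∈ 𝐂₁ f, g • b = x} ∧ κ • x = x} = {b, y • b} := Set.ext fun x =>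
      ⟨by rintro ⟨⟨g, hg, rfl⟩, k⟩; exact uq _ (fy b fb g hg) k, by
        rintro (rfl | rfl)
        exacts [⟨⟨1, one_mem _, one_smul _ _⟩, kb⟩, ⟨⟨y, hy, rfl⟩, kc⟩]⟩
    have e2 : {x | x ∈ {x | ∃ g ∈ 𝐂₁ f, g • s • b = x} ∧ κ • x = x} = ∅ := Set.eq_empty_of_forall_notMem (by
      rintro _ ⟨⟨g, hg, rfl⟩, k⟩
      rcases uq _ (fy _ (fs b fb) g hg) k with e | e
      · exact ni b _ fb (iv (inv_mem hg) sf) (by rwa [inv_inv, mul_smul])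
      · exact ni b _ fb (iv (mul_mem (inv_mem hg) hy) sf) (by rw [mul_smul, inv_smul_eq_iff, mul_smul, ← e, inv_smul_smul]))
    have e3 : {x | ∃ g ∈ 𝐂₁ f, g • s • b = x} = (s • ·) '' {x | ∃ g ∈ 𝐂₁ f, g • b = x} := Set.ext fun x =>
      ⟨by rintro ⟨g, hg, rfl⟩; exact ⟨_, ⟨_, conj_mem_of_norm' sY hg, rfl⟩, by simp [mul_smul]⟩, by
        rintro ⟨_, ⟨g, hg, rfl⟩, rfl⟩; exact ⟨_, conj_mem_of_norm sY hg, conj_smul rfl s⟩⟩
    rw [e1, Set.ncard_pair (Ne.symm n)] at h1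
    rw [e2, e3, Set.ncard_image_of_injective _ (MulAction.injective s), Set.ncard_empty, h1] at h2
    exact r2 ((Nat.prime_dvd_prime_iff_eq hr Nat.prime_two).1 (Nat.dvd_of_mod_eq_zero h2))
  refine or_iff_not_imp_left.2 fun n => ?_
  rcases key a c (Ne.symm n) fa fc with ⟨t, e2, rfl⟩ | ⟨κ, hκ, -, -, -, uq⟩
  · have := fix a fa (s⁻¹ * t) (mem_cent1.2
      (mul_inv_eq_iff_eq_mul.1 (by rw [show s⁻¹ * t * f * (s⁻¹ * t)⁻¹ = s⁻¹ * (t * f * t⁻¹) * s by group, e2, ← sf]; group)))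
    rwa [mul_smul, inv_smul_eq_iff] at this
  · exact ((uq _ (fs a fa) (fix _ (fs a fa) κ hκ)).resolve_left (ni a s fa sf)).symm

theorem tor (n : a ≠ b) : ∃ f ∈ U a ⊔ U b, f • a = a ∧ f • b = b ∧ f ^ r = 1 ∧ f ≠ 1 ∧ ∀ c : Ω, f • c = c → c = a ∨ c = b :=
  let ⟨_, l⟩ := h.ln1 n
  let ⟨f, hf, k, e, m⟩ := l.tor r hr rd r2
  ⟨f, hf, k.1, k.2, e, fun e => m (e ▸ one_mem _), fun _ fc => l.wa ▸ h.ol hr rd r2 e m (l.inv' f hf k) k.1 fc⟩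

theorem line (n : a ≠ b) (hκ : κ ∈ 𝐂 (U a ⊔ U b)) (k1 : κ ≠ 1) (e : κ • d = d) : d ∈ Bl U a b := by
  have le := zpowers_le.2 hκ
  have la := le.trans (cent_anti le_sup_left)
  refine h.sub1 n le (ne_bot_of_mem (mem_zpowers κ) k1) (tt_of ((h.bl_big n).trans_le (Set.ncard_le_ncard (h.bl_fx le)))
    (fun _ hg _ => fx_inv (cent_le_norm _ hg)) fun c hc d hd d' hd' n n' => ?_) (fx_zp.2 e)
  obtain ⟨g, hg, e⟩ := gleason (N := 𝐂 (zpowers κ) ⊓ 𝐒 c) (Λ := Fx Ω (zpowers κ) \ {c}) hr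
    (fun g hg d hd => ⟨fx_inv (cent_le_norm _ hg.1) hd.1, ne_of_fix hg.2 hd.2⟩) (fun d hd => by
      obtain ⟨f, hf, fc, fd, e, -, k⟩ := h.tor hr rd r2 (Ne.symm hd.2)
      have e1 : (Fx Ω (zpowers κ) \ {c}) ∩ Fx Ω (zpowers f) = {d} := Set.ext fun y =>
        ⟨fun hy => (k y (fx_zp.1 hy.2)).resolve_left hy.1.2, by rintro rfl; exact ⟨hd, fx_zp.2 fd⟩⟩
      exact ⟨zpowers f, zpowers_le.2 ⟨cent_symm (h.fx_K la hc hd.1) hf, fc⟩, (piElt_of_pow_eq_one hr e).zpowers,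
        by rw [e1, Set.ncard_singleton]; exact hr.not_dvd_one, by rw [e1]; rintro _ rfl; exact ⟨1, one_mem _, one_smul _ _⟩⟩)
    ⟨hd, n⟩ ⟨hd', n'⟩
  exact ⟨g, hg.1, hg.2, e⟩

end LZ

/-- the kernels of the lines are semiregular outside -/
structure LL (p : ℕ) (U : Ω → Subgroup G) : Prop extends LZ p U where
  li' : ∀ (a b d : Ω) (κ : G), a ≠ b → κ ∈ 𝐂 (U a ⊔ U b) → κ ≠ 1 → κ • d = d → d ∈ Bl U a b

namespace LL
variable (h : LL p U)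
include h

theorem line (n : a ≠ b) (c : κ ∈ 𝐂 (U a)) (e : κ • b = b) (k1 : κ ≠ 1) (k : κ • d = d) : d ∈ Bl U a b := h.li' a b d κ n (h.k0 c e) k1 k

theorem eqL (n : a ≠ b) (hc : c ∈ Bl U a b) (m : a ≠ c) : U a ⊔ U c = U a ⊔ U b := h.F_eq n ptl hc m

theorem odd_prod (n : a ≠ b) (m : c ∉ Bl U a b) (ht : t ∈ 𝐂 (U a)) (hu : u ∈ 𝐂 (U a)) (i : Iv t) (j : Iv u)
    (tb : t • b = b) (uc : u • c = c) : Odd (orderOf (t * u)) := Nat.not_even_iff_odd.1 fun v => by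
  obtain ⟨w, hw, o, c1, c2⟩ := Invol.exists_central_invol i.sq j.sq v
  have hw := zpowers_le.2 (mul_mem ht hu) hw
  have n' : a ≠ c := fun e => m (e ▸ ptl)
  have w2 := h.iv_pi (GW.Iv.sq o)
  exact m (h.line n hw (h.fix1 n hw (h.line n ht tb i.ne (comm_smul c1 tb)) w2) (GW.Iv.ne_one o)
    (h.fix1 n' hw (h.line n' hu uc j.ne (comm_smul c2 uc)) w2))

theorem key (n : a ≠ b) (m : c ∉ Bl U a b) (ht : t ∈ 𝐂 (U a ⊔ U b)) (ht' : t' ∈ 𝐂 (U a ⊔ U b)) (i : Iv t) (j : Iv t') :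
    ∃ y ∈ 𝐂 (U a ⊔ U b), ∃ x ∈ U a, y * t * y⁻¹ = t' ∧ y • c = x • c := by
  have n' : a ≠ c := fun e => m (e ▸ ptl)
  have ta := cent_anti le_sup_left ht
  have ta' := cent_anti le_sup_left ht'
  have tb := h.K_b ht
  have tb' := h.K_b ht'
  obtain ⟨g, hg, rfl⟩ := h.tC a b c n.symm n'.symm
  have h1 := (𝐂 (U a)).mul_mem (mul_mem hg ta) (inv_mem hg)
  obtain ⟨u, hu, u2, e⟩ := swap_iv ta h1 i (i.conj g) (h.odd_prod n m ta h1 i (i.conj g) tb (conj_smul tb g))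
  have ua := (ne_of_fix (h.cfix hu) n.symm).symm
  have q := h.eqL n' (h.line n' h1 (conj_smul tb g) (i.conj g).ne (d := u • b) (e ▸ conj_smul tb u)) ua
  have m' : u • b ∉ Bl U a b := fun k => m (le_sup_right.trans (q.symm.trans (h.eqL n k ua)).le)
  have h2 := (𝐂 (U a)).mul_mem (mul_mem hu ta') (inv_mem hu)
  obtain ⟨w, hw, w2, e'⟩ := swap_iv ta h2 i (j.conj u) (h.odd_prod n m' ta h2 i (j.conj u) tb (conj_smul tb' u))
  have hd := mul_mem (inv_mem hu) hw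
  have de : u⁻¹ * w * t * (u⁻¹ * w)⁻¹ = t' := by
    rw [show u⁻¹ * w * t * (u⁻¹ * w)⁻¹ = u⁻¹ * (w * t * w⁻¹) * u by group, e']; group
  obtain ⟨x, hx, e1⟩ := h.on1 n (h.line n ta' tb' j.ne (de ▸ conj_smul tb (u⁻¹ * w))) (ne_of_fix (h.cfix hd) n.symm)
  have nd : (u⁻¹ * w)⁻¹ ∈ 𝐍 (U a ⊔ U (g • b)) := q ▸ h.nrm ua (by rw [h.cfix (inv_mem hd)]; exact ptl) (by
    rw [mul_inv_rev, inv_inv, smul_smul, mul_assoc, u2, mul_one, inv_eq_of_mul_eq_one_right w2]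
    exact h.line ua h2 (conj_smul tb' u) (j.conj u).ne (e' ▸ conj_smul tb w))
  obtain ⟨x', hx', e2⟩ := h.st1 n' (h.cfix hd) (h.smul (inv_mem_iff.1 nd) ptr)
  refine ⟨x⁻¹ * (u⁻¹ * w), h.k0 (mul_mem (h.abel a (inv_mem hx)) hd) (by rw [mul_smul, ← e1, inv_smul_smul]), x⁻¹ * x',
    mul_mem (inv_mem hx) hx', ?_, by rw [mul_smul, mul_smul x⁻¹, e2]⟩
  rw [show x⁻¹ * (u⁻¹ * w) * t * (x⁻¹ * (u⁻¹ * w))⁻¹ = x⁻¹ * (u⁻¹ * w * t * (u⁻¹ * w)⁻¹) * x by group, de, mul_assoc,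
    ← mem_cent.1 ta' x hx, inv_mul_cancel_left]

theorem uniq_iv (n : a ≠ b) (ht : t ∈ 𝐂 (U a ⊔ U b)) (ht' : t' ∈ 𝐂 (U a ⊔ U b)) (i : Iv t) (j : Iv t') : t = t' := by_contra fun ne => by
  obtain ⟨c, m⟩ := h.ex_out n
  have fr : ∀ y ∈ 𝐂 (U a ⊔ U b), y • c = c → y = 1 := fun y hy e => by_contra fun y1 => m (h.li' a b c y n hy y1 e)
  let H : Subgroup G :=
    { carrier := {l | l ∈ U a ⊔ U b ∧ ∃ κ ∈ 𝐂 (U a ⊔ U b), l • c = κ • c}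
      one_mem' := ⟨one_mem _, 1, one_mem _, rfl⟩
      mul_mem' := by
        rintro l l' ⟨hl, κ, hκ, e⟩ ⟨hl', κ', hκ', e'⟩
        exact ⟨mul_mem hl hl', κ' * κ, mul_mem hκ' hκ, by rw [mul_smul, e', smul_smul, mem_cent.1 hκ' l hl, mul_smul, e, mul_smul]⟩
      inv_mem' := by
        rintro l ⟨hl, κ, hκ, e⟩
        exact ⟨inv_mem hl, κ⁻¹, inv_mem hκ, by
          rw [inv_smul_eq_iff, smul_smul, mem_cent.1 (inv_mem hκ) l hl, mul_smul, e, inv_smul_smul]⟩ }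
  have half : ∀ a' b', a' ≠ b' → U a' ⊔ U b' = U a ⊔ U b → U a' ≤ H ∧ ∃ x ∈ U a', x • c ≠ c := fun a' b' n' e => by
    obtain ⟨y, hy, x, hx, e1, e2⟩ := h.key n' (c := c) (show _ ∉ Pts U _ from e ▸ m) (e ▸ ht) (e ▸ ht') i j
    rw [e] at hy
    have x1 : x • c ≠ c := fun k => ne (by simpa [fr y hy (e2.trans k)] using e1)
    exact ⟨h.gen hx (fun k => x1 (by rw [k, one_smul])) ▸ zpowers_le.2 ⟨e ▸ mem_sup_left hx, y, hy, e2.symm⟩, x, hx, x1⟩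
  have all : U a ⊔ U b ≤ H := sup_le (half a b n rfl).1 (half b a n.symm (sup_comm _ _)).1
  obtain ⟨s, L⟩ := h.ln1 n
  have fl : ∀ l ∈ U a ⊔ U b, l • c = c → l = 1 := fun l hl e => by_contra fun l1 => by
    have nm : (U a ⊔ U b) ⊓ 𝐒 c ⊴ U a ⊔ U b := ⟨inf_le_left, le_norm_iff.2 fun g hg k hk =>
      mem_inf.2 ⟨mul_mem (mul_mem hg hk.1) (inv_mem hg), by
        obtain ⟨-, κ, hκ, e⟩ := all (inv_mem hg)
        rw [mem_stabilizer_iff, mul_smul, mul_smul, e, smul_smul k, mem_cent.1 hκ k hk.1, mul_smul, hk.2, ← e, smul_inv_smul]⟩⟩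
    obtain ⟨g, hg, e⟩ := (tt_of (N := U a ⊔ U b) (h.bl_big n) (fun _ hg _ => h.smul' hg) fun c hc d hd d' hd' m m' =>
      let ⟨x, hx, k⟩ := h.reg n L.card hc hd hd' m m'; ⟨x, hc hx, h.self hx, k⟩).trans nm
      (fun k => l1 (h.FK n hl (h.K_of n fun d hd => k hd (mem_inf.2 ⟨hl, e⟩)))) ptl ptr
    obtain ⟨x, hx, x1⟩ := (half a b n rfl).2
    have := cj_le_of_mem (mem_sup_left hg) (le_sup_right : U a ≤ (U a ⊔ U b) ⊓ 𝐒 c ⊔ U a)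
    rw [h.cj, e] at this
    exact x1 (h.U_le L h.five (sup_le le_sup_right this) (le_sup_left.trans nm.norm) hx).2
  have iv : ∀ σ ∈ U a ⊔ U b, σ • a = b → σ * σ = 1 → ∃ τ ∈ 𝐂 (U a ⊔ U b), Iv τ ∧ σ • c = τ • c := fun σ hσ e s2 => by
    obtain ⟨-, τ, hτ, k⟩ := all hσ
    exact ⟨τ, hτ, ⟨fun e1 => n (by rw [← e, fl σ hσ (by rw [k, e1, one_smul]), one_smul]), fr _ (mul_mem hτ hτ) (by
      rw [mul_smul, ← k, smul_smul, ← mem_cent.1 hτ σ hσ, mul_smul, ← k, smul_smul, s2, one_smul])⟩, k⟩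
  obtain ⟨f, fL, fD, -, f1⟩ := L.tor2 h.five
  have sa : (s * f) • a = b := by rw [mul_smul, fD.1, L.wa]
  obtain ⟨τ, hτ, i1, e1⟩ := iv s L.wF L.wa L.w2
  obtain ⟨τ', hτ', i2, e2⟩ := iv _ (mul_mem L.wF fL) sa (by
    rw [← mul_assoc, ← inv_eq_of_mul_eq_one_right L.w2, inv_eq_of_mul_eq_one_right L.w2, mul_eq_one_iff_eq_inv, ← L.inv' f fL fD,
      inv_eq_of_mul_eq_one_right L.w2])
  obtain ⟨y, hy, x, hx, e3, e4⟩ := h.key n m hτ hτ' i1 i2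
  have xL : x ∈ U a ⊔ U b := mem_sup_left hx
  have e5 : y⁻¹ • c = x⁻¹ • c := by
    rw [inv_smul_eq_iff, smul_smul, ← mem_cent.1 hy _ (inv_mem xL), mul_smul, e4, inv_smul_smul]
  have := fl _ (mul_mem (inv_mem (mul_mem (mul_mem (inv_mem xL) L.wF) xL)) (mul_mem L.wF fL)) (by
    rw [mul_smul, inv_smul_eq_iff, e2, ← e3, mul_smul, mul_smul, e5, smul_smul τ, ← mem_cent.1 hτ _ (inv_mem xL), mul_smul, ← e1,
      smul_smul x⁻¹, smul_smul, ← mem_cent.1 hy _ (mul_mem (inv_mem xL) L.wF), mul_smul, e4, ← mul_smul])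
  rw [inv_mul_eq_one] at this
  have x1 := h.semi (inv_mem hx) n (by rwa [← this, mul_smul, mul_smul, h.self hx, L.wa] at sa)
  rw [x1, inv_eq_one.1 x1, one_mul, mul_one] at this
  exact f1 (left_eq_mul.1 this ▸ one_mem _)

theorem trO (a : Ω) : Tr a (𝐎 {2}ᶜ (𝐂 (U a))) := by
  by_cases o : Odd (♯(𝐂 (U a)))
  · exact (O_of_pi (pi_of_odd o)).symm ▸ h.tC a
  obtain ⟨t, ht, i⟩ := exists_iv o
  obtain ⟨c, -, m, tc⟩ := second (Λ := Set.univ) i.sq (Set.ncard_univ Ω ▸ h.ev) (fun _ _ => trivial) trivial (h.cfix ht)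
  exact h.toLC.trO m.symm (h.k0 ht tc) i (fun d => h.line m.symm ht tc i.ne) fun g _ k => h.uniq_iv m.symm k (h.k0 ht tc) (i.conj g) i

end LL

end CF.Cy
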