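import Cfsg.Agent.TsY.CyH
import Cfsg.Agent.BG2.I5
import Cfsg.Agent.BG.Sec3a

/-! Doubly transitive groups with a normal subgroup of odd prime order in the point stabiliser: a transitive nilpotent subgroup. -/

set_option autoImplicit false
set_option linter.unusedSectionVars false

namespace CF.Cy

open MulAction Subgroup Cfsg CF.BG CF.Bender CF.ZD CF.Tw
open scoped commutatorElement

universe u v

variable {G : Type u} {Ω : Type v} [Group G] [Finite G] [MulAction G Ω] [Finite Ω]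
variable {p r : ℕ} {U : Ω → Subgroup G} {A D E H K N P T W X Y : Subgroup G} {Δ Λ : Set Ω} {a b c d e : Ω}
  {f g k s t u w x y z κ : G}

local notation "𝐒" => MulAction.stabilizer G

namespace LL
variable (h : LL p U)
include h

theorem cN (n : a ≠ b) (c : κ ∈ 𝐂 (U a)) (e : κ • b = b) (k1 : κ ≠ 1) : 𝐂₁ κ ≤ 𝐍 (U a ⊔ U b) := fun _ hg =>
  h.nrm n (h.line n c e k1 (comm_smul (mem_cent1.1 hg) (h.cfix c))) (h.line n c e k1 (comm_smul (mem_cent1.1 hg) e))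

theorem triv' (n : a ≠ b) (t : Tr a D) (c : Y ≤ 𝐂 (U a)) (nY : D ≤ 𝐍 Y) (l : Y ≤ 𝐍 (U a ⊔ U b)) (k : PiGrp {p}ᶜ Y) : Y = ⊥ :=
  eq_bot_of_forall fun y hy => h.ff y fun d => by
    by_cases e : d = a
    · exact e ▸ h.cfix (c hy)
    obtain ⟨u, hu, rfl⟩ := t b d n.symm e
    have m := conj_mem_of_norm' (nY hu) hy
    rw [← mul_inv_cancel_left u y, mul_smul, smul_smul _ u, h.fix1 n (c m) (h.smul (l m) ptr) (k.elt m)]

theorem narrow (n : a ≠ b) (t : Tr a D) (c : D ≤ 𝐂 (U a)) (l : U a ≤ D) (hκ : κ ∈ 𝐎 {p} D) (o : orderOf κ = p) (kb : κ • b = b) :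
    Narrow p (𝐎 {p} D) := fun _ => by
  have k1 : κ ≠ 1 := fun e => h.hp.ne_one (by rw [← o, e, orderOf_one])
  have lQ := (O_le {p} D).trans c
  have lA : U a ≤ 𝐎 {p} D := le_O ⟨l, norm_of_cent c⟩ (h.pi a)
  have kN := h.cN n (lQ hκ) kb k1
  obtain ⟨g, ga, gn, gb⟩ : ∃ g : G, g • a = a ∧ g ∈ 𝐍 (𝐎 {p} D ⊓ 𝐍 (U a ⊔ U b)) ∧ g • b ∉ Bl U a b := by
    by_cases e : 𝐎 {p} D ⊓ 𝐍 (U a ⊔ U b) = 𝐎 {p} D
    · obtain ⟨d, hd⟩ := h.ex_out n
      obtain ⟨u, hu, rfl⟩ := t b d n.symm fun e => hd (e ▸ ptl)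
      exact ⟨u, h.cfix (c hu), e.symm ▸ (O_normal _ D).norm hu, hd⟩
    · obtain ⟨g, hg, m⟩ := SetLike.not_le_iff_exists.1 (mt ((O_pi {p} D).nil.eq_of_inf_norm_le inf_le_left) e)
      exact ⟨g, h.cfix (lQ hg.1), hg.2, fun k => m ⟨hg.1, h.nrm n (by rw [h.cfix (lQ hg.1)]; exact ptl) k⟩⟩
  have n' := (ne_of_fix ga n.symm).symm
  have mv : ∀ y ∈ 𝐎 {p} D ⊓ 𝐍 (U a ⊔ U b), ∃ x ∈ U a, x • g • b = y • g • b := fun y hy => h.st1 n' (h.cfix (lQ hy.1)) (h.smul (by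
    rw [← h.cj_F ga rfl, ← cj_norm]; exact cj_mono g inf_le_right ((cj_of_norm gn).ge hy)) ptr)
  have one : ∀ y ∈ 𝐂 (U a), y • b = b → y • g • b = g • b → y = 1 := fun y hy e1 e2 =>
    by_contra fun y1 => gb (h.line n hy e1 y1 e2)
  have E := (elem_one h.hp lA (h.card a)).sup_one (elem_zpowers h.hp hκ o) (zpowers_le.2 (lQ hκ))
    fun k => k1 (h.semi (k (mem_zpowers κ)) n kb)
  refine ⟨_, E, E.le, E.ab, fun B hB ab lE => le_antisymm (fun β hβ => ?_) lE⟩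
  have m : β ∈ 𝐍 (U a ⊔ U b) := kN (mem_cent1.2 (ab.abel.mul_comm hβ (lE (mem_sup_right (mem_zpowers κ)))))
  obtain ⟨x, hx, e⟩ := h.st1 n (h.cfix (lQ (hB hβ))) (h.smul m ptr)
  obtain ⟨x1, h1, e1⟩ := mv κ ⟨hκ, kN (self_mem_cent1 κ)⟩
  obtain ⟨x2, h2, e2⟩ := mv (x⁻¹ * β) (mem_inf.2 ⟨mul_mem (inv_mem (lA hx)) (hB hβ), mul_mem (inv_mem (le_norm_self _ (mem_sup_left hx))) m⟩)
  obtain ⟨j, rfl⟩ := (h.gen h1 fun e => k1 (one κ (lQ hκ) kb (by rw [← e1, e, one_smul]))).ge h2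
  have e3 := fzp (show (x1⁻¹ * κ) • g • b = g • b by rw [mul_smul, ← e1, inv_smul_smul]) (zpow_mem (mem_zpowers _) j)
  rw [(show Commute x1⁻¹ κ from mem_cent.1 (lQ hκ) _ (inv_mem h1)).mul_zpow, inv_zpow, mul_smul, inv_smul_eq_iff] at e3
  have := one ((κ ^ j)⁻¹ * (x⁻¹ * β)) (mul_mem (inv_mem (zpow_mem (lQ hκ) j)) (mul_mem (h.abel a (inv_mem hx)) (lQ (hB hβ))))
    (fmul (finv (fzp kb (zpow_mem (mem_zpowers κ) j))) (by rw [mul_smul, ← e, inv_smul_smul])) (by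
      rw [mul_smul, ← e2, inv_smul_eq_iff]; exact e3.symm)
  rw [inv_mul_eq_one, eq_inv_mul_iff_mul_eq] at this
  exact this ▸ mul_mem_sup hx (zpow_mem (mem_zpowers κ) j)

theorem commF (hr : r.Prime) (r2 : r ≠ 2) (n : a ≠ b) (c5 : ♯(zpowers f) = r) (fb : f • b = b) (fx : ∀ c : Ω, f • c = c → c = a ∨ c = b)
    (t : Tr a D) (c : D ≤ 𝐂 (U a)) (l : U a ≤ D) (nD : f ∈ 𝐍 D) (o : Odd (♯D)) (k : PiGrp {r}ᶜ D) : ⁅D, zpowers f⁆ ≤ 𝐅 D := by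
  have nf := zpowers_le.2 nD
  by_cases e : 𝐅 D ⊓ 𝐂 (zpowers f) = ⊥
  · exact comm_le_F_of_prime (c5 ▸ hr) nf ((piGrp_of_card_prime hr c5).coprime k) (sol_of_odd o) o e
  obtain ⟨q, hq, d⟩ := exists_prime_dvd_card e
  obtain ⟨κ, ⟨hκ, kf⟩, ko⟩ := exists_mem_orderOf_eq hq d
  have k1 : κ ≠ 1 := fun e => hq.ne_one (by rw [← ko, e, orderOf_one])
  have kc := c (F_le D hκ)
  have kb : κ • b = b := (fx _ (comm_smul (mem_cent.1 kf f (mem_zpowers f)).symm fb)).resolve_left (ne_of_fix (h.cfix kc) n.symm)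
  have kN := h.cN n kc kb k1
  have kQ : κ ∈ 𝐎 {q} D := le_O_of_le_F (zpowers_le.2 hκ) (piElt_of_pow_eq_one hq (ko ▸ pow_orderOf_eq_one κ)).zpowers (mem_zpowers κ)
  obtain rfl : q = p := by_contra fun m => (O_pi {q} D).center_ne_bot (ne_bot_of_mem kQ k1) (h.triv' n t
    (inf_le_left.trans ((O_le _ _).trans c)) ((O_normal _ D).norm.trans (norm_center _))
    ((inf_le_right.trans (cent_le_cent1 kQ)).trans kN) ((O_pi {q} D).inf_left.of_single_ne m))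
  have z := (sol_of_odd o).cent_O_le (h.triv' n t ((O_le _ _).trans c) (O_normal _ D).norm
    (((O_compl_cent_O {q} D).trans (cent_le_cent1 kQ)).trans kN) (O_pi _ D))
  have oR : Odd (♯(D ⊔ zpowers f)) := (o.mul (c5 ▸ hr.odd_of_ne_two r2)).of_dvd_nat (card_sup_dvd (.inr nf))
  have k := (h.narrow n t c l kQ ko kb).der_relIndex_cent (O_pi _ D) (o.of_dvd_nat (card_dvd (O_le _ D)))
    (sup_le (O_normal _ D).norm (nf.trans (norm_O _ D))) (sol_of_odd oR) oR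
  have lD : ⁅D ⊔ zpowers f, D ⊔ zpowers f⁆ ≤ D := der_le_of (abel_zpowers f) nf le_rfl
  rw [← inf_relIndex_right] at k
  exact ((commutator_mono le_sup_left le_sup_right).trans (le_O ⟨lD, le_sup_left.trans (der_normal _).norm⟩
    (((O_pi {q} D).le ((le_inf (inf_le_right.trans lD) inf_le_left).trans z)).of_relIndex k))).trans (O_le_F q D)

end LL

theorem LZ.alpha (h : LZ p U) (hr : r.Prime) (rd : r ∣ p - 1) (r2 : r ≠ 2) : Out G Ω := by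
  have L : LL p U := ⟨h, fun _ _ _ _ => h.line hr rd r2⟩
  obtain ⟨a, -, b, -, n⟩ := Ko.exists_pair (Δ := (Set.univ : Set Ω)) (by have := h.big; rw [Set.ncard_univ]; omega)
  obtain ⟨f, -, fa, fb, f5, f1, fx⟩ := h.tor hr rd r2 n
  have fp := piElt_of_pow_eq_one hr f5
  have rp := h.rp hr rd
  have c := O_le {2}ᶜ (𝐂 (U a))
  have l := h.leO h.p2.symm (h.abel a) le_rfl
  have t := h.trD hr rp (h.li h.z1 hr rp) (fun d => by
    have := modp (Λ := {c | c ≠ a}) hr fp fun c hc => ne_of_fix fa hc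
    rw [show {x | x ∈ {c | c ≠ a} ∧ f • x = x} = {b} from Set.ext fun c =>
      ⟨fun k => (fx c k.2).resolve_left k.1, by rintro rfl; exact ⟨n.symm, fb⟩⟩, Set.ncard_singleton,
      Nat.mod_eq_zero_of_dvd (by rwa [← Ks.ncard_ne a] at d), Nat.mod_eq_of_lt hr.one_lt] at this
    omega) l c (sol_of_odd (GW.odd_O _)) (L.trO a)
  replace l := h.leO rp l c
  have nD : 𝐒 a ≤ 𝐍 (𝐎 {r}ᶜ (𝐎 {2}ᶜ (𝐂 (U a)))) := le_norm_O _ (le_norm_O _ (h.nC a).norm)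
  have o := (GW.odd_O (𝐂 (U a))).of_dvd_nat (card_dvd (O_le {r}ᶜ _))
  have k := O_pi {r}ᶜ (𝐎 {2}ᶜ (𝐂 (U a)))
  replace c := (O_le {r}ᶜ _).trans c
  generalize 𝐎 {r}ᶜ (𝐎 {2}ᶜ (𝐂 (U a))) = D at t l nD o k c
  refine h.out_of h.ev ⟨fun g hg => h.cfix (c (F_le D hg)), le_norm_F nD⟩ (F_nil D) (t.to n.symm fun x hx => ?_)
  obtain ⟨y, hy, κ, hκ, rfl⟩ := (mem_sup_norm' (inf_le_left.trans (norm_comm_left D _))).1 ((comm_sup_inf_cent (zpowers_le.2 (nD fa))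
    (fp.zpowers.coprime k) (.inr (sol_of_odd o))).ge hx)
  exact ⟨y, L.commF hr r2 n (by rw [Nat.card_zpowers, orderOf_eq_of_pow hr f5 f1]) fb fx t c l (nD fa) o k hy, by
    rw [mul_smul, (fx _ (comm_smul (mem_cent.1 hκ.2 f (mem_zpowers f)).symm fb)).resolve_left (ne_of_fix (h.cfix (c hκ.1)) n.symm)]⟩

end CF.Cy
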