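import Cfsg.Agent.TsY.CyJ
import Cfsg.Agent.S3402

/-! Doubly transitive groups: degrees `2 mod 4`. -/

set_option autoImplicit false
set_option linter.unusedSectionVars false

namespace CF.Cy.N

open MulAction Subgroup Cfsg CF.BG CF.Bender CF.ZD CF.Tw

variable {G Ω : Type*} [Group G] [Finite G] [MulAction G Ω] [Finite Ω] {T : Subgroup G} {a b : Ω} {s x : G}

theorem pp (h : Ko.T2 G Ω) (big : 2 < Nat.card Ω) (e : Nat.card Ω % 4 = 2) (n : a ≠ b) (k : Syl 2 T (D2 G a b)) (ab : Abel T) :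
    ∃ r k : ℕ, r.Prime ∧ Nat.card Ω = r ^ k + 1 := by
  have := Fintype.ofFinite Ω
  have := h.faith
  have := Fact.mk p2
  obtain ⟨Q, rfl⟩ := k.exists_sylow
  rw [Nat.card_eq_fintype_card] at e big ⊢
  obtain ⟨-, -, -, -, -, ⟨k, -⟩ | ⟨F, _, _, -, k, -⟩ | ⟨F, _, _, q, c, -, k, -⟩⟩ :=
    Agent.S3402.result h.two e big a b n Q (.inl ((abel_map_iff (subtype_injective _)).1 ab).comm)
  · exact ⟨5, 1, by norm_num, k⟩
  · obtain ⟨j, pp, hj⟩ := FiniteField.card F (ringChar F)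
    exact ⟨_, j, pp, hj ▸ k⟩
  · obtain ⟨j, pp, hj⟩ := FiniteField.card F (ringChar F)
    obtain ⟨i, -, rfl⟩ := (Nat.dvd_prime_pow pp).1 (show q ∣ ringChar F ^ (j : ℕ) by rw [← hj, c]; exact dvd_pow_self _ two_ne_zero)
    exact ⟨_, _, pp, by rw [k, ← pow_mul]⟩

theorem dh (h : Ko.T2 G Ω) (ev : Nat.card Ω % 2 = 0) (j : Sw a b s) (hx : x ∈ D2 G a b) (x4 : x ^ 4 = 1) (x2 : x * x ≠ 1)
    (i : s * x * s⁻¹ = x⁻¹) (cy : ∀ T, Syl 2 T (D2 G a b) → Cyc T) (ni : ∀ y ∈ D2 G a b, y * x * y⁻¹ ≠ x⁻¹)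
    (fe : (Fx Ω (zpowers x)).ncard % 2 = 0) : Nat.card Ω % 4 = 2 := by
  have xp : PiGrp {2} (zpowers x) := PiElt.zpowers ((piNat_pow_self p2 2).dvd (orderOf_dvd_of_pow_eq_one x4))
  have key : ∀ c ∈ Fx Ω (zpowers x), ∀ d ∈ Fx Ω (zpowers x), c ≠ d → ∃ g ∈ 𝐍 (zpowers x), g • c = a ∧ g • d = b := fun c hc d hd m => by
    obtain ⟨g, rfl, rfl⟩ := h.tt c d a b m j.ne
    obtain ⟨T, k, l⟩ := exists_syl_le (zpowers_le.2 hx) xp
    obtain ⟨y, hy, l'⟩ := k.syl_cj_le (K := cj g (zpowers x)) (cj_D2 g c d ▸ cj_mono g (le_inf hc hd)) (xp.cj g)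
    exact ⟨y * g, cj_eq_self.1 ((cy T k).eq_of_card (cj_cj y g _ ▸ l') l (card_cj _ _)), by rw [mul_smul, hy.1], by rw [mul_smul, hy.2]⟩
  have fx : ¬ 2 < (Fx Ω (zpowers x)).ncard := fun l => by
    obtain ⟨g, hg, ga, gb⟩ := (TT.r2 (H := 𝐍 (zpowers x)) ⟨fun _ hg _ => fx_inv hg, fun c hc d hd c' hc' d' hd' m m' => by
      obtain ⟨g, hg, e1, e2⟩ := key c hc d hd m
      obtain ⟨k, hk, e3, e4⟩ := key c' hc' d' hd' m'
      exact ⟨k⁻¹ * g, mul_mem (inv_mem hk) hg, by rw [mul_smul, e1, inv_smul_eq_iff, e3], by rw [mul_smul, e2, inv_smul_eq_iff, e4]⟩⟩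
      l fe).tt a (fx_zp.2 hx.1) b (fx_zp.2 hx.2) b (fx_zp.2 hx.2) a (fx_zp.2 hx.1) j.ne j.ne.symm
    have c := mem_cent.1 (Ko.R2_cent le_rfl (cyc_zpowers x) xp hg) x (mem_zpowers x)
    exact ni (s * g) (mem_D2.2 ⟨by rw [mul_smul, ga, j.ba], by rw [mul_smul, gb, j.ab]⟩) (by
      rw [← i, mul_assoc s, ← c]; group)
  have fx : ∀ c : Ω, x • c = c → c = a ∨ c = b := fun c => Ko.fx_two j.ne hx.1 hx.2 (not_lt.1 fx)
  have sx : zpowers s ≤ 𝐍 (zpowers x) := zpowers_le.2 (mem_norm_of_cj_le (by rw [cj_zpowers, i, zpowers_inv]))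
  have lD : D2 G a b ≤ PS G a b := fun _ k => .inl k
  have sP : s ∈ PS G a b := .inr ⟨j.ab, j.ba⟩
  have sq : ∀ y ∈ PS G a b, y * y ∈ D2 G a b := by
    rintro y (⟨h1, h2⟩ | ⟨h1, h2⟩) <;> exact mem_D2.2 ⟨by rw [mul_smul, h1]; assumption, by rw [mul_smul, h2]; assumption⟩
  have mu : ∀ y ∈ PS G a b, y ∉ D2 G a b → y * s ∈ D2 G a b := fun y hy m =>
    let k := hy.resolve_left m; mem_D2.2 ⟨by rw [mul_smul, j.ab, k.2], by rw [mul_smul, j.ba, k.1]⟩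
  have nD : D2 G a b ⊴ PS G a b := ⟨lD, le_norm_iff.2 fun y hy z hz => hy.elim
    (fun k => mul_mem (mul_mem k hz) (inv_mem k)) fun k => mem_D2.2 ⟨k.2 ▸ conj_smul hz.2 y, k.1 ▸ conj_smul hz.1 y⟩⟩
  obtain ⟨P, k, l⟩ := exists_syl_le (sup_le (zpowers_le.2 (lD hx)) (zpowers_le.2 sP)) (xp.sup (sq_elt j.sq).zpowers (.inr sx))
  have k' := k.inf_normal nD
  have xT : x ∈ P ⊓ D2 G a b := ⟨l (mem_sup_left (mem_zpowers x)), hx⟩
  have hs : s ∈ P := l (mem_sup_right (mem_zpowers s))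
  have t : Syl 2 P ⊤ := k.syl_of_norm_le (fun g hg => by
    have m := conj_mem_of_norm hg xT.1
    have m' : g * x * g⁻¹ ∈ D2 G a b := by_contra fun m' => by
      obtain ⟨τ, e⟩ := (cy _ k').exists_gen
      obtain ⟨r, rfl⟩ := e.ge xT
      have τP : τ ∈ P := (e.le (mem_zpowers τ)).1
      rcases Int.even_or_odd' r with ⟨r, rfl | rfl⟩
      · refine m' ?_
        rw [show g * τ ^ (2 * r) * g⁻¹ = g * τ ^ r * g⁻¹ * (g * τ ^ r * g⁻¹) by group]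
        exact sq _ (k.le (conj_mem_of_norm hg (zpow_mem τP r)))
      · have : zpowers τ ≤ zpowers (τ ^ (2 * r + 1)) := zpowers_le.2 (mem_zpowers_zpow_iff.2 (by
          obtain ⟨m, e⟩ := (k.pi.elt τP).exists_pow (orderOf_pos τ).ne'
          rw [e, Nat.cast_pow, ← Int.isCoprime_iff_gcd_eq_one]
          exact IsCoprime.pow_right ⟨1, -r, by push_cast; ring⟩))
        have := GW.inv_zpowers i _ (this (e.ge (mem_inf.2 ⟨mul_mem m hs, mu _ (k.le m) m'⟩)))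
        rw [mul_inv_rev, mul_assoc s, mul_inv_cancel_right, j.inv, mul_left_cancel_iff, eq_inv_iff_mul_eq_one, conj_mul,
          conj_eq_one_iff] at this
        exact x2 this
    have e := (cy _ k').eq_of_card (A := cj g (zpowers x)) (cj_zpowers g x ▸ zpowers_le.2 ⟨m, m'⟩) (zpowers_le.2 xT) (card_cj _ _)
    have h1 := fx _ (fx_zp.1 (fx_inv (cj_eq_self.1 e) (fx_zp.2 hx.1)))
    have h2 := fx _ (fx_zp.1 (fx_inv (cj_eq_self.1 e) (fx_zp.2 hx.2)))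
    have h3 := ne_smul g j.ne
    rcases h1 with h1 | h1 <;> rcases h2 with h2 | h2
    exacts [absurd (h1.trans h2.symm) h3, .inl ⟨h1, h2⟩, .inr ⟨h1, h2⟩, absurd (h1.trans h2.symm) h3]) le_top
  have o := (t.idx_of_le k.le).not_dvd' p2 rfl
  have e := relIndex_mul_index lD
  rw [h.index j.ne, (relIndex_eq_two_iff_exists_notMem_and (H := D2 G a b)).2 ⟨s, sP, fun k => j.ne (k.1.symm.trans j.ab),
    fun y hy => or_iff_not_imp_right.2 (mu y hy)⟩] at e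
  rw [relIndex_top_right] at o
  by_contra m
  obtain ⟨q, hq⟩ : 4 ∣ Nat.card Ω := by omega
  exact o ⟨q * (Nat.card Ω - 1), by rw [hq] at e ⊢; linarith⟩

end CF.Cy.N
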