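import Cfsg.Agent.TsY.Fgs1Ko11
import Cfsg.Agent.S0054
import Cfsg.Agent.S1163

/-! A unique element of the two-point stabiliser fixing a third point: basics, the affine case, degrees not
divisible by four. -/

set_option autoImplicit false
set_option linter.unusedSectionVars false

namespace CF.Ko
open MulAction Subgroup Cfsg CF.BG CF.Bender CF.ZD CF.Tw
open scoped commutatorElement MatrixGroups

universe u v
variable {G : Type u} {Ω : Type v} [Group G] [Finite G] [MulAction G Ω] [Finite Ω]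
variable {A B C H I K L M N O P Q R S T W X Y Z : Subgroup G} {Δ : Set Ω} {a b c d o : Ω}
  {g i m n p s t u v w x y z : G}

local notation "𝐒" => MulAction.stabilizer G
local notation "𝐅" u:max => Fx Ω (zpowers u)

/-- `t` is the only nonidentity element fixing `a`, `b` and a third point -/
structure R0 (t : G) (a b : Ω) : Prop extends T2 G Ω where
  ne : a ≠ b
  mem : t ∈ D2 G a b
  t1 : t ≠ 1
  big : 2 < (Fx Ω (zpowers t)).ncard
  uq : ∀ s ∈ D2 G a b, s ≠ 1 → 2 < (Fx Ω (zpowers s)).ncard → s = t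

theorem eq_of_ncard (h : ¬ 1 < Δ.ncard) (ha : a ∈ Δ) (hb : b ∈ Δ) : a = b :=
  by_contra fun n => h ((Set.one_lt_ncard (Set.toFinite _)).2 ⟨a, ha, b, hb, n⟩)

namespace R0
variable (h : R0 t a b)
include h

protected theorem cj (g : G) : R0 (g * t * g⁻¹) (g • a) (g • b) :=
  ⟨h.toT2, fun e => h.ne (smul_left_cancel g e), ⟨conj_smul h.mem.1 g, conj_smul h.mem.2 g⟩, by simpa using h.t1,
    ncard_conj (Ω := Ω) g t ▸ h.big, fun s hs n l => by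
      rw [← h.uq (g⁻¹ * s * g⁻¹⁻¹) (by simpa using mem_D2.2 ⟨conj_smul' hs.1, conj_smul' hs.2⟩) (mt conj_eq_one_iff.1 n)
        (ncard_conj (Ω := Ω) g⁻¹ s ▸ l)]
      group⟩

theorem move (n : c ≠ d) (m : u ∈ D2 G c d) (u1 : u ≠ 1) (l : 2 < (𝐅 u).ncard) : R0 u c d := by
  obtain ⟨g, rfl, rfl⟩ := h.tt a b c d h.ne n
  exact (h.cj g).uq u m u1 l ▸ h.cj g

theorem iv : Iv t := ⟨h.t1, mul_eq_one_iff_eq_inv.2 (h.uq _ (inv_mem h.mem) (inv_ne_one.2 h.t1)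
  (by rw [zpowers_inv]; exact h.big)).symm⟩

theorem or (hx : x ∈ D2 G a b) (e : x • c = c) (n1 : c ≠ a) (n2 : c ≠ b) : x = 1 ∨ x = t :=
  or_iff_not_imp_left.2 fun n => h.uq x hx n (two_lt_ncard (fx_zp.2 hx.1) (fx_zp.2 hx.2) (fx_zp.2 e) h.ne n1 n2)

theorem two' (hx : x ∈ D2 G a b) (n : x ∉ zpowers t) (e : x • c = c) : c = a ∨ c = b := by
  by_contra! k
  exact n ((PG.mem_zp h.iv).2 (h.or hx e k.1 k.2))

theorem le : D2 G a b ≤ 𝐂₁ t := fun g hg => mem_cent1.2 (mul_inv_eq_iff_eq_mul.1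
  (h.uq _ (conj_mem_of_norm (le_norm_self _ hg) h.mem) (h.iv.conj g).ne (ncard_conj (Ω := Ω) g t ▸ h.big)))

theorem eq_iv (hs : s ∈ D2 G a b) (i : Iv s) : s = t := by
  by_contra n
  have ev : (𝐅 t).ncard % 2 = 0 := by
    have := mt (h.uq s hs i.ne) n
    have := (Set.one_lt_ncard (s := 𝐅 s)).2 ⟨a, fx_zp.2 hs.1, b, fx_zp.2 hs.2, h.ne⟩
    have := par_fx (Ω := Ω) i
    have := par_fx (Ω := Ω) h.iv
    omega
  obtain ⟨E, l, k, tE, -⟩ := klein_of_comm h.iv i (Ne.symm n) (mem_cent1.1 (h.le hs)).symm h.mem hs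
  have O : 𝐎 {2}ᶜ (𝐒 a) ≤ 𝐂₁ t := four_gen k ((l.trans inf_le_left).trans (O_normal _ _).norm)
    (Nat.odd_iff.2 (Nat.two_dvd_ne_zero.1 ((piNat_compl_single p2).1 (O_pi _ _)))) fun e he j x hx => by
      by_cases e' : e = t
      · exact e' ▸ hx.2
      have xa : x • a = a := O_le _ _ hx.1
      exact h.le ⟨xa, (h.two' (l he) (fun m => ((PG.mem_zp h.iv).1 m).elim j.ne e') (fx_zp.1 (cent_fx hx.2
        (fx_zp.2 (l he).2)))).resolve_left fun e => h.ne (smul_left_cancel x (xa.trans e.symm))⟩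
  refine h.t1 (h.ff t fun c => ?_)
  by_cases e : c = a
  · exact e ▸ h.mem.1
  obtain ⟨g, hg, rfl⟩ := h.tt a b a c h.ne (Ne.symm e)
  have m := zstar_in h.iv h.mem.1 (fun g hg e => by
    have f := fx_zp.2 (show (g * t * g⁻¹) • a = a from hg ▸ conj_smul h.mem.1 g)
    obtain ⟨d, hd, n⟩ := exists_second ((par_iv (h.iv.conj g) fun _ => cent_fx (mem_cent1.2 e.symm)).symm.trans ev)
      ⟨fx_zp.2 h.mem.1, f⟩
    exact (h.move n.symm ⟨h.mem.1, fx_zp.1 hd.1⟩ h.t1 h.big).uq _ ⟨fx_zp.1 f, fx_zp.1 hd.2⟩ (h.iv.conj g).ne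
      (ncard_conj (Ω := Ω) g t ▸ h.big)) hg
  have := eq_one_of_inv ((O_pi _ _).elt m) (by
    conv_lhs => rw [← conj_of_cent (mem_cent1_comm.1 (O m)), h.iv.inv]
    simp [mul_assoc, ← mul_assoc t t, h.iv.sq, h.iv.inv])
  exact fx_zp.1 (cent_fx (mem_cent1.2 (commutatorElement_eq_one_iff_mul_comm.1 this).symm) (fx_zp.2 h.mem.2))

theorem ci : CI t a b := ⟨⟨h.toT2, fun c d x y n hx hy i j => by
  obtain ⟨g, rfl, rfl⟩ := h.tt a b c d h.ne n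
  exact ((h.cj g).eq_iv hx i).trans ((h.cj g).eq_iv hy j).symm⟩, h.ne, h.iv, h.mem⟩

theorem move' (n : c ≠ d) (m : u ∈ D2 G c d) (i : Iv u) : R0 u c d :=
  h.move n m i.ne (card_conj (Ω := Ω) (h.ci.conj n i m) ▸ h.big)

theorem W_le : WW Ω t ≤ zpowers t := fun _ hw =>
  let ⟨_, hc, n⟩ := exists_third h.big a b
  (PG.mem_zp h.iv).2 (h.or ⟨W_smul hw h.ci.ha, W_smul hw h.ci.hb⟩ (W_smul hw hc) n.1 n.2)

theorem dvd_K : ♯(D2 G a b) ∣ 2 * ((𝐅 t).ncard - 2) := by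
  have l := zpowers_le.2 h.mem
  rw [← card_mul_relIndex l, h.iv.card, ← Set.ncard_pair h.ne, ← Set.ncard_diff (Set.pair_subset h.ci.ha h.ci.hb),
    Set.ncard_pair h.ne]
  refine Nat.mul_dvd_mul_left 2 (dvd_ncard (P := D2 G a b) (S := 𝐅 t \ {a, b}) (Set.toFinite _)
    (fun g hg c hc => ⟨cent_fx (h.le hg) hc.1, fun e => hc.2 ?_⟩) fun c hc => dvd_of_eq ?_)
  · exact e.imp (fun e => smul_left_cancel g (e.trans hg.1.symm)) fun e => smul_left_cancel g (e.trans hg.2.symm)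
  rw [← inf_relIndex_right (𝐒 c)]
  congr 1
  exact le_antisymm (le_inf hc.1 l) fun g hg => by_contra fun m => hc.2 (h.two' hg.2 m hg.1)

end R0

theorem CI.f_dvd (h : CI t a b) : (𝐅 t).ncard ∣ Nat.card Ω := by
  rw [h.cnt1, Nat.dvd_add_right dvd_rfl]
  rcases Nat.mod_two_eq_zero_or_one (Nat.card Ω) with e | e
  · rw [e]; exact Dvd.intro_left _ rfl
  refine Dvd.dvd.mul_right (dvd_ncard_cj (P := 𝐂₁ t) (S := AA t) (fun g hg u hu => ⟨hu.1.trans (isConj_iff.2 ⟨g, rfl⟩),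
    conj_mem_of_norm (le_norm_self _ hg) hu.2.1, fun e => hu.2.2 (by simpa using e.trans (conj_of_cent hg).symm)⟩)
    fun u hu => ?_) _
  have k := (h.inter (iv_conj h.iv hu.1) hu.2.1 hu.2.2).trans e
  obtain ⟨c, hc⟩ := (Set.ncard_pos (Set.toFinite _)).1 (k ▸ one_pos)
  obtain ⟨d, hd, n⟩ := Set.exists_ne_of_one_lt_ncard h.two_le c
  rw [← h.ctt.rel1 hc.1 hd n.symm, ← inf_relIndex_right (𝐂₁ u)]
  exact relIndex_dvd_left _ fun g hg => eq_of_ncard k.not_gt ⟨cent_fx hg.2 hc.1, cent_fx hg.1 hc.2⟩ hc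

theorem two_cls (i : Iv t) (j : Iv u) (n : ¬ IsConj t u) (h : ∀ x, Iv x → IsConj t x ∨ IsConj u x) :
    (ConjClasses.mk '' {g : G | orderOf g = 2}).ncard = 2 :=
  Set.ncard_eq_two.2 ⟨.mk t, .mk u, mt ConjClasses.mk_eq_mk_iff_isConj.1 n, Set.ext fun _ =>
    ⟨by rintro ⟨x, hx, rfl⟩; exact (h x (iv_iff.2 hx)).imp (fun e => (ConjClasses.mk_eq_mk_iff_isConj.2 e).symm)
          fun e => (ConjClasses.mk_eq_mk_iff_isConj.2 e).symm,
      by rintro (rfl | rfl); exacts [⟨t, i.orderOf, rfl⟩, ⟨u, j.orderOf, rfl⟩]⟩⟩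

namespace RG
variable (r : RG Ω N)
include r

theorem abel (h : T2 G Ω) (a : Ω) : Abel N :=
  haveI := r.nm
  haveI : Nonempty Ω := ⟨a⟩
  .of_comm (Agent.S0054.result h.two N ⟨fun x y => let ⟨g, hg, e⟩ := r.tr x y; ⟨⟨g, hg⟩, e⟩⟩
    fun x => (Perm.stabilizer_subgroup_eq_bot_iff N x).2 (r.fix x)).1

theorem fx (e : u • o = o) (hm : m ∈ N) : m • o ∈ 𝐅 u ↔ u * m * u⁻¹ = m := by
  rw [fx_zp, ← conj_smul rfl u, e]
  exact ⟨r.eq (r.nm.conj_mem m hm u) hm, fun e => by rw [e]⟩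

theorem fx2 (ab : Abel N) (i : Iv u) (e : u • o = o) (hm : m ∈ N) : (m * (u * m * u⁻¹)) • o ∈ 𝐅 u :=
  (r.fx e (mul_mem hm (r.nm.conj_mem m hm u))).2 (by
    rw [← conj_mul, cmc, i.sq, one_mul, inv_one, mul_one, ab.mul_comm hm (r.nm.conj_mem m hm u)])

theorem inv (hm : m ∈ N) (e : (m * (u * m * u⁻¹)) • o = o) : u * m * u⁻¹ = m⁻¹ :=
  eq_inv_of_mul_eq_one_right (r.fix o _ (mul_mem hm (r.nm.conj_mem m hm u)) e)

theorem aa (h : CI t o b) (i : Iv s) (c : s ∈ 𝐂₁ t) (n : s ≠ t) (e : s • o = o) (hm : m ∈ N) (k : t * m * t⁻¹ = m) :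
    s * m * s⁻¹ = m⁻¹ :=
  r.inv hm (eq_of_ncard (Δ := 𝐅 t ∩ 𝐅 s) (by rw [h.inter i c n]; omega) ⟨(r.fx h.mem.1 (mul_mem hm (r.nm.conj_mem m hm s))).2 (by
    rw [← conj_mul, k, cmc, ← mem_cent1.1 c, ← cmc, k]), r.fx2 (r.abel h.toT2 o) i e hm⟩ ⟨h.ha, fx_zp.2 e⟩)

theorem one_conj (h : T2 G Ω) (i : Iv x) (j : Iv y) (k : (𝐅 x).ncard = 1) (k' : (𝐅 y).ncard = 1) : IsConj x y := by
  obtain ⟨c, hc⟩ := (Set.ncard_pos (Set.toFinite _)).1 (k ▸ one_pos)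
  obtain ⟨d, hd⟩ := (Set.ncard_pos (Set.toFinite _)).1 (k' ▸ one_pos)
  obtain ⟨g, -, rfl⟩ := r.tr c d
  have key : ∀ u, Iv u → (𝐅 u).ncard = 1 → g • c ∈ 𝐅 u → ∀ m ∈ N, u • m • g • c = m⁻¹ • g • c := fun u i k e m hm => by
    rw [← r.inv hm (eq_of_ncard k.not_gt (r.fx2 (r.abel h c) i (fx_zp.1 e) hm) e), ← conj_smul rfl u, fx_zp.1 e]
  haveI := h.faith
  refine isConj_iff.2 ⟨g, eq_of_smul_eq_smul (α := Ω) fun e => ?_⟩
  obtain ⟨m, hm, rfl⟩ := r.tr (g • c) e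
  rw [key _ (i.conj g) (ncard_conj (Ω := Ω) g x ▸ k) (fx_conj.2 hc) m hm, key y j k' hd m hm]

theorem exists_one (h : R0 t a b) (od : Nat.card Ω % 2 = 1) : ∃ u : G, Iv u ∧ (𝐅 u).ncard = 1 := by
  by_contra! k
  have sec : ∀ u : G, Iv u → ∀ o : Ω, u • o = o → ∃ m ∈ N, m * m ≠ 1 ∧ u * m * u⁻¹ = m ∧ R0 u o (m • o) := fun u i o e => by
    obtain ⟨c, hc, n⟩ := Set.exists_ne_of_one_lt_ncard (s := 𝐅 u)
      (by have := par_fx (Ω := Ω) i; have := k u i; omega) o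
    obtain ⟨m, hm, rfl⟩ := r.tr o c
    exact ⟨m, hm, fun e => Iv.not_mem ⟨fun e => n (by rw [e, one_smul]), e⟩ (by rwa [r.card o, Nat.odd_iff]) hm,
      (r.fx e hm).1 hc, h.move' n.symm ⟨e, fx_zp.1 hc⟩ i⟩
  obtain ⟨u, hu⟩ : (AA t).Nonempty := Set.nonempty_of_ncard_ne_zero fun e => h.ci.lt.ne' (by simpa [e] using h.ci.cnt1)
  have i := iv_conj h.iv hu.1
  obtain ⟨o, ho⟩ := (Set.ncard_pos (Set.toFinite _)).1 (((h.ci.inter i hu.2.1 hu.2.2).trans od).ge)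
  obtain ⟨m, hm, m2, e1, h1⟩ := sec t h.iv o (fx_zp.1 ho.1)
  obtain ⟨n, hn, n2, e2, h2⟩ := sec u i o (fx_zp.1 ho.2)
  have e3 := r.aa h1.ci i hu.2.1 hu.2.2 h2.mem.1 hm e1
  have e4 := r.aa h2.ci h.iv (mem_cent1_comm.1 hu.2.1) hu.2.2.symm h1.mem.1 hn e2
  have ut := mem_cent1.1 hu.2.1
  have j : Iv (t * u) := ⟨fun e => hu.2.2 (by rw [eq_inv_of_mul_eq_one_right e, h.iv.inv]), by
    rw [Commute.mul_mul_mul_comm ut, h.iv.sq, i.sq, one_mul]⟩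
  have zo : (t * u) • o = o := by rw [mul_smul, h2.mem.1, h1.mem.1]
  obtain ⟨p, hp, -, -, h3⟩ := sec _ j o zo
  have hq := mul_mem hm hn
  have e5 : t * (m * n) * t⁻¹ ≠ m * n := fun e => n2 (by
    rw [← conj_mul, e1, e4, mul_right_inj] at e; exact mul_eq_one_iff_eq_inv.2 e.symm)
  have e6 : u * (m * n) * u⁻¹ ≠ m * n := fun e => m2 (by
    rw [← conj_mul, e3, e2, mul_left_inj] at e; exact mul_eq_one_iff_eq_inv.2 e.symm)
  have e7 : t * u * (m * n) * (t * u)⁻¹ = (m * n)⁻¹ := by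
    rw [← cmc, ← conj_mul (b := u), e3, e2, ← conj_mul, ← conj_inv, e1, e4, ← mul_inv_rev, (r.abel h.toT2 o).mul_comm hm hn]
  have ne : o ≠ (m * n) • o := fun e => e5 (by rw [r.fix o _ hq e.symm]; simp)
  obtain ⟨g, k1, k2⟩ := h.tt a b _ _ h.ne ne
  have h4 := h.cj g
  rw [k1, k2] at h4
  generalize g * t * g⁻¹ = s at h4
  have e8 := (r.fx h4.mem.1 hq).1 h4.ci.hb
  have sz : s ≠ t * u := fun e => Iv.not_mem ⟨fun e => ne (by rw [e, one_smul]), mul_eq_one_iff_eq_inv.2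
    (e8.symm.trans (e ▸ e7))⟩ (by rwa [r.card o, Nat.odd_iff]) hq
  have c : s ∈ 𝐂₁ (t * u) := mem_cent1_comm.1 (mem_cent1.2 (mul_inv_eq_iff_eq_mul.1 (h4.eq_iv (mem_D2.2
    ⟨zo ▸ conj_smul h4.mem.1 _, fx_zp.1 ((r.fx (zo ▸ conj_smul h4.mem.1 _) hq).2 (by
      rw [← cmc, j.inv, e7, ← cmc, ← conj_inv, e8, ← conj_inv, e7, inv_inv]))⟩) (h4.iv.conj _))))
  have tz : t ∈ 𝐂₁ (t * u) := mem_cent1.2 (by rw [mul_assoc, ut])
  have := h3.W_le (fix_iff.2 fun c hc => (fx_zp (t := s * t)).2 (by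
    obtain ⟨q, hq, rfl⟩ := r.tr o c
    have e := (r.fx zo hq).1 hc
    rw [← conj_smul rfl (s * t), mul_smul s t o, h1.mem.1, h4.mem.1, ← cmc,
      r.aa h3.ci h.iv tz (fun e => i.ne (left_eq_mul.1 e)) h1.mem.1 hq e, ← conj_inv,
      r.aa h3.ci h4.iv c sz h4.mem.1 hq e, inv_inv]))
  rcases (PG.mem_zp j).1 this with e | e
  · exact e5 (by rwa [eq_inv_of_mul_eq_one_left e, h.iv.inv] at e8)
  · exact e6 (by rwa [← ut, mul_left_inj] at e ▸ e8)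

theorem two (h : R0 t a b) : (ConjClasses.mk '' {g : G | orderOf g = 2}).ncard = 2 := by
  rcases Nat.mod_two_eq_zero_or_one (Nat.card Ω) with e | e
  · obtain ⟨m, hm, k⟩ := r.tr a b
    have m1 : m ≠ 1 := fun e => h.ne (by rw [← k, e, one_smul])
    refine two_cls h.iv ⟨m1, r.sq h.toT2 e a hm⟩ (fun c => let ⟨c, e⟩ := h.ci.exists_fx e c; m1 (r.fix c m hm e))
      fun x i => ?_
    by_cases f : ∃ c : Ω, x • c = c
    · exact let ⟨_, f⟩ := f; .inl (h.ci.conj' e i f)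
    · exact .inr (isConj_iff.2 (r.conj h.toT2 a hm (r.mem h.ci.toUI e a i (not_exists.1 f)) m1 i.ne))
  obtain ⟨u, j, k⟩ := r.exists_one h e
  refine two_cls h.iv j (fun c => by have := card_conj (Ω := Ω) c; have := h.big; omega) fun x i => ?_
  by_cases l : 1 < (𝐅 x).ncard
  · exact let ⟨_, hc, _, hd, n⟩ := exists_pair l; .inl (h.ci.conj n i ⟨fx_zp.1 hc, fx_zp.1 hd⟩)
  · exact .inr (r.one_conj h.toT2 j i k (by have := par_fx (Ω := Ω) i; omega))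

end RG

namespace R0
variable (h : R0 t a b)
include h

theorem num : ∃ e, 2 ≤ e ∧ e * (e + 2) + 1 ≤ Nat.card Ω ∧ e ∣ Nat.card Ω - 1 ∧ e + 1 ∣ Nat.card Ω ∧
    ♯(D2 G a b) ∣ 2 * (e - 1) := by
  have h1 := h.ci.dvd
  have h2 := h.ci.f_dvd
  have h3 := h.dvd_K
  have h4 := h.ci.lt
  have h5 := h.big
  obtain ⟨e, he⟩ : ∃ e, (𝐅 t).ncard = e + 1 := ⟨_, (Nat.succ_pred_eq_of_pos (by omega)).symm⟩
  rw [he] at h1 h2 h3 h4 h5
  refine ⟨e, by omega, ?_, h1, h2, h3⟩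
  obtain ⟨x, hx⟩ := h1
  obtain ⟨y, hy⟩ := h2
  rw [Nat.add_sub_cancel] at hx
  have : x ≤ y * (e + 1) := by nlinarith [show e * x + 1 = (e + 1) * y by omega]
  have y1 : 1 < y := by nlinarith
  obtain ⟨z, rfl⟩ := Nat.exists_eq_add_of_le' y1.le
  have d : e ∣ z := (Nat.dvd_add_right (Dvd.intro (z + 1) rfl)).1 ⟨x, by nlinarith [show e * x + 1 = (e + 1) * (z + 1) by omega]⟩
  have := Nat.le_of_dvd (by omega) d
  nlinarith

theorem dvd_L {d y : ℕ} (e : d * ♯L = y * (Nat.card Ω * (Nat.card Ω - 1))) : y ∣ d * ♯(D2 G a b) := by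
  have l := h.ci.lt
  have := h.big
  have := Nat.mul_dvd_mul_left d (card_subgroup_dvd_card L)
  rwa [e, h.card h.ne, ← mul_assoc d, Nat.mul_dvd_mul_iff_right (Nat.mul_pos (by omega) (by omega))] at this

theorem not_l2 {F : Type} [Field F] [Fintype F] (φ : L ≃* PSL(2, F)) (c : Nat.card Ω = Fintype.card F + 1) : False := by
  obtain ⟨e, e2, l, -, -, d⟩ := h.num
  have k := Classical.card_PSL_two' (F := F)
  rw [← Nat.card_congr φ.toEquiv, Nat.card_eq_fintype_card (α := F)] at k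
  obtain ⟨r, hr⟩ : ∃ r, Fintype.card F = r + 1 := ⟨_, (Nat.succ_pred_eq_of_pos Fintype.card_pos).symm⟩
  rw [hr] at c k
  have := Nat.le_of_dvd (by omega) ((h.dvd_L (y := r) (k.trans (by
    rw [c, show (r + 1) ^ 2 - 1 = r * (r + 2) from Nat.sub_eq_of_eq_add (by ring)]; simp; ring))).trans
    (Nat.mul_dvd_mul (Nat.gcd_dvd_left _ _) d))
  obtain ⟨e, rfl⟩ := Nat.exists_eq_add_of_le' e2
  rw [show e + 2 - 1 = e + 1 from rfl] at this
  nlinarith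

theorem not_sz {F : Type} [Field F] [Fintype F] {m : ℕ} (l : 1 ≤ m) (hF : Fintype.card F = 2 ^ (2 * m + 1))
    (φ : L ≃* Lie.Sz F (2 ^ (m + 1))) (c : Nat.card Ω = Fintype.card F ^ 2 + 1) : False := by
  obtain ⟨e, e2, l', -, -, d⟩ := h.num
  have k := (Agent.S1163.result l hF).1
  rw [← Nat.card_congr φ.toEquiv, ← hF] at k
  have o : Odd (Fintype.card F - 1) := hF ▸ Nat.Even.sub_odd Nat.one_le_two_pow (by simp [pow_succ]) odd_one
  have := Nat.le_of_dvd (by omega) (o.coprime_two_right.dvd_of_dvd_mul_left ((h.dvd_L (d := 1) (L := L)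
    (by rw [k, c]; simp; ring)).trans ((one_mul _).dvd.trans d)))
  have : Fintype.card F ≤ e := by omega
  nlinarith

set_option synthInstance.maxSize 4096 in
theorem u3 {F : Type} [Field F] [Fintype F] {q : ℕ} (hF : Fintype.card F = q ^ 2) (φ : L ≃* PSU 3 F q)
    (c : Nat.card Ω = q ^ 3 + 1) : q = 2 ∨ q = 5 ∧ L = ⊤ := by
  obtain ⟨e, e2, l, d1, d2, d⟩ := h.num
  have k := card_eq_card_quotient_mul_card_subgroup (center (SU 3 F q))
  rw [card_SU3 hF, Agent.S0279.result hF 3 le_rfl, ← Nat.card_congr φ.toEquiv] at k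
  have d3 := (h.dvd_L (y := q ^ 2 - 1) ((mul_comm _ _).trans (k.symm.trans (by rw [c]; simp; ring)))).trans
    (Nat.mul_dvd_mul (Nat.gcd_dvd_left _ _) d)
  have l' := Nat.le_of_dvd (by omega) d3
  rw [c] at l d1 d2
  have q1 : 1 < q := by_contra fun n => by interval_cases q <;> nlinarith
  have q36 : q < 36 := by
    by_contra! n
    have : q ^ 2 ≤ 6 * e := by omega
    nlinarith [Nat.mul_le_mul this this, Nat.mul_le_mul_left (q ^ 3) n]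
  have e210 : e < 210 := by nlinarith [Nat.pow_le_pow_left (show q ≤ 35 by omega) 3]
  obtain e5 | ⟨rfl, rfl⟩ := (by decide +kernel : ∀ q < 36, ∀ e < 210, q ^ 2 - 1 ∣ 3 * (2 * (e - 1)) → e ∣ q ^ 3 + 1 - 1 →
    e + 1 ∣ q ^ 3 + 1 → 2 ≤ e → e * (e + 2) + 1 ≤ q ^ 3 + 1 → q = 2 ∨ q = 5 ∧ e = 5) q q36 e e210 d3 d1 d2 e2 l
  · exact .inl e5
  refine .inr ⟨rfl, eq_of_card_le le_top ?_⟩
  have := Nat.le_of_dvd (by decide) d
  rw [card_top', h.card h.ne, c]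
  simp at k
  omega

theorem psu5 {F : Type} [Field F] [Fintype F] {q : ℕ} (hF : Fintype.card F = q ^ 2) (φ : L ≃* PSU 3 F q)
    (c : Nat.card Ω = q ^ 3 + 1) (n : q ≠ 2) :
    ∃ (F : Type) (_ : Field F) (_ : Fintype F), Fintype.card F = 25 ∧ Nonempty (G ≃* PSU 3 F 5) := by
  obtain ⟨rfl, rfl⟩ := (h.u3 hF φ c).resolve_left n
  exact ⟨F, _, _, hF, ⟨topEquiv.symm.trans φ⟩⟩

theorem odd (o : Nat.card Ω % 2 = 1) : EqF.Reg G Ω := by
  by_contra r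
  have := Fintype.ofFinite Ω
  have := h.faith
  obtain ⟨L, nL, L1, -, -, k⟩ := (CF.TsY.S3120.result (Nat.card_eq_fintype_card (α := Ω) ▸ Nat.odd_iff.2 o) h.tt a b h.ne
    fun S => (rank_one_syl (fun ⟨x, y, x1, y1, n, ex, ey, _⟩ => n (Subtype.ext ((h.eq_iv x.2 (iv_coe.2 ⟨x1, ex⟩)).trans
      (h.eq_iv y.2 (iv_coe.2 ⟨y1, ey⟩)).symm))) S).imp_right fun ⟨m, l, e⟩ =>
        ⟨m - 1, by rwa [Nat.sub_add_cancel l]⟩).resolve_left r
  rw [← Nat.card_eq_fintype_card] at k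
  rcases k with ⟨F, _, _, -, c, ⟨e⟩⟩ | ⟨F, _, _, m, l, c, c', ⟨e⟩⟩ | ⟨F, _, _, q, ev, c, c', ⟨e⟩⟩ | ⟨c, -⟩
  · exact h.not_l2 e c
  · exact h.not_sz l c e c'
  · obtain rfl := (h.u3 c e c').resolve_right fun e => absurd (e.1 ▸ ev) (by decide)
    have := card_quotient_dvd_card (center (SU 3 F 2))
    rw [card_SU3 c, ← Nat.card_congr e.toEquiv] at this
    exact L1 (h.O_bot r (normalIn_top.2 nL) (Char.isSolvable_of_card_dvd p2 Nat.prime_three _ (a := 3) (b := 3) this))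
  · obtain ⟨e, e2, l, -, d, -⟩ := h.num
    rw [c] at l d
    rcases (Nat.dvd_prime (by decide)).1 d with e | e <;> nlinarith

theorem two_mod (ev : Nat.card Ω % 2 = 0) (e : (𝐅 t).ncard % 4 = 2) :
    ∃ (F : Type) (_ : Field F) (_ : Fintype F), Fintype.card F = 25 ∧ Nonempty (G ≃* PSU 3 F 5) := by
  obtain ⟨T, R, -, -, r, k⟩ := h.ci.small e
  have s := k.resolve_right fun l => h.big.not_ge (h.ci.ctt.le_two (.refl _) (fun c hc d hd => h.ci.ctt.trans (.refl _)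
    (fun f => let ⟨_, hg, e, _⟩ := h.ci.ctt.tt a h.ci.ha b h.ci.hb b h.ci.hb a h.ci.ha h.ne h.ne.symm
      h.ne ((f h.ci.ha hg).symm.trans e)) hc hd) (by omega) le_rfl fun d => by
      rw [← relIndex_mul_relIndex _ _ _ (zpowers_le.2 (h.ci.mem_syl r)) r.le] at d
      have := Nat.le_of_dvd (relIndex_pos _ _) (((piNat_pow_self p2 2).coprime r.idx).dvd_of_dvd_mul_right d)
      have := card_mul_relIndex (zpowers_le.2 (h.ci.mem_syl r))
      rw [h.iv.card] at this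
      omega)
  have n4 := (h.ci.mod4 ev (Nat.odd_iff.2 (odd_of_syl r s))).symm.trans e
  have := Fintype.ofFinite Ω
  have := h.faith
  have := Fact.mk p2
  have big := h.big.trans h.ci.lt
  let S : Sylow 2 (D2 G a b) := default
  have m := h.ci.mem_pi (syl_sylow S).pi (syl_sylow S).le
    ((syl_sylow S).syl_ne_bot p2 (h.iv.card ▸ card_dvd (zpowers_le.2 h.mem)))
  rw [Nat.card_eq_fintype_card] at n4 big
  obtain ⟨L, -, -, -, -, k⟩ := Agent.S3402.result h.two n4 big a b h.ne S (.inr ⟨⟨t, h.mem⟩,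
    (mem_map_iff_mem (Subgroup.subtype_injective _)).1 m, (orderOf_coe _).symm.trans h.iv.orderOf, fun x hx n c e =>
      fx_zp.2 e (h.ci.mem_zp ((syl_sylow S).pi.elt (mem_map_of_mem _ hx)) x.2 fun e => n (Subtype.ext e))⟩)
  rw [← Nat.card_eq_fintype_card] at k
  rcases k with ⟨c, -⟩ | ⟨F, _, _, -, c, ⟨φ⟩⟩ | ⟨F, _, _, q, k, l, c, ⟨φ⟩⟩
  · obtain ⟨e, e2, l, -⟩ := h.num
    nlinarith
  · exact (h.not_l2 φ c).elim
  · exact h.psu5 k φ c l.ne'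

end R0

end CF.Ko
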