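import Cfsg.Agent.Fset.E
import Cfsg.Agent.TsY.RITC4
import Cfsg.Agent.S0507
import Cfsg.Agent.S0217

/-! The connected case. -/

set_option autoImplicit false
set_option linter.unusedSectionVars false

namespace CF.Fset

open Subgroup CF.BG CF.GW
open scoped commutatorElement

variable {G : Type*} [Group G] [Finite G] {p r : ℕ} {D : Set (Subgroup G)}
  {A B E H K L N P Q R R' S T U V X Y Z : Subgroup G} {a g k s t u v w x y z : G}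

/-- the subgroup generated by the local `r`-groups of an elementary abelian group -/
def WV (r : ℕ) (D : Set (Subgroup G)) (V : Subgroup G) : Subgroup G :=
  ⨆ a : {a : G // a ∈ V ∧ a ≠ 1}, Rg r D (𝐂₁ (a : G))

theorem le_WV (hv : v ∈ V) (h1 : v ≠ 1) : Rg r D (𝐂₁ v) ≤ WV r D V :=
  le_iSup (fun a : {a : G // a ∈ V ∧ a ≠ 1} => Rg r D (𝐂₁ (a : G))) ⟨v, hv, h1⟩

theorem WV_le (h : ∀ v ∈ V, v ≠ 1 → Rg r D (𝐂₁ v) ≤ K) : WV r D V ≤ K := iSup_le fun a => h a a.2.1 a.2.2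

theorem W.cj_WV (h : W p r D) (g : G) (V : Subgroup G) : cj g (WV r D V) ≤ WV r D (cj g V) :=
  cj_le_iff.2 (WV_le fun v hv h1 => cj_le_iff.1 (by
    rw [h.cj_Rg, cj_cent1]
    exact le_WV (conj_mem_cj.2 hv) (by simpa using h1)))

theorem iv_of_ab (e : Abelem 2 E) (hv : v ∈ E) (h1 : v ≠ 1) : Iv v := e.orderOf hv h1

theorem exists_fp (e : Sig.Vx 2 2 H V) : ∃ s ∈ V, ∃ t ∈ V, FP s t := by
  obtain ⟨E, hE⟩ := e.exists_elem
  obtain ⟨s, t, f, rfl⟩ := exists_fp_of_klein (Sig.klein_iff.2 hE.top)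
  exact ⟨s, hE.le (left_mem_V4 s t), t, hE.le (right_mem_V4 s t), f⟩

namespace Mn
variable (m : Mn p r D) (hA : A ∈ D)
include m hA

theorem gen' (f : FP s t) (cs : s ∈ 𝐂 A) (ct : t ∈ 𝐂 A) (c : v ∈ 𝐂 A) (h1 : v ≠ 1) (hs : s ∈ 𝐂₁ v)
    (ht : t ∈ 𝐂₁ v) : Rg r D (𝐂₁ v) ≤ Rg r D (𝐂₁ s) ⊔ Rg r D (𝐂₁ t) ⊔ Rg r D (𝐂₁ (s * t)) :=
  m.gen hA f cs ct (m.rr1 hA h1 c) ((m.Rg_normal _).norm hs) ((m.Rg_normal _).norm ht)

theorem WV_mono (x : X ≤ 𝐂 A) (y : Sig.Vx 2 2 (𝐂 A) Y) (c : X ≤ 𝐂 Y) : WV r D X ≤ WV r D Y := by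
  obtain ⟨s, hs, t, ht, f⟩ := exists_fp y
  exact WV_le fun v hv h1 => (m.gen' hA f (y.le hs) (y.le ht) (x hv) h1
    (le_cent1_iff.2 (c hv) hs) (le_cent1_iff.2 (c hv) ht)).trans (sup_le (sup_le
      (le_WV hs f.l.ne_one) (le_WV ht f.r.ne_one)) (le_WV (mul_mem hs ht) f.iv.ne_one))

theorem norm_WV (x : X ≤ 𝐂 A) : A ≤ 𝐍 (WV r D X) :=
  norm_iSup fun a => (m.rr1 hA a.2.2 (x a.2.1)).norm

theorem WV_ne (e : Elem 2 3 E (𝐂 A)) : WV r D E ⊔ A ≠ ⊤ := by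
  have cc : ∀ {s t}, s ∈ E → t ∈ E → s ∈ 𝐂₁ t := fun hs ht => mem_cent1.2 (e.abel.mul_comm hs ht)
  by_cases b : ∀ t ∈ E, t ≠ 1 → ∀ s ∈ E, s ≠ 1 → Rg r D (𝐂₁ t) ⊓ 𝐂₁ s ≤ Rg r D (𝐂₁ s)
  · have := Fact.mk Nat.prime_two
    have o := (Cfsg.Agent.S0217.result (p := 2) E (fun a ha b hb => e.abel.mul_comm ha hb) e.ab.pow
      e.card.ge (fun a => Rg r D (𝐂₁ a)) (fun _ _ _ => Rg_le)
      (fun _ _ _ => (odd_iff_pi.1 (m.oddr Rg_pi)).not_dvd' Nat.prime_two rfl)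
      (fun a ha _ b hb x hx => (m.Rg_normal _).conj_mem (cc hb ha) hx) (fun _ _ _ => Rg_pi.sol) b).1
    exact fun e' => m.ns (e' ▸ m.sol_sup hA (sol_of_odd (odd_iff_pi.2
      ((piNat_compl_single Nat.prime_two).2 o))) (m.norm_WV hA e.le))
  push Not at b
  obtain ⟨t, ht, t1, s, hs, s1, b⟩ := b
  have rt := m.rr1 hA t1 (e.le ht)
  obtain ⟨z, hz, z1⟩ := exists_mem_ne_one (H := Rg r D (𝐂₁ t) ⊓ 𝐂₁ s ⊓ 𝐂 A) fun e' => b (by
    have := m.le1' hA s1 (e.le hs) rt.pi rt.norm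
    rw [e', sup_bot_eq] at this
    exact this.trans inf_le_left)
  have f : FP s t := ⟨iv_of_ab e.ab hs s1, iv_of_ab e.ab ht t1, e.abel.mul_comm hs ht,
    fun e' => b (e' ▸ inf_le_left)⟩
  have k : ∀ v ∈ E, v ≠ 1 → z ∈ 𝐂₁ v → Rg r D (𝐂₁ v) ≤ 𝐂₁ z := fun v hv v1 c => le_cent1_iff.2
    (m.jj A hA _ _ rt (m.rr1 hA v1 (e.le hv)) z ⟨hz.1.1, hz.2⟩ ((m.Rg_normal _).norm c))
  refine fun e' => m.c1 z1 (eq_top_iff.2 (e'.ge.trans (sup_le (WV_le fun v hv v1 => ?_)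
    (le_cent1_iff.2 hz.2))))
  exact (m.gen' hA f (e.le hs) (e.le ht) (e.le hv) v1 (cc hs hv) (cc ht hv)).trans (sup_le (sup_le
    (k s hs s1 hz.1.2) (k t ht t1 (Rg_le hz.1.1)))
    (k _ (mul_mem hs ht) f.iv.ne_one (cent1_mul_of hz.1.2 (Rg_le hz.1.1))))

theorem WV_pi (x : X ≤ 𝐂 A) (h : WV r D X ⊔ A ≠ ⊤) : PiGrp {r} (WV r D X) :=
  Rg_pi.le (WV_le fun v hv h1 => m.le_Rg (m.sub _ h) hA le_sup_right (m.rr1 hA h1 (x hv))
    ((le_WV hv h1).trans le_sup_left))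

theorem rr_le (n : T ⊴ ⊤) (h1 : T ≠ ⊥) (hR : RR r A R) : R ≤ T := by
  have := der_sup_le (m.cyc hA).abel (le_top.trans n.norm)
  rw [m.sup_top hA n h1] at this
  exact hR.comm.ge.trans ((commutator_mono le_top le_top).trans this)

theorem two_le (n : T ⊴ ⊤) (h1 : T ≠ ⊥) (q : PiGrp {2} Q) : Q ≤ T :=
  q.le_of_relIndex le_top n.norm (by
    rw [← m.sup_top hA n h1, relIndex_sup_norm' (.inl (le_top.trans n.norm))]
    exact (odd_iff_pi.1 (m.odd hA)).relIndex _)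

end Mn

theorem Mn.core (m : Mn p r D) (n : T ⊴ ⊤) {t : T} (i : Iv t) : 𝐎 {2}ᶜ (𝐂₁ t) ≠ ⊥ := fun e => by
  obtain ⟨A, hA⟩ := m.ex
  have i' : Iv (t : G) := (iv_map_iff T.subtype_injective).2 i
  obtain ⟨A, hA, c⟩ := m.fix2 hA i'.piGrp
  have c := zpowers_le.1 (m.cent2 hA i'.piGrp c)
  have l := m.rr_le hA n (ne_bot_of_mem t.2 i'.ne_one) (m.rr1 hA i'.ne_one c)
  have e' := map_inf_cent1 (A := ⊤) (x := t) T.subtype_injective
  rw [top_inf_eq, map_top_subtype] at e'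
  have := map_O {2}ᶜ (𝐂₁ t) T.subtype_injective
  rw [e, Subgroup.map_bot, e'] at this
  exact m.Rt_ne hA i' c (eq_bot_mono this.symm (le_O ((m.Rg_normal _).of_le (le_inf l Rg_le) inf_le_right)
    (odd_iff_pi.1 (m.oddr Rg_pi))))

theorem Mn.conn (m : Mn p r D) (n : T ⊴ ⊤) [IsSimpleGroup T] (nc : ¬ IsMulCommutative T)
    {S : Subgroup T} (hS : Syl 2 S ⊤) (r3 : 2 < pRank 2 S) : ¬ Cfsg.IsFourConnected S := fun c => by
  obtain ⟨A, hA⟩ := m.ex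
  have inj := T.subtype_injective
  obtain ⟨A, hA, cA⟩ := m.fix2 hA ((piGrp_map_iff inj).2 hS.pi)
  have cA := m.cent2 hA ((piGrp_map_iff inj).2 hS.pi) cA
  obtain ⟨E, hE⟩ := exists_elem (n := 3) r3
  have vx : ∀ {X}, Sig.Vx 2 2 S X → Sig.Vx 2 2 (𝐂 A) (X.map T.subtype) := fun x =>
    ⟨(abelem_map_iff inj).2 x.ab, (card_map inj).symm ▸ x.rk, (map_mono x.le).trans cA⟩
  have vE : Sig.Vx 2 2 S E := Sig.Elem.vx hE (by norm_num)
  have ne := m.WV_ne hA (((elem_map_iff inj).2 hE).mono cA)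
  have pi := m.WV_pi hA (vx vE).le ne
  have eq : ∀ X, Sig.Vx 2 2 S X → WV r D (X.map T.subtype) = WV r D (E.map T.subtype) := fun X x =>
    (Sig.fourConnected_subgroup_iff.1 c E X vE x).ind (T := fun X => WV r D (X.map T.subtype) = _) rfl
      fun X Y x y c e => e ▸ le_antisymm (m.WV_mono hA (vx y).le (vx x) (map_cent (cent_symm c) _))
        (m.WV_mono hA (vx x).le (vx y) (map_cent c _))
  obtain ⟨t, ht, t1⟩ := exists_mem_ne_one hE.ne_bot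
  have i := iv_of_ab hE.ab ht t1
  have i' : Iv (t : G) := (iv_map_iff inj).2 i
  have l := le_WV (r := r) (D := D) (mem_map_of_mem T.subtype ht) i'.ne_one
  have h1 := ne_bot_mono (m.Rt_ne hA i' ((vx vE).le (mem_map_of_mem _ ht))) l
  have lT : WV r D (E.map T.subtype) ≤ T := WV_le fun v hv v1 =>
    m.rr_le hA n (ne_bot_of_mem t.2 i'.ne_one) (m.rr1 hA v1 ((vx vE).le hv))
  have key : ∀ X, Sig.Vx 2 2 S X → ∀ g : T, cj g X ≤ S → g ∈ 𝐍 ((WV r D (E.map T.subtype)).subgroupOf T) :=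
    fun X x g l => le_normalizer_comap _ (mem_norm_of_cj_le (by
      have := m.cj_WV g (X.map T.subtype)
      rwa [eq X x, show cj (g : G) (X.map T.subtype) = _ from (map_cj T.subtype g X).symm,
        eq _ ⟨(x.cj g).ab, (x.cj g).rk, l⟩] at this))
  set W := WV r D (E.map T.subtype)
  have h2 : W.subgroupOf T ≠ ⊥ := fun e => h1 (by rw [← map_subgroupOf lT, e, Subgroup.map_bot])
  have pi' : PiGrp {r} (W.subgroupOf T) := by rwa [PiGrp, card_subgroupOf' lT]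
  have SM : S ≤ 𝐍 (W.subgroupOf T) := fun g hg => key E vE g (cj_le_of_mem hg hE.le)
  refine (Rt.TC.main nc (fun S h => Cfsg.Agent.S0507.result S h) hS (Rt.TC.ru_of hS SM
    fun V k hV g hg => key V (Sig.Elem.vx ((Sig.klein_iff.1 k).of_le hV) le_rfl) g hg) (fun e => ?_)
    SM).2.elim (fun e => h2 (BG.eq_bot_mono e (le_O (normalIn_norm _) (pi'.of_single_ne m.r2))))
    fun e => m.core n i (Rt.TC.m11_core e (Bender.iv_iff.2 i))
  have := normalIn_top.1 ⟨le_top, e.ge⟩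
  rcases this.eq_bot_or_eq_top with e | e
  · exact h2 e
  · exact (Ab2.ns_top nc).not_sol (e ▸ pi'.sol)

end CF.Fset
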