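import Cfsg.Agent.TsY.MSCor

/-! Groups whose `p'`-subgroups are nilpotent. -/

set_option autoImplicit false
set_option linter.unusedSectionVars false

namespace CF.MS
open Subgroup Cfsg CF.BG CF.BN.Suz CF.Loc
open CF.Ab2 (NS ns_top p2 S4)

universe u
section
variable {G H : Type*} [Group G] [Group H] [Finite G] {π : Set ℕ} {p r : ℕ} {x : G}

theorem lift_pi {f : G →* H} {K : Subgroup H} {M : Subgroup G} (l : K ≤ M.map f) (k : PiGrp π K) :
    ∃ L ≤ M, PiGrp π L ∧ L.map f = K := by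
  obtain ⟨Y, y, e⟩ := exists_map_of_le l
  obtain ⟨L, lY, rfl, mn⟩ := exists_minimal (P := fun L : Subgroup G => L.map f = K) e
  refine ⟨L, lY.trans y, fun q pq d => by_contra fun n => ?_, rfl⟩
  have nN : f.ker ⊓ L ⊴ L := normalIn_inf_right le_normalizer_of_normal
  have red : ∀ X ≤ L, ∀ N ≤ f.ker, L ≤ N ⊔ X → X = L := fun X a N b c => mn X (le_antisymm (map_mono a)
    ((map_mono c).trans (by rw [Subgroup.map_sup, (Subgroup.map_eq_bot_iff _).2 b, bot_sup_eq]))) a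
  obtain ⟨Q, s⟩ := exists_syl q (f.ker ⊓ L)
  have nQ := red _ inf_le_left _ inf_le_left (s.syl_frattini_sup nN).ge
  have s' := s.trans_idx inf_le_right (by
    rw [inf_relIndex_right, relIndex_ker]; exact k.to_compl_single n)
  obtain ⟨X, a, b⟩ := s'.exists_compl (nQ.ge.trans inf_le_right)
  exact b.pi q pq (red X a.right_le Q (s.le.trans inf_le_left) a.sup.ge ▸ d) rfl

theorem inv_of_real (h : ∃ g, g * x * g⁻¹ = x⁻¹) (o : orderOf x = r) : Inv r (⊤ : Subgroup G) := by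
  obtain ⟨g, e⟩ := h
  obtain ⟨y, z, -, b, y1, z1, rfl⟩ := exists_piPart {2} g
  have c : (y * z) ^ 2 ∈ 𝐂₁ x := by
    rw [mem_cent1, ← mul_inv_eq_iff_eq_mul]
    calc _ = y * z * (y * z * x * (y * z)⁻¹) * (y * z)⁻¹ := by simp [sq, mul_assoc]
      _ = x := by rw [e, ← conj_inv, e, inv_inv]
  obtain ⟨m, f⟩ := b
  have : z ^ 2 ∈ 𝐂₁ x := by
    rw [← f, ← zpow_natCast, ← zpow_mul, mul_comm, zpow_mul, zpow_natCast]; exact zpow_mem c _
  have := mem_cent1.1 (zpowers_le.2 this (mem_zpowers_pow_iff.2 ((piNat_self p2).coprime z1)))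
  obtain ⟨k, o2⟩ := y1.exists_pow (orderOf_pos y).ne'
  refine ⟨y, trivial, x, trivial, ⟨k, o2 ▸ pow_orderOf_eq_one y⟩, o, ?_⟩
  rw [← e, mul_assoc y z, this]; group

theorem suz_inv (h : Lie.IsoSuzuki G) (hr : r.Prime) (r2 : r ≠ 2) (d : r ∣ Nat.card G) :
    Inv r (⊤ : Subgroup G) := by
  obtain ⟨F, _, _, m, hm, hF, ⟨e⟩⟩ := h
  have D := (lieD F m hF).ofEquiv e
  have c := Nat.card_eq_fintype_card.trans hF
  have := Fact.mk hr
  obtain ⟨x, rfl⟩ := exists_prime_orderOf_dvd_card' r d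
  refine inv_of_real ?_ rfl
  rcases D.trichotomy x with ⟨g, h⟩ | ⟨g, s, rfl⟩ | h
  · exact (r2 ((Nat.prime_dvd_prime_iff_eq hr p2).1 (hr.dvd_of_dvd_pow (n := 2) (m := 2)
      (orderOf_dvd_of_pow_eq_one ((D.conj g).pow_four_of_mem_U h))))).elim
  · exact ⟨_, (D.conj g).w_conj_h s⟩
  · exact (h.exists_inverting (sq_two_pow c) (eight_le_natCard hm c)).imp fun g e => e x (self_mem_cent1 x)

end

theorem sol_of_nil {G : Type u} [Group G] [Finite G] {p : ℕ} (p3 : 3 < p)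
    (h : ∀ H : Subgroup G, PiGrp {p}ᶜ H → Nil H) : Group.IsSolvable G := by
  refine red_normal (fun G _ => ∀ H : Subgroup G, PiGrp {p}ᶜ H → Nil H) (fun G _ _ N _ h =>
    ⟨fun K k => (nil_map_iff N.subtype_injective).1 (h _ (k.map _)), fun K k => ?_⟩) (fun G _ _ n h => ?_) G h
  · obtain ⟨L, -, a, rfl⟩ := lift_pi (f := QuotientGroup.mk' N) (M := ⊤)
      (le_top.trans (map_top_of_surjective _ (QuotientGroup.mk'_surjective N)).ge) k
    exact (h L a).map _
  have c : ∀ {A B : Subgroup G}, A ≤ 𝐍 B → PiGrp {p}ᶜ A → PiGrp {p}ᶜ B → (♯A).Coprime (♯B) → A ≤ 𝐂 B :=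
    fun n a b => (h _ (a.sup b (.inl n))).cent_of_coprime le_sup_left le_sup_right
  have i : ∀ r, r.Prime → r ≠ 2 → r ≠ p → ¬ Inv r (⊤ : Subgroup G) := fun r a b d ⟨x, _, y, _, ⟨k, e⟩, o, f⟩ => by
    have u := PiElt.zpowers ((piNat_pow_self p2 k).dvd (orderOf_dvd_of_pow_eq_one e))
    have v := piGrp_of_card_prime a (o ▸ Nat.card_zpowers y)
    have := zpowers_le.1 (c (zpowers_le.2 (cj_eq_self.1 (by rw [BG.cj_zpowers, f, zpowers_inv])))
      (u.of_single_ne (by omega)) (v.of_single_ne d) (u.coprime (v.of_single_ne b))) y (mem_zpowers y)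
    rw [← this, mul_inv_cancel_right, eq_inv_iff_mul_eq_one, ← sq] at f
    exact b ((Nat.prime_dvd_prime_iff_eq a p2).1 (o ▸ orderOf_dvd_of_pow_eq_one f))
  have s4 : ∀ K : Subgroup G, NS K → ¬ S4 K := fun K n ⟨V, v, e⟩ => by
    obtain ⟨z, hz, o, tr⟩ := n.exists_tr_four v e
    obtain ⟨a, ha, a1⟩ := exists_mem_ne_one (n.syl_ne v)
    have t := tr.card (zpowers_le.2 hz.2) ha a1
    obtain ⟨y, w, hy, hw, y1, w1, f⟩ := exists_piPart {p} z
    have m : y ∈ 𝐂₁ a := by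
      obtain ⟨j, rfl⟩ := hy
      refine zpowers_le.2 (?_ : _ ^ 3 ∈ _) (mem_zpowers_pow_iff.2 (coprime_of_primes fun q a b d => ?_))
      · rw [← zpow_natCast, ← zpow_mul, mul_comm, zpow_mul, zpow_natCast]
        exact zpow_mem (pow_mem_of_dvd (by omega : _ = 3).dvd) _
      · exact absurd (Nat.le_of_dvd three_pos (y1 q a d ▸ b)) p3.not_ge
    have := mul_mem m (cent_le_cent1 ha (zpowers_le.1 (c (zpowers_le.2 (zpowers_le.2 hz.2 hw)) w1.zpowers
      (v.pi.of_single_ne (by omega)) ((o.of_mem_zpowers hw).zpowers.coprime' v.pi))))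
    rw [relIndex_eq_one.2 (zpowers_le.2 (f ▸ this))] at t
    omega
  have h3 := i 3 Nat.prime_three (by decide) p3.ne
  rcases Fgs1.gd_of_s3free n h3 with k | k | k
  · refine n.not_sol (Char.isSolvable_of_card_primeFactors_le_two ((Finset.card_le_card fun r m => ?_).trans
      (Finset.card_le_two (a := 2) (b := p))))
    obtain ⟨a, b, -⟩ := Nat.mem_primeFactors.1 m
    by_contra f
    rw [Finset.mem_insert, Finset.mem_singleton, not_or] at f
    exact i r a f.1 f.2 (suz_inv (Sig.suz_of_bender (k.bender n) h3) a f.1 (card_top (G := G) ▸ b))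
  · exact s4 _ n k
  · obtain ⟨t, -, j⟩ := GW.exists_iv (K := (⊤ : Subgroup G)) fun o => n.not_od (Ab2.od_iff.1 o)
    obtain ⟨K, -, nK, s, -⟩ := (k.cent t (mem_top t) j).ex
    exact s4 K nK s

end CF.MS
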