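import Cfsg.Agent.TsY.Fgs1SzX

/-! Reduction of solvability criteria to (minimal) simple groups. -/

set_option autoImplicit false
set_option linter.unusedSectionVars false

namespace CF.MS
open Subgroup Cfsg CF.BG
open CF.Ab2 (NS ns_top p2)
open scoped MatrixGroups

universe u

theorem card_sub_lt {G : Type*} [Group G] [Finite G] {H : Subgroup G} (h : H ≠ ⊤) :
    Nat.card H < Nat.card G := (card_lt (lt_top_iff_ne_top.2 h)).trans_eq card_top

theorem card_quot_lt {G : Type*} [Group G] [Finite G] {N : Subgroup G} (h : N ≠ ⊥) :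
    Nat.card (G ⧸ N) < Nat.card G := by
  rw [← N.card_mul_index]
  exact lt_mul_of_one_lt_left N.index_ne_zero_of_finite.bot_lt ((one_lt_card_iff_ne_bot _).2 h)

theorem sol_ext {G : Type*} [Group G] (N : Subgroup G) [N.Normal] (h : Group.IsSolvable N)
    (k : Group.IsSolvable (G ⧸ N)) : Group.IsSolvable G :=
  Group.isSolvable_of_ker_le_range N.subtype (QuotientGroup.mk' N) (by simp)

/-- a property inherited by normal subgroups and quotients that no non-abelian simple group has -/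
theorem red_normal (P : ∀ (G : Type u) [Group G], Prop)
    (hs : ∀ (G : Type u) [Group G] [Finite G] (N : Subgroup G) [N.Normal], P G → P N ∧ P (G ⧸ N))
    (hm : ∀ (G : Type u) [Group G] [Finite G], NS (⊤ : Subgroup G) → ¬ P G)
    (G : Type u) [Group G] [Finite G] (h : P G) : Group.IsSolvable G := by
  induction hn : Nat.card G using Nat.strong_induction_on generalizing G with | _ n ih =>
  subst hn
  by_contra s
  have : Nontrivial G := not_subsingleton_iff_nontrivial.1 fun _ => s inferInstance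
  have : IsSimpleGroup G := ⟨fun N _ => by
    by_contra! k
    exact s (sol_ext N (ih _ (card_sub_lt k.2) _ (hs G N h).1 rfl) (ih _ (card_quot_lt k.1) _ (hs G N h).2 rfl))⟩
  exact hm G (ns_top fun c => s (Group.isSolvable_of_comm c.is_comm.comm)) h

/-- a property inherited by subgroups and quotients that no minimal simple group has -/
theorem red (P : ∀ (G : Type u) [Group G], Prop)
    (hs : ∀ (G : Type u) [Group G] [Finite G] (H : Subgroup G), P G → P H)
    (hq : ∀ (G : Type u) [Group G] [Finite G] (N : Subgroup G) [N.Normal],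
      (∀ H : Subgroup G, H ≠ ⊤ → Group.IsSolvable H) → N ≠ ⊤ → P G → P (G ⧸ N))
    (hm : ∀ (G : Type u) [Group G] [Finite G], IsMinimalSimple G → ¬ P G)
    (G : Type u) [Group G] [Finite G] (h : P G) : Group.IsSolvable G := by
  induction hn : Nat.card G using Nat.strong_induction_on generalizing G with | _ n ih =>
  subst hn
  by_contra s
  have p : ∀ H : Subgroup G, H ≠ ⊤ → Group.IsSolvable H := fun H k =>
    ih _ (card_sub_lt k) _ (hs G H h) rfl
  have : Nontrivial G := not_subsingleton_iff_nontrivial.1 fun _ => s inferInstance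
  refine hm G ⟨⟨fun N _ => ?_⟩, fun c => s (Group.isSolvable_of_comm c.is_comm.comm), p⟩ h
  by_contra! k
  exact s (sol_ext N (p N k.2) (ih _ (card_quot_lt k.1) _ (hq G N p k.2 h) rfl))

/-- a non-solvable group has a minimal simple section `H / N` with `N` solvable -/
theorem exists_sec (G : Type u) [Group G] [Finite G] (s : ¬ Group.IsSolvable G) :
    ∃ (H : Subgroup G) (N : Subgroup H) (_ : N.Normal), Group.IsSolvable N ∧ IsMinimalSimple (H ⧸ N) := by
  obtain ⟨H, h, m⟩ := (measure fun H : Subgroup G => ♯H).wf.has_min {H | ¬ Sol H}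
    ⟨⊤, fun k => s (Ab2.sol_top.1 k)⟩
  have p : ∀ K : Subgroup H, K ≠ ⊤ → Group.IsSolvable K := fun K k => by
    by_contra n
    refine m (K.map H.subtype) (mt (sol_map_iff H.subtype_injective).1 n) (?_ : ♯_ < ♯_)
    rw [card_map_of_injective H.subtype_injective]
    exact card_sub_lt k
  have : Nontrivial H := not_subsingleton_iff_nontrivial.1 fun _ => h inferInstance
  obtain ⟨N, ⟨n, n1⟩, mx⟩ := exists_max_card (P := fun N : Subgroup H => N.Normal ∧ N ≠ ⊤) (H := ⊥)
    ⟨inferInstance, bot_ne_top⟩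
  have sj := QuotientGroup.mk'_surjective N
  have c : ∀ K : Subgroup (H ⧸ N), K ≠ ⊤ → K.comap (QuotientGroup.mk' N) ≠ ⊤ := fun K k e =>
    k (by rw [← map_comap_eq_self_of_surjective sj K, e, map_top_of_surjective _ sj])
  have q : ¬ Group.IsSolvable (H ⧸ N) := fun k => h (sol_ext N (p N n1) k)
  have : Nontrivial (H ⧸ N) := not_subsingleton_iff_nontrivial.1 fun _ => q inferInstance
  refine ⟨H, N, n, p N n1, ⟨fun K _ => (em _).symm.imp_left fun k => ?_⟩,
    fun c => q (Group.isSolvable_of_comm c.is_comm.comm), fun K k => ?_⟩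
  · have l : N ≤ K.comap (QuotientGroup.mk' N) := (QuotientGroup.ker_mk' N).ge.trans (ker_le_comap _ _)
    rw [← map_comap_eq_self_of_surjective sj K, ← eq_of_le_of_card_ge l (mx _ ⟨inferInstance, c K k⟩),
      QuotientGroup.map_mk'_self]
  · rw [← map_comap_eq_self_of_surjective sj K]
    exact Sol.map (p _ (c K k)) _

/-- the prime powers `q` for which `PSL(2, q)` can be minimal simple -/
def Q (q : ℕ) : Prop :=
  (∃ p : ℕ, p.Prime ∧ q = 2 ^ p) ∨ (∃ p : ℕ, p.Prime ∧ p ≠ 2 ∧ q = 3 ^ p) ∨ (q.Prime ∧ 5 ≤ q)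

/-- Thompson's classification of the minimal simple groups -/
class Thm : Prop where
  out : ∀ {G : Type u} [Group G] [Finite G], IsMinimalSimple G →
    (∃ p : ℕ, p.Prime ∧ ∃ (F : Type) (_ : Field F) (_ : Fintype F), Fintype.card F = 2 ^ p ∧ Nonempty (G ≃* Matrix.ProjectiveSpecialLinearGroup (Fin 2) F)) ∨
      (∃ p : ℕ, p.Prime ∧ p ≠ 2 ∧ ∃ (F : Type) (_ : Field F) (_ : Fintype F), Fintype.card F = 3 ^ p ∧ Nonempty (G ≃* Matrix.ProjectiveSpecialLinearGroup (Fin 2) F)) ∨
      (∃ p : ℕ, p.Prime ∧ (p = 5 ∨ (5 < p ∧ (p % 5 = 2 ∨ p % 5 = 3))) ∧ ∃ (F : Type) (_ : Field F) (_ : Fintype F), Fintype.card F = p ∧ Nonempty (G ≃* Matrix.ProjectiveSpecialLinearGroup (Fin 2) F)) ∨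
      (∃ (F : Type) (_ : Field F) (_ : Fintype F), Fintype.card F = 3 ∧ Nonempty (G ≃* Matrix.ProjectiveSpecialLinearGroup (Fin 3) F)) ∨
      (Cfsg.IsSuzuki G ∧ ∃ p : ℕ, p.Prime ∧ Nat.card G = (2 ^ p) ^ 2 * ((2 ^ p) ^ 2 + 1) * (2 ^ p - 1))

theorem ns_of_min {G : Type*} [Group G] (h : IsMinimalSimple G) : NS (⊤ : Subgroup G) :=
  haveI := h.1
  ns_top h.2.1

theorem min_congr {G H : Type*} [Group G] [Group H] (h : IsMinimalSimple G) (e : G ≃* H) :
    IsMinimalSimple H := by
  have := h.1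
  refine ⟨e.symm.isSimpleGroup, fun c => h.2.1 ⟨⟨fun a b => e.injective ?_⟩⟩, fun K k => ?_⟩
  · rw [map_mul, map_mul, c.is_comm.comm]
  · rw [← map_comap_eq_self_of_surjective (f := e.toMonoidHom) e.surjective K]
    refine Sol.map (h.2.2 _ fun c => k ?_) _
    rw [← map_comap_eq_self_of_surjective (f := e.toMonoidHom) e.surjective K, c,
      map_top_of_surjective _ e.surjective]

theorem cases [Thm.{u}] {G : Type u} [Group G] [Finite G] (h : IsMinimalSimple G) :
    (∃ (F : Type) (_ : Field F) (_ : Fintype F), Q (Nat.card F) ∧ Nonempty (G ≃* PSL(2, F))) ∨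
      Nonempty (G ≃* PSL(3, ZMod 3)) ∨ Lie.IsoSuzuki G := by
  rcases Thm.out h with ⟨p, a, F, _, _, c, e⟩ | ⟨p, a, b, F, _, _, c, e⟩ | ⟨p, a, b, F, _, _, c, e⟩ |
    ⟨F, _, _, c, ⟨e⟩⟩ | ⟨c, -⟩
  · exact .inl ⟨F, _, ‹_›, .inl ⟨p, a, Nat.card_eq_fintype_card.trans c⟩, e⟩
  · exact .inl ⟨F, _, ‹_›, .inr (.inl ⟨p, a, b, Nat.card_eq_fintype_card.trans c⟩), e⟩
  · exact .inl ⟨F, _, ‹_›, .inr (.inr (by rw [Nat.card_eq_fintype_card, c]; exact ⟨a, by omega⟩)), e⟩
  · exact .inr (.inl ((CIT.psl_congr (c.trans (ZMod.card 3).symm)).map e.trans))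
  · exact .inr (.inr (Fgs1.suz_of_three (ns_of_min h) (CIT.not_three_dvd_suzuki c)))

end CF.MS
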