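import Cfsg.Agent.Perm.HkA2
import Cfsg.Agent.TsY.Fgs1Ko11

/-! An involution with exactly two fixed points: a unique involution in the two-point stabiliser. -/

set_option autoImplicit false
set_option linter.unusedSectionVars false

namespace CF.Hk
open MulAction Subgroup Cfsg CF.BG CF.Bender CF.ZD CF.Tw CF.Fisch
open scoped MatrixGroups

universe u v
variable {G : Type u} {Ω : Type v} [Group G] [Finite G] [MulAction G Ω] [Finite Ω]
variable {Q : Ω → Subgroup G} {α β γ : Ω} {g h m s s' t u v : G}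

theorem psu_one {F : Type} [Field F] [Fintype F] {q : ℕ} (hF : Fintype.card F = q ^ 2) (o : Odd q) {x y : PSU 3 F q}
    (i : Iv x) (j : Iv y) : IsConj x y := by
  have ko : PiGrp {2}ᶜ (QuotientGroup.mk' (center (SU 3 F q))).ker := by
    rw [QuotientGroup.ker_mk', PiGrp, Cfsg.Agent.S0279.result hF 3 le_rfl]
    exact ((piNat_compl_single p2).2 (by decide)).dvd (Nat.gcd_dvd_left 3 _)
  have l : ∀ {x : PSU 3 F q}, Iv x → ∃ z, Iv z ∧ QuotientGroup.mk' (center (SU 3 F q)) z = x := fun {x} i =>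
    let ⟨z, _, k, e⟩ := Ab2.exists_iv_lift' (H := ⊤) ko (y := x)
      (let ⟨z, e⟩ := QuotientGroup.mk'_surjective _ x; ⟨z, trivial, e⟩) i.orderOf
    ⟨z, iv_iff.2 k, e⟩
  obtain ⟨a, a1, rfl⟩ := l i
  obtain ⟨b, b1, rfl⟩ := l j
  exact MonoidHom.map_isConj _ (isConj_iff.2 ((Cfsg.Agent.S2360.result o hF a a1.ne a1.sq).1 b b1.ne b1.sq))

theorem CA.one (C : CA Q t α β) (uq : ∀ s ∈ D2 G α β, Iv s → s = t)
    (psl : ∀ {M : Subgroup G}, M ⊴ ⊤ → ∀ {F : Type} [Field F] [Fintype F], M ≃* PSL(2, F) →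
      Nat.card Ω = Fintype.card F + 1 → 3 < Fintype.card F → TL Q Set.univ) : TL Q Set.univ := by
  have : Fact (Nat.Prime 2) := ⟨p2⟩
  let _ := Fintype.ofFinite Ω
  have := C.t2.faith
  have n4 := C.mod4
  obtain ⟨T, hT⟩ := IsPGroup.exists_le_sylow (p := 2) (P := zpowers (⟨t, C.tD⟩ : D2 G α β))
    (IsPGroup.of_card (n := 1) (by rw [Nat.card_zpowers, ← Subgroup.orderOf_coe, C.iv.orderOf]; rfl))
  obtain ⟨M, nM, M1, -, tM, k⟩ := Cfsg.Agent.S3402.result C.t2.two (Nat.card_eq_fintype_card (α := Ω) ▸ n4)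
    (Nat.card_eq_fintype_card (α := Ω) ▸ C.big) α β C.ne T (.inr ⟨⟨t, C.tD⟩, hT (mem_zpowers _),
      (Subgroup.orderOf_coe _).symm.trans C.iv.orderOf, fun x hx x1 ω e => by
        obtain ⟨y, hy, i⟩ := exists_iv_of_pi ((syl_sylow T).pi.le (zpowers_le.2 (mem_map_of_mem _ hx)))
          (ne_bot_of_mem (mem_zpowers _) fun e => x1 (Subtype.ext e))
        have k : y • ω = ω := (zpowers_le (H := stabilizer G ω)).2 e hy
        rwa [uq y (zpowers_le.2 x.2 hy) i] at k⟩)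
  rw [← Nat.card_eq_fintype_card] at k
  have nM' := normalIn_top.2 nM
  rcases k with ⟨c, ⟨e⟩⟩ | ⟨F, _, _, l, c, ⟨e⟩⟩ | ⟨F, _, _, q, hF, l, c, ⟨e⟩⟩
  · obtain ⟨u, r⟩ := C.exists_re C.ne
    have c5 : ♯(Q α) = 5 := by have := C.rs.card_Q C.ne.symm; omega
    have l : ♯(D2 G α β) ≤ ♯(Q α) := Nat.card_le_card_of_injective
      (fun g => ⟨g * u * g⁻¹, C.rs.conj_fix g.2.1 r.mem⟩) fun g h k => by
        have m : u ∈ Q α ⊓ 𝐂₁ ((h : G)⁻¹ * g) := ⟨r.mem, mem_cent1.2 (by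
          calc _ = h⁻¹ * (h * u * h⁻¹ : G) * g := by simp [mul_assoc]
            _ = _ := by
              rw [show (h * u * h⁻¹ : G) = g * u * g⁻¹ from (Subtype.ext_iff.1 k).symm]; simp [mul_assoc])⟩
        have d := card_dvd_of_le (inf_le_left : Q α ⊓ 𝐂₁ ((h : G)⁻¹ * g) ≤ _)
        rw [c5, Nat.dvd_prime (by decide), card_eq_one] at d
        have := eq_of_le_of_card_ge inf_le_left (c5.trans (d.resolve_left (ne_bot_of_mem m r.n1)).symm).le
        exact Subtype.ext (inv_mul_eq_one.1 (C.cent_Q C.ne (mul_mem (inv_mem h.2) g.2) fun u hu =>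
          (mem_cent1.1 (this.ge hu).2).symm)).symm
    have d := Nat.le_of_dvd Nat.card_pos (card_subgroup_dvd_card M)
    rw [C.t2.card C.ne, Nat.card_congr e.toEquiv, nat_card_alternatingGroup, Nat.card_fin, c] at d
    simp only [Nat.factorial] at d
    omega
  · exact psl nM' e c l
  obtain ⟨r, rfl⟩ : ∃ r, q = r + 1 := ⟨q - 1, by omega⟩
  have o : Odd (r + 1) := by
    by_contra o
    have := (Nat.not_odd_iff_even.1 o).pow_of_ne_zero (n := 3) (by decide)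
    rw [Nat.even_iff] at this
    omega
  have tm := C.two_mem nM' M1 (two_of_sq C.iv.sq)
  have h : Ko.T2 M Ω := ⟨Perm.twoTrans_iff.1 tM, fun g k => Subtype.ext (C.ff g k)⟩
  obtain ⟨u, i, k⟩ := Ko.idx_u3 hF o
  have i' : Iv (⟨t, tm⟩ : M) := ⟨fun k => C.iv.ne (congrArg Subtype.val k), Subtype.ext C.iv.sq⟩
  rw [← Ko.idx_eq (t := ⟨t, tm⟩) e i fun y j => by
    simpa using e.symm.toMonoidHom.map_isConj (psu_one hF o (iv_iff.2 ((e.orderOf_eq _).trans i'.orderOf))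
      (iv_iff.2 ((e.orderOf_eq _).trans j.orderOf)))] at k
  obtain ⟨v, v1, v2⟩ := h.tt α β β α C.ne C.ne.symm
  have d : (D2 M α β).relIndex (𝐂₁ ⟨t, tm⟩) ∣ 2 := relIndex_dvd_two_iff.2 ⟨v,
    mem_cent1.2 (Subtype.ext (C.cenW v1 v2)), fun b hb => by
      have f : ∀ {a : Ω}, t • a = a → b • a = α ∨ b • a = β := fun k =>
        (C.fx _).1 (mem_FE.1 (St.smul (g := (b : G)) (cent_St (congrArg Subtype.val (mem_cent1.1 hb))) (mem_FE.2 k)))
      rcases f C.tD.1 with p | p <;> rcases f C.tD.2 with p' | p'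
      exacts [absurd (smul_left_cancel _ (p.trans p'.symm)) C.ne, .inr ⟨p, p'⟩,
        .inl ⟨show _ • α = α by rw [mul_smul, v1, p'], show _ • β = β by rw [mul_smul, v2, p]⟩,
        absurd (smul_left_cancel _ (p.trans p'.symm)) C.ne]⟩
  have j := relIndex_mul_index (H := D2 M α β) (K := 𝐂₁ ⟨t, tm⟩) fun g hg => mem_cent1.2 (Subtype.ext (C.cenD hg))
  rw [h.index C.ne, c, k, Nat.add_sub_cancel] at j
  have := Nat.mul_le_mul_right ((r + 1) ^ 2 * (r ^ 2 + r + 1)) (Nat.le_of_dvd two_pos d)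
  rw [j] at this
  obtain ⟨r, rfl⟩ : ∃ s, r = s + 2 := ⟨r - 2, by omega⟩
  nlinarith [Nat.zero_le (r ^ 6), Nat.zero_le (r ^ 5), Nat.zero_le (r ^ 4), Nat.zero_le (r ^ 3), Nat.zero_le (r ^ 2)]

theorem Core.caseA' (C : Core Q) (i : Iv t) (e : (FE Ω t).ncard = 2)
    (psl : ∀ {M : Subgroup G}, M ⊴ ⊤ → ∀ {F : Type} [Field F] [Fintype F], M ≃* PSL(2, F) →
      Nat.card Ω = Fintype.card F + 1 → 3 < Fintype.card F → TL Q Set.univ) : TL Q Set.univ := by
  obtain ⟨α, β, n, e⟩ := Set.ncard_eq_two.1 e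
  have A : CA Q t α β := ⟨C, i, n, Set.ext_iff.1 e⟩
  by_cases o : ∀ s ∈ D2 G α β, Iv s → s = t
  · exact A.one o psl
  push Not at o
  exact let ⟨_, hs, j, k⟩ := o; A.two j hs k

end CF.Hk
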