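import Cfsg.Agent.TsY.PermHkA3

/-! An involution whose fixed points form a projective line on which the root groups generate `SL₂`: basic facts. -/

set_option autoImplicit false
set_option linter.unusedSectionVars false

namespace CF.Hk
open MulAction Subgroup Cfsg CF.BG CF.Bender CF.ZD CF.Tw CF.Fisch
open scoped MatrixGroups

universe u v
variable {G : Type u} {Ω : Type v} [Group G] [Finite G] [MulAction G Ω] [Finite Ω]
variable {F : Type} [Field F] [Fintype F]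
variable {Q : Ω → Subgroup G} {α β γ : Ω} {a g h k s t u v w x y z : G} {pt : F → F → Ω} {π : SL(2, F) →* G}
  {M N : Subgroup G} {A B J : SL(2, F)}

theorem sq_neg_iff : A * A = -1 ↔ A 0 0 + A 1 1 = 0 := by
  have d := sl2_det A
  refine ⟨fun e => ?_, fun e => sl2_ext ?_ ?_ ?_ ?_⟩
  · have e1 := congrArg (fun g : SL(2, F) => g 0 0) e
    have e2 := congrArg (fun g : SL(2, F) => g 1 1) e
    have e3 := congrArg (fun g : SL(2, F) => g 0 1) e
    simp [sl2_mul_apply, neg_apply2] at e1 e2 e3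
    grind
  all_goals simp [sl2_mul_apply, neg_apply2]; grind

theorem sq_one (h2 : (2 : F) ≠ 0) (e : A * A = 1) : A = 1 ∨ A = -1 := by
  have d := sl2_det A
  have e1 := congrArg (fun g : SL(2, F) => g 0 0) e
  have e2 := congrArg (fun g : SL(2, F) => g 1 1) e
  have e3 := congrArg (fun g : SL(2, F) => g 0 1) e
  have e4 := congrArg (fun g : SL(2, F) => g 1 0) e
  simp [sl2_mul_apply] at e1 e2 e3 e4
  have n : A 0 0 + A 1 1 ≠ 0 := fun k => h2 (by grind)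
  have b : A 0 1 = 0 := mul_left_cancel₀ n (by linear_combination e3)
  have c : A 1 0 = 0 := mul_left_cancel₀ n (by linear_combination e4)
  rcases sq_eq_one_iff.1 (show A 0 0 ^ 2 = 1 by grind) with k | k
  · left; apply sl2_ext <;> simp [b, c, k]; grind
  · right; apply sl2_ext <;> simp [b, c, k, neg_apply2]; grind

theorem anti_sq (h2 : (2 : F) ≠ 0) (e : B * J = -(J * B)) : B * B = -1 := by
  have d := sl2_det J
  have e1 := congrArg (fun g : SL(2, F) => g 0 0) e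
  have e2 := congrArg (fun g : SL(2, F) => g 1 1) e
  have e3 := congrArg (fun g : SL(2, F) => g 0 1) e
  have e4 := congrArg (fun g : SL(2, F) => g 1 0) e
  simp only [sl2_mul_apply, neg_apply2] at e1 e2 e3 e4
  refine sq_neg_iff.2 (mul_left_cancel₀ h2 ?_)
  linear_combination J 1 1 * e1 + J 0 0 * e2 - J 1 0 * e3 - J 0 1 * e4 - 2 * (B 0 0 + B 1 1) * d

theorem inv_of_comm (h2 : (2 : F) ≠ 0) (hJ : J * J = -1) (hB : B * B = -1) (e : B * J * (B * J) = -1) (c : A * J = J * A) :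
    A * B * A = B := by
  have k : A * B * (A * B) = B * B := by
    have d := sl2_det J
    have e1 := congrArg (fun g : SL(2, F) => g 0 0) c
    have e3 := congrArg (fun g : SL(2, F) => g 0 1) c
    have e4 := congrArg (fun g : SL(2, F) => g 1 0) c
    rw [hB]
    rw [sq_neg_iff] at *
    simp only [sl2_mul_apply] at e e1 e3 e4 ⊢
    have p : J 1 1 = -J 0 0 := by linear_combination hJ
    have p' : B 1 1 = -B 0 0 := by linear_combination hB
    rw [p'] at e ⊢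
    rw [p] at d e e3 e4
    refine mul_left_cancel₀ h2 ?_
    clear hJ hB p p' c
    grind
  rwa [← mul_assoc, mul_left_inj] at k

theorem up_lo (e : upT (1 : F) * loT 1 = loT 1 * upT 1 ∨ upT (1 : F) * loT 1 = -(loT 1 * upT 1)) (h2 : (2 : F) ≠ 0) : False := by
  rcases e with e | e
  · simpa [sl2_mul_apply, upT_coe, loT_coe] using congrArg (fun g : SL(2, F) => g 0 0) e
  · have := congrArg (fun g : SL(2, F) => g 0 1) e
    simp [sl2_mul_apply, upT_coe, loT_coe, neg_apply2] at this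
    exact h2 (by linear_combination this)

theorem Core.real (C : Core Q) (nM : M ⊴ ⊤) (ne : M ≠ ⊥) (e : g * x * g⁻¹ = x⁻¹) : x ∈ M := by
  have := normalIn_top.1 nM
  obtain ⟨m, hm⟩ : Odd M.index :=
    Nat.not_even_iff_odd.1 (mt even_iff_two_dvd.1 ((piNat_compl_single p2).1 (relIndex_top_right M ▸ C.idx_odd nM ne)))
  have c : Commute (g ^ 2) x := by
    rw [Commute, SemiconjBy, ← mul_inv_eq_iff_eq_mul]
    calc _ = g * (g * x * g⁻¹) * g⁻¹ := by rw [sq]; group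
      _ = (g * x * g⁻¹)⁻¹ := (congrArg (g * · * g⁻¹) e).trans (by group)
      _ = x := by rw [e, inv_inv]
  have k : g ^ M.index * (x * (g ^ M.index)⁻¹ * x⁻¹) = (x ^ 2)⁻¹ := by
    rw [hm, pow_succ', pow_mul, ← mul_assoc, ← mul_assoc, mul_assoc g, (c.pow_left m).eq, mul_inv_rev, ← mul_assoc,
      ← mul_assoc, mul_inv_cancel_right, e, sq, mul_inv_rev]
  have := mul_mem (M.pow_index_mem x) (pow_mem (k ▸ mul_mem (M.pow_index_mem g)
    (this.conj_mem _ (inv_mem (M.pow_index_mem g)) x)) m)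
  rwa [hm, inv_pow, ← pow_mul, pow_succ', mul_inv_cancel_right] at this

/-- the standing hypotheses -/
structure B1 (Q : Ω → Subgroup G) (t : G) (pt : F → F → Ω) (π : SL(2, F) →* G) : Prop extends CB Q where
  T : TLd Q (FE Ω t) pt π
  z : π (-1) = t
  t1 : t ≠ 1
  uq : ∀ y ∈ D2 G (pt 1 0) (pt 0 1), Iv y → y * t = t * y → y = t

namespace B1
variable (C : B1 Q t pt π)
include C

theorem sq : t * t = 1 := by simpa only [C.z] using C.T.z_sq

theorem iv : Iv t := ⟨C.t1, C.sq⟩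

theorem cen (hg : g ∈ St G (FE Ω t)) : g * t = t * g := by simpa only [C.z] using C.T.z_cent C.rs hg

theorem cpi (A : SL(2, F)) : π A * t = t * π A := C.cen (C.T.st' A)

theorem cK (hk : k ∈ Pt G (FE Ω t)) : k * t = t * k := C.cen (Pt_le hk)

theorem kpi (hk : k ∈ Pt G (FE Ω t)) (A : SL(2, F)) : k * π A = π A * k := C.T.Pt_comm C.rs hk A

theorem inj : Function.Injective π := C.T.pi_inj (C.z ▸ C.t1)

theorem neg (A : SL(2, F)) : π (-A) = t * π A := by rw [← C.z, ← map_mul, neg_one_mul]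

theorem tD : t ∈ D2 G (pt 1 0) (pt 0 1) := ⟨C.T.ma, C.T.mb⟩

theorem tL : t ∈ LL Q (FE Ω t) := by simpa only [C.z] using C.T.mem_L C.rs (-1)

theorem fpf (i : Iv y) (c : y * t = t * y) (n : y ≠ t) (γ : Ω) (hγ : γ ∈ FE Ω t) : y • γ ≠ γ := fun e => by
  have p := Ko.par_iv (Δ := FE Ω t) i fun x hx => St.smul (cent_St c) hx
  rw [fx_eq, C.rs.even_cl (C.rs.cl_FE t) C.T.ma C.T.mb C.T.ab.symm] at p
  have l := (Set.ncard_pos (s := FE Ω t ∩ FE Ω y) (Set.toFinite _)).2 ⟨γ, hγ, e⟩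
  obtain ⟨a, ha, b, hb, ne⟩ := Ko.exists_pair (Δ := FE Ω t ∩ FE Ω y) (by omega)
  obtain ⟨A, rfl, rfl⟩ := C.T.exM C.rs ha.1 hb.1 ne
  have := C.uq ((π A)⁻¹ * y * π A) ⟨show _ • _ = _ by rw [mul_smul, mul_smul, ha.2, inv_smul_smul],
    show _ • _ = _ by rw [mul_smul, mul_smul, hb.2, inv_smul_smul]⟩ (by simpa using i.conj (π A)⁻¹)
    (C.cen (mul_mem (mul_mem (inv_mem (C.T.st' A)) (cent_St c)) (C.T.st' A)))
  rw [mul_assoc, inv_mul_eq_iff_eq_mul, C.cpi, mul_left_inj] at this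
  exact n this

theorem uK (hk : k ∈ Pt G (FE Ω t)) (e : k * k = 1) : k = 1 ∨ k = t := by
  by_contra! o
  exact C.fpf ⟨o.1, e⟩ (C.cK hk) o.2 _ C.T.ma (hk _ C.T.ma)

theorem tr (i : Iv y) (c : y * t = t * y) (n : y ≠ t) : Tr pt y ∧ (Dp pt y ↔ Fintype.card F % 4 = 3) :=
  C.T.tr_of_fpf C.rs (cent_St c) (i.sq ▸ one_mem _) (C.fpf i c n)

theorem iv_mul (i : Iv y) (c : y * t = t * y) (n : y ≠ t) : Iv (t * y) ∧ t * y * t = t * (t * y) ∧ t * y ≠ t :=
  ⟨⟨fun e => n (by rw [← mul_left_cancel_iff (a := t), e, C.sq]), by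
    rw [mul_assoc, ← mul_assoc y, c, mul_assoc, i.sq, mul_one, C.sq]⟩, by rw [mul_assoc, c], by simpa using i.ne⟩

theorem swp (i : Iv y) (c : y * t = t * y) (n : y ≠ t) : ∃ B, π B * y * (π B)⁻¹ = t * y := by
  obtain ⟨i', c', n'⟩ := C.iv_mul i c n
  obtain ⟨g, hg, e⟩ := C.T.conj_J C.rs (C.tr i c n).1 C.tL (C.tr i' c' n').1
  obtain ⟨B, rfl⟩ := C.T.of_L C.rs hg
  exact ⟨B, e⟩

theorem exists_s (n : g * t * g⁻¹ ≠ t) (c : g * t * g⁻¹ * t = t * (g * t * g⁻¹)) :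
    ∃ s, s * t * s⁻¹ = g * t * g⁻¹ ∧ s * (g * t * g⁻¹) * s⁻¹ = t := by
  obtain ⟨A, e⟩ := C.swp (C.iv.conj g) c n
  obtain ⟨B, e'⟩ := C.swp (y := g⁻¹ * t * g) (by simpa using C.iv.conj g⁻¹)
    (by rw [← mul_left_cancel_iff (a := g), ← mul_left_inj g⁻¹]; simpa [mul_assoc] using c.symm)
    fun k => n (by rw [mul_inv_eq_iff_eq_mul, ← inv_mul_eq_iff_eq_mul.1 ((mul_assoc ..).symm.trans k)])
  have a1 : π A * t * (π A)⁻¹ = t := by rw [C.cpi, mul_inv_cancel_right]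
  have b1 : g * π B * g⁻¹ * (g * t * g⁻¹) * (g * π B * g⁻¹)⁻¹ = g * t * g⁻¹ := by
    calc _ = g * (π B * t * (π B)⁻¹) * g⁻¹ := by group
      _ = _ := by rw [C.cpi, mul_inv_cancel_right]
  have b2 : g * π B * g⁻¹ * t * (g * π B * g⁻¹)⁻¹ = g * t * g⁻¹ * t := by
    calc _ = g * (π B * (g⁻¹ * t * g) * (π B)⁻¹) * g⁻¹ := by group
      _ = _ := by rw [e']; group
  generalize g * π B * g⁻¹ = b at *
  have s2 := (C.iv.conj g).sq
  generalize g * t * g⁻¹ = y at *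
  generalize π A = a at *
  refine ⟨a * b * a, ?_, ?_⟩
  · calc _ = a * (b * (a * t * a⁻¹) * b⁻¹) * a⁻¹ := by group
      _ = a * y * a⁻¹ * (a * t * a⁻¹) := by rw [a1, b2, ← conj_mul, a1]
      _ = _ := by rw [e, a1, ← c, mul_assoc, C.sq, mul_one]
  · calc _ = a * (b * (a * y * a⁻¹) * b⁻¹) * a⁻¹ := by group
      _ = a * (b * t * b⁻¹ * (b * y * b⁻¹)) * a⁻¹ := by rw [e]; group
      _ = _ := by rw [b1, b2, c, mul_assoc t, s2, mul_one, a1]

theorem lt : Fintype.card F + 1 < Nat.card Ω := by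
  rw [← C.T.card, ← Set.ncard_univ]
  exact Set.ncard_lt_ncard (Set.ssubset_univ_iff.2 (C.ne_univ C.t1))

theorem mod4 : Nat.card Ω % 4 = (Fintype.card F + 1) % 4 := by rw [← C.par C.sq, C.T.card]

theorem dvd : Fintype.card F ∣ Nat.card Ω - 1 := by
  rw [C.rs.card_Q C.T.ab.symm, Nat.add_sub_cancel, ← C.T.card_U C.rs]
  exact card_dvd_of_le inf_le_left

theorem cnt : Nat.card Ω * (Nat.card Ω - 1) * (𝐂₁ t).relIndex (D2 G (pt 1 0) (pt 0 1)) =
    (Fintype.card F + 1) * Fintype.card F * (𝐂₁ t).index := by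
  have h : TT (𝐂₁ t) (FE Ω t) := (C.rs.tt (C.rs.cl_FE t) C.T.two_lt).mono
    (fun g hg => mem_cent1.2 (C.cen (LL_le hg))) fun g hg x hx => St.smul (cent_St (mem_cent1.1 hg)) hx
  have e := h.rel C.T.ma C.T.mb C.T.ab
  rw [C.T.card, Nat.add_sub_cancel] at e
  rw [← C.t2.index C.T.ab, ← e, mul_comm, ← inf_relIndex_right, relIndex_mul_index inf_le_right, inf_comm,
    ← inf_relIndex_right (D2 _ _ _), relIndex_mul_index inf_le_right]

theorem le_C : π.range ≤ 𝐂₁ t := by rintro _ ⟨A, rfl⟩; exact mem_cent1.2 (C.cpi A)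

theorem card_L : ♯π.range = Fintype.card F * (Fintype.card F ^ 2 - 1) := by
  rw [← Classical.card_SL_two, Nat.card_congr (MonoidHom.ofInjective C.inj).toEquiv]

theorem L_norm : π.range ⊴ 𝐂₁ t := ⟨C.le_C, fun g hg => C.T.L_eq C.rs ▸ C.rs.St_norm (cent_St (mem_cent1.1 hg))⟩

theorem mvD (hg : g * t = t * g) (s : S1 pt g) (n : ¬ Dp pt g) :
    ∃ h ∈ D2 G (pt 1 0) (pt 0 1), S1 pt h ∧ ¬ Dp pt h := by
  have m := cent_St (Ω := Ω) hg
  obtain ⟨A, e1, e2⟩ := C.T.exM C.rs (St.smul m C.T.ma) (St.smul m C.T.mb) fun e => C.T.ab (smul_left_cancel g e)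
  refine ⟨π A⁻¹ * g, ⟨show _ • _ = _ by rw [mul_smul, ← e1, map_inv, inv_smul_smul],
    show _ • _ = _ by rw [mul_smul, ← e2, map_inv, inv_smul_smul]⟩, (C.T.s1_pi _).mul s, fun k => n ?_⟩
  exact ((C.T.dp_mul C.rs (C.T.st' _) m).1 k).1 (C.T.dp_pi _)

theorem simple (h : ∃ g ∈ D2 G (pt 1 0) (pt 0 1), S1 pt g ∧ ¬ Dp pt g) : IsSimpleGroup G := by
  have : Nontrivial G := ⟨t, 1, C.t1⟩
  refine ⟨fun M nM => or_iff_not_imp_left.2 fun ne => ?_⟩
  have nM' := normalIn_top.2 nM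
  obtain ⟨g, hg, e⟩ : ∃ g : G, Sc pt g (-1) := by
    by_cases o : IsSquare (-1 : F)
    · obtain ⟨i, hi⟩ := o
      exact ⟨_, by simpa only [hi, pow_two] using C.T.sc_hT (a := i) (by rintro rfl; simp at hi)⟩
    obtain ⟨g, hg, s, n⟩ := h
    obtain ⟨r, e⟩ := C.T.sc_of C.rs s hg
    obtain ⟨i, hi⟩ := nsq_mul o (mt (C.T.dp_sc e).2 n)
    have i0 : i ≠ 0 := by rintro rfl; exact Sc.ne e (by simpa using hi)
    exact ⟨_, ((C.T.sc_hT (inv_ne_zero i0)).mul e).cast (by field_simp; linear_combination -hi) rfl rfl rfl rfl⟩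
  rw [eq_top_iff, ← C.sup_Q nM' ne (pt 1 0), sup_le_iff]
  refine ⟨le_rfl, fun x hx => ?_⟩
  obtain ⟨y, hy, c, z, hz, rfl⟩ := Suz.exists_cent_mul_inv C.sq (C.rs.odd _) (fun x => C.rs.conj_fix C.T.ma) hx
  obtain ⟨s, rfl⟩ := C.T.mem_U C.rs hy (cent_St c.symm)
  exact mul_mem (C.real nM' ne (g := g) (by rw [C.T.conj_up C.rs ⟨hg, e⟩, ← map_inv, ← upT_neg]; simp))
    (C.real nM' ne hz.2)

theorem ncm : π (upT 1) * π (loT 1) ≠ π (loT 1) * π (upT 1) := fun e =>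
  up_lo (.inl (C.inj (by simpa using e))) C.T.two

end B1

end CF.Hk
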