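import Cfsg.Agent.TsY.PermHkU1

/-! The unitary case, `q ≡ 3 mod 4`: one class of involutions and `2`-rank two. -/

set_option autoImplicit false
set_option linter.unusedSectionVars false

namespace CF.Hk
open MulAction Subgroup Cfsg CF.BG CF.Bender CF.ZD CF.Tw CF.Fisch
open scoped MatrixGroups

universe u v
variable {G : Type u} {Ω : Type v} [Group G] [Finite G] [MulAction G Ω] [Finite Ω]
variable {F : Type} [Field F] [Fintype F]
variable {Q : Ω → Subgroup G} {α β γ : Ω} {a g h k s t u v w x y z : G} {pt : F → F → Ω} {π : SL(2, F) →* G}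
  {M N : Subgroup G} {A B J : SL(2, F)}

theorem one_of_cent (i : Iv t) (h : ∀ u, Iv u → u * t = t * u → IsConj t u) (j : Iv u) : IsConj t u := by
  obtain ⟨S, s, l⟩ := exists_syl_le le_top (iv_pi i)
  obtain ⟨z, hz, k⟩ := exists_iv_of_pi (s.pi.inf_left (K := 𝐂 S))
    (s.pi.center_ne_bot (ne_bot_of_mem (l (mem_zpowers t)) i.ne))
  obtain ⟨g, rfl⟩ := isConj_iff.1 (h z k (mem_cent.1 hz.2 t (l (mem_zpowers t))).symm)
  obtain ⟨y, -, m⟩ := s.syl_cj_le le_top (iv_pi j)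
  have c := mem_cent.1 hz.2 _ (m (conj_mem_cj.2 (mem_zpowers u)))
  refine (h _ ((j.conj y).conj g⁻¹) ?_).trans (isConj_iff.2 ⟨y⁻¹ * g, by group⟩)
  calc _ = g⁻¹ * (y * u * y⁻¹ * (g * t * g⁻¹)) * g := by group
    _ = _ := by rw [c]; group

namespace B1
variable (C : B1 Q t pt π)
include C

theorem pi_Pt (e : A = 1 ∨ A = -1) : π A ∈ Pt G (FE Ω t) := by
  rcases e with rfl | rfl
  exacts [map_one π ▸ one_mem _, C.T.z_Pt]

theorem mul_mul (hk : k ∈ Pt G (FE Ω t)) : π A * k * (π B * h) = π (A * B) * (k * h) := by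
  rw [mul_assoc, ← mul_assoc k, C.kpi hk, map_mul, mul_assoc, mul_assoc]

theorem jsq (hk : k ∈ Pt G (FE Ω t)) (e : π J * k * (π J * k) = 1) (n : π J * k ∉ Pt G (FE Ω t)) : J * J = -1 := by
  rw [C.mul_mul hk, mul_eq_one_iff_eq_inv] at e
  exact (C.T.ker _ (e ▸ inv_mem (mul_mem hk hk))).resolve_left fun e => n (mul_mem (C.pi_Pt (sq_one C.T.two e)) hk)

theorem notK (i : Iv y) (n : y ≠ t) : y ∉ Pt G (FE Ω t) := fun m => (C.uK m i.sq).elim i.ne n

theorem comm_of (hk : k ∈ Pt G (FE Ω t)) (c : π A * (π J * k) = π J * k * π A) : A * J = J * A := by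
  rw [mul_assoc, C.kpi hk, ← mul_assoc, ← mul_assoc, mul_left_inj, ← map_mul, ← map_mul] at c
  exact C.inj c

variable (q3 : Fintype.card F % 4 = 3)
include q3

theorem dec (i : Iv y) (c : y * t = t * y) (n : y ≠ t) : ∃ J, ∃ k ∈ Pt G (FE Ω t), y = π J * k ∧ J * J = -1 := by
  obtain ⟨J, k, hk, rfl⟩ := C.T.kl C.rs (C.tr i c n).1.s1 ((C.tr i c n).2.2 q3)
  exact ⟨J, k, hk, rfl, C.jsq hk i.sq (C.notK i n)⟩

theorem invs (i : Iv y) (c : y * t = t * y) (n : y ≠ t) (j : Iv w) (d : w * t = t * w) (m : w ≠ t) (e : w * y = y * w)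
    (n1 : w ≠ y) (n2 : w ≠ t * y) (a : π A * y = y * π A) : π A * w * π A = w := by
  have s : w * y * (w * y) = 1 := by rw [mul_assoc, ← mul_assoc y, ← e, mul_assoc, i.sq, mul_one, j.sq]
  have p : w * y ∉ Pt G (FE Ω t) := fun p => (C.uK p s).elim
    (fun k => n1 (by rw [← mul_left_inj y, k, i.sq])) fun k => n2 (by rw [← k, mul_assoc, i.sq, mul_one])
  obtain ⟨J, k, hk, rfl, hJ⟩ := C.dec q3 i c n
  obtain ⟨B, h, hh, rfl, hB⟩ := C.dec q3 j d m
  rw [C.mul_mul hh] at s p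
  rw [← mul_assoc, ← map_mul, mul_assoc, C.kpi hh, ← mul_assoc, ← map_mul,
    inv_of_comm C.T.two hJ hB (C.jsq (mul_mem hh hk) s p) (C.comm_of hk a)]

theorem exists_x (i : Iv y) (c : y * t = t * y) (n : y ≠ t) (s1 : s * t * s⁻¹ = y) (s2 : s * y * s⁻¹ = t) :
    ∃ A, π A * y = y * π A ∧ S1 pt (s * π A * s⁻¹) ∧ ¬ Dp pt (s * π A * s⁻¹) := by
  by_contra! o
  have := Fact.mk p2
  have key : ∀ j, ∃ A, π A ^ 2 ^ j = t ∧ π A * y = y * π A := fun j => by
    induction j with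
    | zero => exact ⟨-1, by simpa using C.z, by rw [C.z, c]⟩
    | succ j ih =>
      obtain ⟨A, e, a⟩ := ih
      have p : PiElt {2} (π A) := ((piNat_self p2).pow (j + 1)).dvd
        (orderOf_dvd_of_pow_eq_one (by rw [pow_succ, pow_mul, e, pow_two, C.sq]))
      have s := C.T.s1_two C.rs q3 (cent_St (by rw [← s2, conj_mul, conj_mul, a])) (p.conj s)
      obtain ⟨B, k, hk, f⟩ := C.T.kl C.rs s (o A a s)
      have cm : Commute (π B) k := (C.kpi hk B).symm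
      have g : y = π (B ^ 2 ^ j) * k ^ 2 ^ j := by rw [map_pow, ← cm.mul_pow, ← f, conj_pow, e, s1]
      refine ⟨B, ?_, ?_⟩
      · rw [pow_succ, pow_mul, ← map_pow, pow_two, ← map_mul,
          C.jsq (pow_mem hk _) (g ▸ i.sq) (g ▸ C.notK i n), C.z]
      · rw [g, map_pow]
        exact ((Commute.refl _).pow_right _).mul_right (cm.pow_right _)
  obtain ⟨A, e, -⟩ := key (Nat.card G)
  have := orderOf_eq_prime_pow (e ▸ C.t1) (by rw [pow_succ, pow_mul, e, pow_two, C.sq])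
  have l := _root_.orderOf_le_card (x := π A)
  have := Nat.lt_two_pow_self (n := Nat.card G + 1)
  omega

theorem nsq3 : ∃ h ∈ D2 G (pt 1 0) (pt 0 1), S1 pt h ∧ ¬ Dp pt h := by
  obtain ⟨g, n, c⟩ := C.zstar C.nr C.iv
  obtain ⟨s, s1, s2⟩ := C.exists_s n c.symm
  obtain ⟨A, a, e⟩ := C.exists_x q3 (C.iv.conj g) c.symm n s1 s2
  exact C.mvD (by rw [← s2, conj_mul, conj_mul, a]) e.1 e.2

theorem ne8 (n : g * t * g⁻¹ ≠ t) (c : g * t * g⁻¹ * t = t * (g * t * g⁻¹)) (j : Iv w) (d : w * t = t * w)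
    (e : w * (g * t * g⁻¹) = g * t * g⁻¹ * w) : w = t ∨ w = g * t * g⁻¹ ∨ w = t * (g * t * g⁻¹) := by
  obtain ⟨s, s1, s2⟩ := C.exists_s n c
  have i := C.iv.conj g
  generalize g * t * g⁻¹ = y at *
  by_contra! o
  obtain ⟨A, a, -, x⟩ := C.exists_x q3 i c n s1 s2
  obtain ⟨v, rfl⟩ : ∃ v, s * v * s⁻¹ = w := ⟨s⁻¹ * w * s, by group⟩
  have f := C.invs q3 i c n (w := v) (by simpa [mul_assoc] using j.conj s⁻¹)
    (by rwa [← s1, conj_mul, conj_mul, mul_left_inj, mul_right_inj] at e) (fun k => o.2.1 (k ▸ s1))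
    (by rwa [← s2, conj_mul, conj_mul, mul_left_inj, mul_right_inj] at d) (fun k => o.1 (k ▸ s2))
    (fun k => o.2.2 (by rw [k, ← conj_mul, s1, s2, c])) a
  have m : s * π A * s⁻¹ * t = t * (s * π A * s⁻¹) := by rw [← s2, conj_mul, conj_mul, a]
  have p : ¬ Dp pt (s * π A * s⁻¹ * (s * v * s⁻¹)) := fun p =>
    x (((C.T.dp_mul C.rs (cent_St m) (cent_St d)).1 p).2 ((C.tr j d o.1).2.2 q3))
  refine p ((C.tr ⟨fun k => p (by rw [k]; exact C.T.dp_Pt (one_mem _)), ?_⟩ (by rw [mul_assoc, d, ← mul_assoc, m, mul_assoc])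
    fun k => p (by rw [k]; exact C.T.dp_Pt self_Pt)).2.2 q3)
  rw [conj_mul, conj_mul, ← mul_assoc _ _ v, f, ← conj_mul, j.sq]

theorem one' (i : Iv y) (c : y * t = t * y) : IsConj t y := by
  by_cases n : y = t
  · rw [n]
  obtain ⟨g, n', c'⟩ := C.zstar C.nr C.iv
  have i' := C.iv.conj g
  have E := fun w => C.ne8 q3 (w := w) n' c'.symm
  refine (isConj_iff.2 ⟨g, rfl⟩).trans ?_
  generalize g * t * g⁻¹ = x at *
  obtain ⟨B0, b⟩ := C.swp i' c'.symm n'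
  have T' := (C.tr i' c'.symm n').1
  obtain ⟨J, k, hk, ex, hJ⟩ := C.dec q3 i' c'.symm n'
  obtain ⟨B, h, hh, ey, hB⟩ := C.dec q3 i c n
  have e1 : π (J * B⁻¹) * y = π J * h := by rw [ey, ← mul_assoc, ← map_mul, inv_mul_cancel_right]
  obtain ⟨a, ha, e⟩ := C.T.conj_J C.rs (C.tr i c n).1 (C.T.mem_L C.rs (J * B⁻¹)) (by
    obtain ⟨a, b, c, r⟩ := T'
    exact ⟨a, b, c, C.T.toPd.congr r (by rw [e1, ex]; simpa [mul_assoc] using mul_mem (inv_mem hk) hh)⟩)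
  refine IsConj.trans ?_ (isConj_iff.2 ⟨a, rfl⟩).symm
  have i1 := i.conj a
  have a1 := C.cen (LL_le ha)
  have c1 : a * y * a⁻¹ * t = t * (a * y * a⁻¹) := C.cen (mul_mem (mul_mem (LL_le ha) (cent_St c)) (inv_mem (LL_le ha)))
  have n1 : a * y * a⁻¹ ≠ t := fun k => n (by rwa [mul_inv_eq_iff_eq_mul, ← a1, mul_right_inj] at k)
  have m : a * y * a⁻¹ * x ∈ Pt G (FE Ω t) := by
    rw [e, e1, ex, C.mul_mul hh]; exact mul_mem (C.pi_Pt (.inr hJ)) (mul_mem hh hk)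
  generalize a * y * a⁻¹ = v at *
  obtain ⟨r, l, o, hl⟩ := Nat.exists_eq_two_pow_mul_odd (orderOf_pos (v * x)).ne'
  have p : PiElt {2} ((v * x) ^ l) := ((piNat_self p2).pow r).dvd
    (orderOf_dvd_of_pow_eq_one (by rw [← pow_mul, mul_comm, ← hl, pow_orderOf_eq_one]))
  suffices key : ∀ z ∈ zpowers ((v * x) ^ l), (z * z = 1 ∨ z * z = t) → z = 1 ∨ z = t by
    rcases two_ind (p := fun z => z = 1 ∨ z = t) p (.inl rfl) key with f | f
    · exact (Invol.isConj_of_odd i1.sq i'.sq (o.of_dvd_nat (orderOf_dvd_of_pow_eq_one f))).symm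
    obtain ⟨B1, b1⟩ := C.swp i1 c1 n1
    refine IsConj.symm ((isConj_iff.2 ⟨_, b1⟩).trans (Invol.isConj_of_odd (C.iv_mul i1 c1 n1).1.sq i'.sq
      (o.of_dvd_nat (orderOf_dvd_of_pow_eq_one ?_))))
    obtain ⟨l, rfl⟩ := o
    rw [mul_assoc, Commute.mul_pow (C.cK m).symm, f, pow_succ, pow_mul, pow_two, C.sq, one_pow, one_mul, C.sq]
  intro z hz f
  replace hz := zpowers_le.2 (pow_mem (mem_zpowers _) l) hz
  have zK := zpowers_le.2 m hz
  refine f.elim (C.uK zK) fun f => ?_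
  have z1 := Invol.inverts_of_mem_zpowers (Invol.right_inverts_mul i1.sq i'.sq) hz
  have nc : π B0 * x ≠ x * π B0 := fun k => C.t1 (by rwa [k, mul_inv_cancel_right, right_eq_mul] at b)
  have hB0 : B0 * B0 = -1 := anti_sq (J := J) C.T.two (C.inj (by
    rw [mul_inv_eq_iff_eq_mul, ex, mul_assoc, mul_assoc, C.kpi hk] at b
    rw [C.neg, map_mul, map_mul, ← mul_left_inj k]
    simpa only [mul_assoc] using b))
  have nK : π B0 * z ∉ Pt G (FE Ω t) := fun k => nc (by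
    rcases C.T.ker B0 ((mul_mem_cancel_right zK).1 k) with rfl | rfl
    exacts [by simp, by rw [C.z, c']])
  have cz : π B0 * (π B0 * z) = π B0 * z * π B0 := by rw [mul_assoc, C.kpi zK]
  have z2 : z * x = t * x * z := by rw [mul_assoc, mul_inv_eq_iff_eq_mul.1 z1, ← f]; group
  rcases E (π B0 * z) ⟨fun k => nK (k ▸ one_mem _), by rw [C.mul_mul zK, hB0, C.z, f, C.sq]⟩
    (C.cen (mul_mem (C.T.st' _) (Pt_le zK))) (by
      rw [mul_assoc, z2, ← mul_assoc, ← mul_assoc, C.cpi, mul_assoc t, mul_inv_eq_iff_eq_mul.1 b, ← mul_assoc, ← mul_assoc,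
        C.sq, one_mul, mul_assoc]) with k | k | k
  · exact (nK (k ▸ self_Pt)).elim
  · exact (nc (k ▸ cz)).elim
  · rw [k, ← mul_assoc, C.cpi, mul_assoc, mul_assoc, mul_right_inj] at cz
    exact (nc cz).elim

theorem one (i : Iv u) : IsConj t u := one_of_cent C.iv (fun _ => C.one' q3) i

theorem rank : PRankLE 2 2 G := by
  obtain ⟨R, r⟩ := exists_syl 2 (𝐂₁ t)
  rw [pRankLE_top_iff p2, ← (r.trans_idx le_top ((piNat_compl_single p2).2
    (relIndex_top_right (𝐂₁ t) ▸ (Ko.odd_idx C.iv fun _ => C.one q3).not_two_dvd_nat))).syl_pRank]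
  refine pRank_le_two ((cyc_zpowers t).pRank_le 2) fun A e x hx y hy n m => ?_
  simp only [PG.mem_zp C.iv, not_or] at n m ⊢
  have i : Iv x := ⟨n.1, pow_two x ▸ e.ab.pow x hx⟩
  obtain ⟨g, rfl⟩ := isConj_iff.1 (C.one q3 i)
  have c := mem_cent1.1 (r.le (e.le hx))
  rcases (C.ne8 q3 n.2 c ⟨m.1, pow_two y ▸ e.ab.pow y hy⟩ (mem_cent1.1 (r.le (e.le hy)))
    (e.abel.mul_comm hy hx)).resolve_left m.2 with rfl | rfl
  exacts [.inl i.sq, .inr (by rw [← mul_assoc, c, mul_assoc, i.sq, mul_one])]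

end B1

end CF.Hk
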