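import Cfsg.Agent.Perm.HkJ
import Cfsg.Agent.TsY.PermHkU3
import Cfsg.Agent.Perm.HkP3

/-! Assembly of the inductive step. -/

set_option autoImplicit false
set_option linter.unusedSectionVars false

namespace CF.Hk
open MulAction Subgroup Cfsg CF.BG CF.Bender CF.ZD CF.Tw CF.Fisch
open scoped MatrixGroups

universe u v
variable {G : Type u} {Ω : Type v} [Group G] [Finite G] [MulAction G Ω] [Finite Ω] {Q : Ω → Subgroup G}

theorem Core.cf (C : Core Q) (ppp : CB Q → ∀ {α β : Ω} {s t : G}, F4 α β s t → False)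
    (b2 : CB Q → ∀ {t : G} {F : Type} [Field F] [Fintype F] {pt : F → F → Ω} {π : SL(2, F) →* G}, TLd Q (FE Ω t) pt π →
      π (-1) = 1 → Iv t → (∀ y ∈ D2 G (pt 1 0) (pt 0 1), Iv y → y * t = t * y → y = t) → CR Q)
    (b3 : CB Q → ∀ {t : G} {α β : Ω} {E : Subgroup G}, TSd Q (FE Ω t) E → Iv t → α ≠ β → t ∈ D2 G α β →
      (∀ y ∈ D2 G α β, Iv y → y * t = t * y → y = t) → False) : Cf Q := by
  by_cases nr : EqF.Reg G Ω
  · exact (C.reg nr).imp_right .inl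
  by_cases nA : ∃ t : G, Iv t ∧ (FE Ω t).ncard = 2
  · exact let ⟨_, i, e⟩ := nA; .inl (C.caseA' i e fun n _ _ _ e c l => C.psl n e c l)
  obtain ⟨α, β, n⟩ := C.exists_pair
  by_cases o : Odd (♯(D2 G α β))
  · exact .inl (C.hodd nr n o)
  obtain ⟨t, d, i⟩ := exists_iv o
  have C' : CB Q := ⟨C, nr, fun t i e => nA ⟨t, i, e⟩⟩
  have uq : ∀ y ∈ D2 G α β, Iv y → y * t = t * y → y = t := fun y dy j c => by_contra fun e => ppp C' ⟨n, j, i, c, e, dy, d⟩
  rcases C'.cls i n d with S | S | ⟨E, T⟩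
  · obtain ⟨F, _, _, pt, π, T, rfl, rfl, e⟩ := S.at C.rs n d
    exact .inr (.inr (.inl (C'.b1 T e i.ne uq)))
  · obtain ⟨F, _, _, pt, π, T, rfl, rfl, e⟩ := S.at C.rs n d
    exact .inr (.inr (.inr (b2 C' T e i uq)))
  · exact (b3 C' T i n d uq).elim

end CF.Hk
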