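import Cfsg.Agent.RI.TC1
import Cfsg.Agent.PG.App
import Cfsg.Agent.TsY.JRGs
import Cfsg.Agent.Recog.Moore
import Cfsg.Agent.Small.M11b

/-! Proper 2-generated core: general facts and the known groups. -/

set_option autoImplicit false
set_option linter.unusedSectionVars false

namespace CF.Rt.TC
open Subgroup Cfsg CF.BG CF.Bender CF.ZD CF.Sig CF.PG CF.FusB
open scoped MatrixGroups

universe u
variable {G : Type u} [Group G] [Finite G] {H K M Q S V : Subgroup G} {a b g t u v : G} {q : ℕ}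

theorem ru_mk (h : ∀ V : Subgroup G, IsKleinFour V → V ≤ M → ∀ g, cj g V ≤ M → g ∈ M) : Ru ⊤ M :=
  fun a b g _ ha hb c n h1 h2 h3 h4 => by
    obtain ⟨V, hV, k, -⟩ := klein_of_comm (iv_iff.2 ha) (iv_iff.2 hb) n c (M := M ⊓ cj g⁻¹ M)
      ⟨h1, mem_cj_inv.2 h3⟩ ⟨h2, mem_cj_inv.2 h4⟩
    exact h V k (hV.trans inf_le_left) g (cj_le_iff.2 (hV.trans inf_le_right))

theorem Ru.klein (h : Ru ⊤ M) (k : IsKleinFour V) (hV : V ≤ M) (hg : cj g V ≤ M) : g ∈ M := by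
  obtain ⟨a, ha, b, hb, a1, b1, n⟩ := CF.Invol.klein_exists k
  exact h a b g trivial (iv_of_klein k ha a1).orderOf (iv_of_klein k hb b1).orderOf (klein_comm k ha hb) n (hV ha)
    (hV hb) (hg (conj_mem_cj.2 ha)) (hg (conj_mem_cj.2 hb))

theorem Ru.norm (h : Ru ⊤ M) (r : R2 Q) (l : Q ≤ M) : 𝐍 Q ≤ M := fun _ hg =>
  let ⟨_, hV, k⟩ := r; h.klein k (hV.trans l) ((cj_le_of_norm hg hV).trans l)

theorem ru_of (hS : Syl 2 S ⊤) (SM : S ≤ M)
    (h : ∀ V : Subgroup G, IsKleinFour V → V ≤ S → ∀ g, cj g V ≤ S → g ∈ M) : Ru ⊤ M := ru_mk fun V k hV g hg => by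
  have sM := hS.of_le SM le_top
  obtain ⟨m, hm, e1⟩ := sM.syl_cj_le hV (klein_pi k)
  obtain ⟨n, hn, e2⟩ := sM.syl_cj_le hg ((klein_pi k).cj g)
  have := h _ (klein_cj k m) e1 (n * g * m⁻¹) (by rwa [cj_cj, inv_mul_cancel_right, ← cj_cj])
  rwa [mul_mem_cancel_right (inv_mem hm), mul_mem_cancel_left hn] at this

theorem ru_core (hS : Syl 2 S ⊤) (SM : S ≤ M) (h : ∀ Q ≤ S, R2 Q → 𝐍 Q ≤ M) : Ru ⊤ M := ru_mk fun V k hV g hg => by
  have sM := hS.of_le SM le_top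
  have n : ∀ T ≤ M, PiGrp {2} T → R2 T → 𝐍 T ≤ M := fun T l p ⟨E, hE, kE⟩ x hx => by
    obtain ⟨m, hm, e⟩ := sM.syl_cj_le l p
    have := h _ e ⟨_, cj_mono m hE, klein_cj kE m⟩ (cj_norm m T ▸ conj_mem_cj.2 hx)
    rwa [mul_mem_cancel_right (inv_mem hm), mul_mem_cancel_left hm] at this
  obtain ⟨T, hT, VT⟩ := exists_syl_le (le_inf hV (cj_le_iff.1 hg)) (klein_pi k)
  have l1 := hT.le.trans inf_le_left
  have l2 := cj_le_iff.2 (hT.le.trans inf_le_right)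
  have n1 := n T l1 hT.pi ⟨V, VT, k⟩
  have s := hT.syl_of_norm_le (le_inf n1 (cj_le_iff.1 (cj_norm g T ▸ n _ l2 (hT.pi.cj g)
    ⟨_, cj_mono g VT, klein_cj k g⟩))) le_top
  obtain ⟨m, hm, e⟩ := (s.of_le l1 le_top).syl_conj ((s.cj_top g).of_le l2 le_top)
  exact (mul_mem_cancel_left (inv_mem hm)).1 (n1 (cj_eq_self.1 (by rw [← cj_cj, e, cj_inv_cj])))

theorem Ru.conj (h : Ru ⊤ M) (g : G) : Ru ⊤ (cj g M) := ru_mk fun V k hV x hx => mem_cj.2 (h.klein (klein_cj k g⁻¹)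
  (le_cj_iff.1 hV) (by rw [cj_cj, mul_inv_cancel_right, ← cj_cj]; exact le_cj_iff.1 hx))

theorem Ru.top {H : Type*} [Group H] (h : Ru ⊤ M) (hS : Syl 2 S ⊤) (SM : S ≤ M) (f : H →* G)
    (s : Function.Surjective f) (k : ∀ x, x * x = 1 → f x = 1 → x = 1) {a b : H} (a2 : a * a = 1) (b2 : b * b = 1)
    (c : a * b = b * a) (e : ∀ X, Ru ⊤ X → a ∈ X → b ∈ X → X = ⊤) : M = ⊤ := by
  have p : ∀ {a : H}, a * a = 1 → PiGrp {2} (zpowers (f a)) := fun e =>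
    (two_elt (by rw [← map_mul, e, map_one])).zpowers
  obtain ⟨g, -, l⟩ := hS.syl_le_cj le_top ((p a2).sup (p b2) (.inl (norm_of_cent (zpowers_le.2
    (cent_zpowers (f b) ▸ mem_cent1.2 (by rw [← map_mul, c, map_mul]))))))
  replace l := l.trans (cj_mono g SM)
  have := e _ ((h.conj g).comap f k) (l (mem_sup_left (mem_zpowers _))) (l (mem_sup_right (mem_zpowers _)))
  refine eq_top_iff.2 fun x _ => ?_
  obtain ⟨y, e⟩ := s (g * x * g⁻¹)
  exact conj_mem_cj.1 (e ▸ mem_comap.1 (this.ge (mem_top y)))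

theorem d_sq {F : Type*} [Field F] : mD1 F * mD1 F = 1 ∧ mD2 F * mD2 F = 1 ∧ mD1 F * mD2 F = mD2 F * mD1 F := by
  refine ⟨vl_ext ?_, vl_ext ?_, vl_ext ?_⟩ <;> simp [vl_mul, vl_one, vD1, vD2, Matrix.mul_fin_three]

theorem eq_one_of_two_three {H : Type*} [Group H] {x : H} (h : x * x = 1) (k : x ^ 3 = 1) : x = 1 := by
  rwa [pow_succ, pow_two, h, one_mul] at k

theorem Ru.psl3 (h : Ru ⊤ M) (hS : Syl 2 S ⊤) (SM : S ≤ M) {F : Type*} [Field F] [Fintype F]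
    (o : Odd (Fintype.card F)) (e : G ≃* PSL(3, F)) : M = ⊤ := by
  have h2 := two_ne_zero_of_odd (Nat.odd_iff.1 o)
  refine h.top hS SM (e.symm.toMonoidHom.comp (QuotientGroup.mk' _)) (e.symm.surjective.comp
    (QuotientGroup.mk'_surjective _)) (fun x x2 k => ?_) d_sq.1 d_sq.2.1 d_sq.2.2 fun X => sl3_top h2
  have := mem_center_iff.1 ((QuotientGroup.eq_one_iff _).1 ((map_eq_one_iff _ e.symm.injective).1 k))
  exact eq_one_of_two_three x2 (cube_of_comm h2 (this _) (this _) (this _))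

theorem Ru.psu3 (h : Ru ⊤ M) (hS : Syl 2 S ⊤) (SM : S ≤ M) {F : Type*} [Field F] [Fintype F]
    (c : Fintype.card F = q ^ 2) (o : Odd q) (e : G ≃* PSU 3 F q) : M = ⊤ := by
  have h2 := two_ne_zero_of_odd (Nat.odd_iff.1 (c ▸ o.pow))
  obtain ⟨σ, hσ, -⟩ := CF.Geom.exists_conj c
  have m1 := (su_mk hσ vD1).2 (by simp)
  have m2 := (su_mk hσ vD2).2 (by simp)
  have m3 := (su_mk hσ vC).2 (by simp)
  refine h.top hS SM (e.symm.toMonoidHom.comp (QuotientGroup.mk' _)) (e.symm.surjective.comp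
    (QuotientGroup.mk'_surjective _)) (fun x x2 k => ?_) (a := ⟨_, m1⟩) (b := ⟨_, m2⟩) (Subtype.ext d_sq.1)
    (Subtype.ext d_sq.2.1) (Subtype.ext d_sq.2.2) fun X r h1 h3 => eq_top_iff.2 fun x _ => ?_
  · have := fun y => congrArg Subtype.val (mem_center_iff.1 ((QuotientGroup.eq_one_iff _).1
      ((map_eq_one_iff _ e.symm.injective).1 k)) y)
    exact eq_one_of_two_three x2 (Subtype.ext (cube_of_comm h2 (this ⟨_, m1⟩) (this ⟨_, m2⟩) (this ⟨_, m3⟩)))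
  · obtain ⟨y, hy, e⟩ := su3_top c h2 r.sub ⟨_, h1, rfl⟩ ⟨_, h3, rfl⟩ x.2
    exact (Subtype.ext e : y = x) ▸ hy

open Equiv CF.Recog in
theorem Ru.a7 (h : Ru ⊤ M) (hS : Syl 2 S ⊤) (SM : S ≤ M) (e : G ≃* alternatingGroup (Fin 7)) : M = ⊤ := by
  let b : alternatingGroup (Fin 7) := ⟨swap 0 2 * swap 1 3, Perm.mem_alternatingGroup.2 (by decide)⟩
  let r : alternatingGroup (Fin 7) := ⟨swap 0 4 * swap 0 2 * swap 1 5 * swap 1 3, Perm.mem_alternatingGroup.2 (by decide)⟩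
  refine h.top hS SM e.symm.toMonoidHom e.symm.surjective (fun _ _ => (map_eq_one_iff _ e.symm.injective).1)
    (a := moore 4 1) (b := b) (by decide) (by decide) (by decide) fun X k h1 h2 => ?_
  have h3 := mul_mem h1 h2
  have m := fun {a' b' g} => k.mem (a' := a') (b' := b') (g := g) (by decide) (by decide) (by decide) (by decide)
    (by decide) (by decide) h1 h2 trivial
  have x0 : moore 4 0 ∈ X := m h3 h1 (by decide) (by decide)
  have x3 : moore 4 3 ∈ X := m h1 h3 (by decide) (by decide)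
  have x4 : moore 4 4 ∈ X := m h1 h3 (by decide) (by decide)
  have hr : r ∈ X := k.mem (by decide) (by decide) (by decide) (by decide) (by decide) (by decide) h1 x3 trivial
    (mul_mem h1 x3) h1 (by decide) (by decide)
  have x2 : moore 4 2 ∈ X := (by decide : moore 4 1 * (r * moore 4 0 * r⁻¹) = moore 4 2) ▸
    mul_mem h1 (mul_mem (mul_mem hr x0) (inv_mem hr))
  refine eq_top_iff.2 ((closure_moore 4).ge.trans ((closure_le X).2 ?_))
  rintro _ ⟨i, rfl⟩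
  fin_cases i
  exacts [x0, h1, x2, x3, x4]

theorem Ru.l2 (h : Ru ⊤ M) (hS : Syl 2 S ⊤) (SM : S ≤ M) (L : JR.IsL q (⊤ : Subgroup G)) (o : Odd q) :
    𝐎 {2}ᶜ M = ⊥ := by
  obtain ⟨v, -, w, -, ρ, -, c⟩ := L.a4 o
  obtain ⟨g, -, l⟩ := hS.syl_cj_le le_top c.fp.pi
  rw [GW.cj_V4] at l
  replace c := c.conj g
  generalize g * v * g⁻¹ = v, g * w * g⁻¹ = w, g * ρ * g⁻¹ = ρ at l c
  replace l := l.trans SM
  have hv := l (GW.left_mem_V4 v w)
  have hw := l (GW.right_mem_V4 v w)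
  have hρ : ρ ∈ M := h v w ρ trivial c.fp.1 c.fp.2 c.fp.comm c.fp.ne hv hw (c.l ▸ hw) (c.r ▸ mul_mem hv hw)
  by_contra n
  obtain ⟨p, P, -, P1, nP, mP, ab⟩ := (sol_pi (O_pi _ _)).exists_abelem_norm n (O_normal {2}ᶜ M).norm
  have oP := GW.odd_le (GW.odd_O M) nP.le
  have key : ∀ u ∈ GW.V4 v w, u ≠ 1 → P ⊓ 𝐂₁ u ≤ ⊥ := fun u hu u1 y hy => by_contra fun y1 => by
    have i := c.fp.iv_of_mem hu u1
    have cu : u ∈ ⊤ ⊓ 𝐂₁ y := ⟨trivial, mem_cent1_comm.1 hy.2⟩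
    rcases L.cases o trivial y1 with ⟨k, -⟩ | ⟨Θ, τ, m⟩
    · exact GW.not_mem_of_odd (k ▸ o) i cu
    have e := τ.cen m fun e => y1 (GW.eq_one_of_sq_of_odd e (GW.odd_orderOf oP hy.1))
    have PΘ : P ≤ Θ := e ▸ le_inf le_top (le_cent1_iff.2 (ab.abel hy.1))
    have := (τ.cen2 (e ▸ cu) i).ge ((τ.norm m y1).le ⟨trivial, (τ.cyc.mono PΘ).norm_le (zpowers_le.2 hy.1) (mP hρ)⟩)
    obtain ⟨x, hx, e1⟩ := c.tr u hu u1 v (GW.left_mem_V4 v w) c.fp.1.ne_one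
    rw [conj_cent (zpowers_le.2 this.2 hx)] at e1
    exact c.not_cent (e1 ▸ this.2)
  exact P1 (le_bot_iff.1 (c.fp.le_of_cent (mP hv) (mP hw) oP (key _ (GW.left_mem_V4 v w) c.fp.1.ne_one)
    (key _ (GW.right_mem_V4 v w) c.fp.2.ne_one) (key _ (mul_mem (GW.left_mem_V4 v w) (GW.right_mem_V4 v w))
      c.fp.iv.ne_one)))

theorem Ru.se (h : Ru ⊤ M) (hM : M ≠ ⊤) (hS : Syl 2 S ⊤) (SM : S ≤ M) (r : R2 S)
    (c : ∀ u ∈ S, Iv u → 𝐂₁ u ≤ M) : IsStronglyEmbedded M := by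
  have sM := hS.of_le SM le_top
  have c' : ∀ u ∈ M, Iv u → 𝐂₁ u ≤ M ∧ ∃ v ∈ 𝐂₁ u, Iv v ∧ v ≠ u := fun u hu i => by
    obtain ⟨m, hm, e⟩ := sM.syl_le_cj (zpowers_le.2 hu) (iv_pi i)
    obtain ⟨y, hy, rfl⟩ := mem_cj_iff.1 (e (mem_zpowers u))
    have j : Iv y := by simpa [mul_assoc] using i.conj' m
    refine ⟨cj_cent1 m y ▸ cj_le_of_mem hm (c y hy j), ?_⟩
    obtain ⟨E, hE, k⟩ := r
    obtain ⟨V, hV, h1⟩ := exists_vx_mem hS.pi ((klein_iff.1 k).of_le hE).le_pRank hy (by rw [pow_two, j.sq])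
    by_contra! n
    refine Abelem.not_cyc hV.ab hV.rk ((cyc_zpowers y).mono fun x hx => (mem_zp j).2 ?_)
    by_contra! z
    exact z.2 (conj_injective (n _ (cj_cent1 m y ▸ conj_mem_cj.2 (mem_cent1.2 (hV.ab.abel.mul_comm hx h1)))
      (Iv.conj ⟨z.1, by rw [← pow_two, hV.ab.pow x hx]⟩ m)))
  obtain ⟨E, hE, k⟩ := r
  obtain ⟨x, hx, -, -, x1, -⟩ := CF.Invol.klein_exists k
  refine se_top hM (SM (hE hx)) (iv_of_klein k hx x1) fun t ht i g hg => ?_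
  obtain ⟨l, v, hv, j, n⟩ := c' t ht i
  exact h t v g trivial i.orderOf j.orderOf (mem_cent1.1 hv).symm n.symm ht (l hv) hg
    ((c' _ hg (i.conj g)).1 (cj_cent1 g t ▸ conj_mem_cj.2 hv))

theorem Ru.se_of [IsSimpleGroup G] (h : Ru ⊤ M) (hM : M ≠ ⊤) (hS : Syl 2 S ⊤) (SM : S ≤ M) (r : R2 S)
    (k : IsStronglyEmbedded H) : IsStronglyEmbedded M := by
  obtain ⟨-, T, rfl⟩ := Bender.se_simple part2 k
  obtain ⟨g, -, rfl⟩ := (syl_sylow_top T).syl_conj hS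
  refine h.se hM hS SM r fun u hu i => le_trans (fun x hx => ?_) (h.norm r SM)
  obtain ⟨y, hy, rfl⟩ := mem_cj_iff.1 hu
  rw [← cj_cent1] at hx
  obtain ⟨z, hz, rfl⟩ := mem_cj_iff.1 hx
  rw [← cj_norm, conj_mem_cj]
  exact CF.Invol.sEmb_of_se k y (le_normalizer hy) (by simpa [mul_assoc] using (i.conj' g).orderOf) z
    (by rw [conj_cent hz]; exact le_normalizer hy)

theorem se_core [IsSimpleGroup G] (k : IsStronglyEmbedded M) (r : R2 S) : 𝐎 {2}ᶜ M = ⊥ :=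
  eq_bot_mono (se_oddCore_simple k) (se_odd_le part2 k (se_rank2 k (se_oddCore_simple k ▸ bot_le)) (O_normal _ _)
    (odd_of_pi (O_pi _ _)))

/-- groups of Janko–Ree type -/
theorem Ru.jr (h : Ru ⊤ M) (hM : M ≠ ⊤) (hS : Syl 2 S ⊤) (SM : S ≤ M) (r : R2 S) (n : Ab2.NS (⊤ : Subgroup G))
    (j : Ab2.JR (⊤ : Subgroup G)) : IsStronglyEmbedded M ∨ Spor.IsoJ1 G := by
  obtain ⟨t, K, q, q3, J, -⟩ := JR.jr_cases n j
  obtain ⟨T, F, k⟩ := J.exists_pk
  obtain ⟨g, -, rfl⟩ := k.syl.syl_conj hS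
  replace k := k.cj g
  generalize g * t * g⁻¹ = t, cj g K = K, cj g T = S, cj g F = F at *
  have tM := SM k.tS
  by_cases l : K ≤ M
  · refine .inl (h.se hM hS SM r fun u hu i => ?_)
    obtain ⟨x, hx, rfl⟩ := k.tr t k.tS k.iv.ne_one u hu i.ne
    exact cj_cent1 x t ▸ cj_le_of_mem (h.norm r SM hx) (k.dp.sup ▸ sup_le (zpowers_le.2 tM) l)
  obtain ⟨v, w, ρ, c, e, -⟩ := k.a4
  have hv := e.le (GW.left_mem_V4 v w)
  have se := se_sub l hv.2 (SM hv.1) (iv_iff.2 c.fp.1) fun u uK uM i g gK m => h t u g trivial k.iv i.orderOf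
    (mem_cent1.1 (k.lK uK)).symm (fun e => k.tE (e ▸ uK)) tM uM (by rwa [conj_cent (k.lK gK)]) m
  have := (k.isL.ns k.oq q3).simple
  obtain ⟨-, T, eT⟩ := Bender.se_simple part2 se
  have s := syl_sylow T
  have nT : M ⊓ K ≤ 𝐍 ((T : Subgroup K).map K.subtype) := fun x hx =>
    le_normalizer_map _ ⟨⟨x, hx.2⟩, eT.le hx.1, rfl⟩
  have s1 := k.sylC.inf_normal (N := K) ⟨k.lK, k.nK'⟩
  have l1 : (T : Subgroup K).map K.subtype ≤ M ⊓ K := by
    rintro _ ⟨x, hx, rfl⟩; exact ⟨eT.ge (le_normalizer hx), x.2⟩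
  have e1 := (s.of_le l1 inf_le_right).eq_of_normal nT (s1.of_le (inf_le_inf_right _ SM) inf_le_right)
  have l2 : K ⊓ 𝐂₁ v ≤ GW.V4 v w := fun x hx => k.isL.four k.oq hv.2 (e.le (GW.right_mem_V4 v w)).2 c.fp
    ⟨hx.1, k.a2.cent4 c.fp (e ▸ e1 ▸ nT ⟨se_mem se hv.2 (SM hv.1) (iv_iff.2 c.fp.1) hx.1
      (by rw [conj_cent hx.2]; exact SM hv.1), hx.1⟩) (conj_cent hx.2)⟩
  have c4 := c.fp.card ▸ card_le l2
  have := k.isL.card_iv k.oq hv.2 c.fp.1
  have := k.q8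
  obtain rfl : q = 5 := by omega
  exact .inr k.j1.2.2.1

open MulAction CF.Small in
theorem m11_core [IsSimpleGroup G] (c : Nat.card G = 7920) (i : Iv t) : Oc 2 t = ⊥ := by
  classical
  obtain ⟨X, _, _, _, hX, h4, hs, -⟩ := exists_act11' c
  have c48 : ♯(𝐂₁ t) = 2 ^ 4 * 3 := card_cent_7920 c i.orderOf
  have d : ♯(Oc 2 t) ∣ 3 := (Nat.Coprime.pow_right 4 (Nat.coprime_two_right.2
    (odd_of_pi (O_pi _ _)))).dvd_of_dvd_mul_left (c48 ▸ BG.card_dvd (O_le _ _))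
  refine eq_bot_of_forall fun y hy => by_contra fun y1 => ?_
  have eY : ∀ y ∈ Oc 2 t, y ≠ 1 → y ^ 3 = 1 ∧ zpowers y = Oc 2 t := fun y hy y1 => by
    have y3 : y ^ 3 = 1 := orderOf_dvd_iff_pow_eq_one.1 ((orderOf_dvd_card' hy).trans d)
    exact ⟨y3, eq_of_card_le (zpowers_le.2 hy) (by
      rw [Nat.card_zpowers, orderOf_eq_prime y3 y1]; exact Nat.le_of_dvd (by decide) d)⟩
  have cy : ∀ x : X, y • t • x = t • y • x := fun x => by rw [smul_smul, smul_smul, mem_cent1.1 (O_le _ _ hy)]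
  have tt : ∀ x : X, t • t • x = x := fun x => by rw [smul_smul, i.sq, one_smul]
  have h1 := hs t i.ne
  have h2 := hs y y1
  have h3 := card_fx_modEq (Ω := X) (p := 2) (g := t) (by rw [pow_two, i.sq])
  have h5 := card_fx_modEq (Ω := X) (eY y hy y1).1
  rw [hX, Nat.ModEq] at h3 h5
  by_cases k : fx X y ⊆ fx X t
  · obtain ⟨a, e⟩ := Finset.card_eq_one.1 (show (fx X t \ fx X y).card = 1 by
      have := Finset.card_le_card k; rw [Finset.card_sdiff_of_subset k]; omega)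
    have m : ∀ x, t • x = x ∧ y • x ≠ x ↔ x = a := fun x => by
      simpa only [Finset.mem_sdiff, mem_fx, Finset.mem_singleton] using Finset.ext_iff.1 e x
    have := (m a).2 rfl
    exact this.2 ((m _).1 ⟨by rw [← cy, this.1], fun z => this.2 (MulAction.injective y z)⟩)
  obtain ⟨a, ha, na⟩ := Finset.not_subset.1 k
  obtain ⟨b, hb, nb⟩ := Finset.exists_mem_notMem_of_card_lt_card (s := insert a (insert (t • a) (fx X t)))
    (t := Finset.univ) (by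
      have := Finset.card_insert_le a (insert (t • a) (fx X t))
      have := Finset.card_insert_le (t • a) (fx X t)
      rw [Finset.card_univ]; omega)
  simp only [Finset.mem_insert, mem_fx, not_or] at ha na nb
  have ta := tt a
  have tb := tt b
  have D : CF.Perm.D4 a (t • a) b (t • b) := by grind
  obtain ⟨g, e1, e2, -⟩ := h4.exists_cent D (show CF.Perm.D4 b (t • b) a (t • a) by grind) i.sq rfl rfl (.inl ⟨rfl, rfl⟩)
  have m := conj_mem_of_norm ((O_normal {2}ᶜ _).norm (mem_cent1.2 e1.eq.symm)) hy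
  have yb : y • b = b := (zpowers_le (H := stabilizer G b)).2 (e2 ▸ conj_smul ha g)
    ((eY _ m (conj_ne_one y1 g)).2.ge hy)
  have := Finset.card_le_card (show {a, t • a, b, t • b} ⊆ fx X y from fun x => by
    simp only [Finset.mem_insert, Finset.mem_singleton, mem_fx]; rintro (rfl | rfl | rfl | rfl) <;> simp [*])
  rw [Finset.card_insert_of_notMem (by simp; grind), Finset.card_insert_of_notMem (by simp; grind),
    Finset.card_pair D.2.2.2.2.2] at this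
  omega

end CF.Rt.TC
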