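import Cfsg.Agent.TsY.RITC2
import Cfsg.Agent.Recog.McL.N910
import Cfsg.Agent.S1169

/-! Proper 2-generated core: groups of 2-rank at least three. -/

set_option autoImplicit false
set_option linter.unusedSectionVars false

namespace CF.Rt.TC
open MulAction Subgroup Cfsg CF.BG CF.Bender CF.ZD CF.Sig CF.PG CF.Suz Equiv Equiv.Perm

universe u v
variable {G : Type u} {Ω : Type v} [Group G] [MulAction G Ω] [Finite G]
variable {M P S U V : Subgroup G} {a α : Ω} {b t v z : G} {F F' : Set Ω}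

theorem three_cycle {Φ : Type*} [Fintype Φ] [DecidableEq Φ] {σ : Perm Φ} (o : Odd (orderOf σ)) (n : σ ≠ 1)
    (c : σ.support.card ≤ 4) : σ.IsThreeCycle := by
  obtain ⟨k, hk⟩ := Multiset.exists_mem_of_ne_zero (mt cycleType_eq_zero.1 n)
  have f : ∀ k ∈ σ.cycleType, 3 ≤ k := fun k hk => by
    have := two_le_of_mem_cycleType hk
    have := Nat.odd_iff.1 (o.of_dvd_nat (dvd_of_mem_cycleType hk))
    omega
  obtain ⟨s, e⟩ := Multiset.exists_cons_of_mem hk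
  have h1 := Nat.odd_iff.1 (o.of_dvd_nat (dvd_of_mem_cycleType hk))
  have h2 := f k hk
  rw [← sum_cycleType, e, Multiset.sum_cons] at c
  obtain rfl : s = 0 := Multiset.eq_zero_of_forall_notMem fun j hj => by
    have := f j (e ▸ Multiset.mem_cons_of_mem hj)
    have := Multiset.le_sum_of_mem hj
    omega
  obtain rfl : k = 3 := by omega
  exact e

theorem alt9 [Fintype Ω] [DecidableEq Ω] (h : AY (⊤ : Subgroup G) U V P F F' α) (tr : ∀ p : Ω, ∃ g : G, g • α = p)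
    (all : ∀ p, p ∈ F ∨ p ∈ F') (inv : ∀ e : G, Iv e → In ⊤ P e) (f : ∀ g : G, (∀ p : Ω, g • p = p) → g = 1) :
    Fintype.card Ω = 9 ∧ (∀ g : G, sign (toPermHom G Ω g) = 1) ∧
      ∀ σ : Perm Ω, sign σ = 1 → ∃ g, toPermHom G Ω g = σ := by
  have a := h.toAA
  have c9 : Nat.card Ω = 9 := by
    have := Set.ncard_union_add_ncard_inter F F'
    rw [Set.eq_univ_of_forall (s := F ∪ F') all, Set.ncard_univ, a.ncard, a.symm.ncard,
      show F ∩ F' = {α} from Set.eq_singleton_iff_unique_mem.2 ⟨⟨a.l.aF, a.r.aF⟩, fun p hp => a.inter hp.1 hp.2⟩,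
      Set.ncard_singleton] at this
    omega
  have : IsPretransitive G Ω := ⟨fun p q => by
    obtain ⟨g, rfl⟩ := tr p
    obtain ⟨k, rfl⟩ := tr q
    exact ⟨k * g⁻¹, by rw [mul_smul, inv_smul_smul]⟩⟩
  have blk : ∀ {U V : Subgroup G} {F F' : Set Ω}, AA U V P F F' α → ∀ {B : Set Ω}, α ∈ B → IsBlock G B →
      ∀ p ∈ B, p ≠ α → p ∈ F → B = Set.univ := fun a B hB k p hp n m => k.eq_univ_of_card_lt (by
    have := Set.ncard_le_ncard (t := B) (fun q hq => by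
      by_cases e : q = α
      · exact e ▸ hB
      obtain ⟨l, hl, rfl⟩ := a.l.tr p m q hq n e
      exact k.smul_eq_of_mem hB ((a.P_fix (a.VP hl)).symm ▸ hB) ▸ Set.smul_mem_smul_set hp)
    rw [a.ncard] at this; omega)
  have pr : IsPreprimitive G Ω := .of_isTrivialBlock_base α fun {B} hB k => by
    by_cases e : B.Subsingleton
    · exact .inl e
    obtain ⟨p, hp, n⟩ := (Set.not_subsingleton_iff.1 e).exists_ne α
    exact .inr ((all p).elim (blk a hB k p hp n) (blk a.symm hB k p hp n))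
  have su : ∀ σ : Perm Ω, sign σ = 1 → ∃ g, toPermHom G Ω g = σ := by
    obtain ⟨j, -, o, cV, nU, cU⟩ := h.yl.odd
    have jα := a.norm_fix (a.eq ▸ norm_sup (zpowers_le.2 nU) (zpowers_le.2 (cent_le_norm _ cV)) (mem_zpowers j))
    refine fun σ hσ => alternatingGroup_le_of_isPreprimitive_of_isThreeCycle_mem (G := (toPermHom G Ω).range)
      (pr.of_surjective (φ := (toPermHom G Ω).rangeRestrict) (f := ⟨id, fun _ _ => rfl⟩) Function.surjective_id)
      (three_cycle (o.of_dvd_nat (orderOf_map_dvd (toPermHom G Ω) j)) (fun e => cU (f j (Equiv.ext_iff.1 e) ▸ one_mem _)) ?_)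
      ⟨j, rfl⟩ hσ
    rw [← a.symm.ncard', ← Set.ncard_coe_finset]
    refine Set.ncard_le_ncard fun p hp => ?_
    have n : p ∉ F := fun m => mem_support.1 hp (by
      by_cases e : p = α
      · exact e ▸ jα
      exact odd_fix a.r.k (odd_zpowers o) (norm_of_cent' (zpowers_le.2 cV)) (zpowers_le.2 (St_diff (a.l.norm_St nU) jα))
        a.V_St (fun l hl l1 p hp e => hp.2 (a.reg hl l1 hp.1 e)) (by rw [a.ncard']; decide) ⟨m, e⟩ (mem_zpowers j))
    exact ⟨(all p).resolve_left n, fun e => n (e ▸ a.l.aF)⟩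
  have cn : ∀ {x y : G}, Cn ⊤ x y → sign (toPermHom G Ω x) = sign (toPermHom G Ω y) := fun ⟨g, _, e⟩ => by
    rw [← e]; simp only [map_mul, map_inv, mul_right_comm _ (sign _), mul_inv_cancel, one_mul]
  have ev : ∀ {U V : Subgroup G} {F F' : Set Ω}, AY ⊤ U V P F F' α → ∀ u ∈ U, sign (toPermHom G Ω u) = 1 :=
    fun h u hu => by
      obtain ⟨x, hx, y, hy, x1, y1, n⟩ := CF.Invol.klein_exists h.l.k
      have k : ∀ x ∈ _, ∀ y ∈ _, x ≠ 1 → y ≠ 1 → sign (toPermHom G Ω (x * y)) = 1 := fun x hx y hy x1 y1 => by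
        rw [map_mul, map_mul, cn (h.cnU hx x1 hy y1), Int.units_mul_self]
      have := k x hx y hy x1 y1
      have xy := klein_mul_ne h.l.k hx n
      rcases klein_cases h.l.k hx hy x1 y1 n hu with rfl | rfl | rfl | rfl
      exacts [by rw [map_one, map_one], (cn (h.cnU hx x1 (mul_mem hx hy) xy)).trans this,
        (cn (h.cnU hy y1 (mul_mem hx hy) xy)).trans this, this]
  refine ⟨Nat.card_eq_fintype_card.symm.trans c9, fun g => (Int.units_eq_one_or _).resolve_right fun e => ?_, su⟩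
  obtain ⟨p, -, n⟩ := a.l.ex
  obtain ⟨k, hk⟩ := su (swap p α * toPermHom G Ω g) (by rw [map_mul, sign_swap n, e]; rfl)
  have e1 : toPermHom G Ω (k * g⁻¹) = swap p α := by rw [map_mul, map_inv, hk, mul_inv_cancel_right]
  obtain ⟨y, hy, c⟩ := inv (k * g⁻¹) ⟨fun m => n (by simpa [m] using Equiv.ext_iff.1 e1 α |>.symm),
    f _ (Equiv.ext_iff.1 (show toPermHom G Ω _ = 1 by rw [map_mul, e1, swap_mul_self]))⟩
  obtain ⟨u, hu, l, hl, rfl⟩ := a.mem_P.1 hy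
  have := cn c
  rw [e1, sign_swap n, map_mul, map_mul, ev h u hu, ev h.symm l hl] at this
  exact absurd this (by decide)

variable [Finite Ω]

theorem no_nine (h : P4 G Ω) (hS : Syl 2 S ⊤) (zS : z ∈ S) (c : z ∈ 𝐂 S) (bd : Bd Ω z) (hv : NV S v z)
    (w : HW (𝐂₁ z) (Fx Ω z) z) (hb : Bad (𝐂₁ z) (Fx Ω z) z b) : False := by
  classical
  have i := w.iv
  have nq : ∀ T, Syl 2 T (𝐂₁ z) → ¬ Qq T z := fun T hT q => h.isol i fun _ => q.isol hT i
  obtain ⟨f, cl⟩ := (w.main hb).resolve_left fun ⟨T, h5, q⟩ => nq T h5 q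
  have hT := hS.of_le (le_cent1_iff.2 c) le_top
  have o := h.nine hS zS c bd hv w f cl (O_pi {2}ᶜ (𝐂₁ z)) (hT.le.trans (O_normal _ _).norm)
  have K : KF (𝐂₁ z) (Fx Ω z) ≤ zpowers z := le_of_forall_syl' fun p hp _ R s => by
    by_cases e : p = 2
    · exact fun x hx => (mem_zp i).2 (w.k2 x (s.le hx) (e ▸ s.pi.elt hx))
    exact (w.odd_le hT ((cyc_zpowers z).mono fun x hx => (mem_zp i).2 (w.k2 x hx.2 (hT.pi.elt hx.1)))
      (s.pi.of_single_ne e) s.le).trans (o.le.trans bot_le)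
  obtain ⟨b, T, m⟩ := w.exists_mb hb
  obtain ⟨a, l, Q, Z, h1, h2⟩ := w.exists_hh m
  obtain ⟨H, Φ, _, _, _, _, φ, ι, d⟩ := w.toCW.exists_cov
  obtain ⟨α, ea⟩ := d.rng.1 h1.aF.1
  have k := h1.ay h2 w.toCW d ea
  obtain ⟨R, hR, TR⟩ := exists_syl_le h1.TN m.pi
  have uq : ∀ e ∈ 𝐂₁ z, Iv e → e ≠ z → ¬ Bd Φ (φ e) := fun e he j n ⟨p, q, pq, e1, e2⟩ =>
    pq (d.inj (w.uniq he j n (d.mem p) (d.mem q) ((d.fix he).1 e1) ((d.fix he).1 e2)))
  have tr : ∀ p : Φ, ∃ g : H, g • α = p := fun p => by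
    obtain ⟨g, hg, e⟩ := w.tr _ (d.mem α) _ (d.mem p)
    exact ⟨_, (d.fix hg).2 e⟩
  have PS := sup_le (d.pf_mono (h1.QT.trans TR)) (d.pf_mono (h2.QT.trans TR))
  rcases k.dich (d.pf_syl hR) PS with ⟨-, k1⟩ | ⟨⟨s, hs, ns, s1, sq⟩, k2⟩
  · refine nq R hR (qq_of h1.u1 (h1.eq ▸ h1.cb.na) h1.cb.q8 h1.cZ (h1.QT.trans TR) (h2.QT.trans TR) fun s hs j => ?_)
    by_cases e : s = z
    · exact ⟨1, one_mem _, z, h1.u1.mem, by rw [one_mul, e]⟩
    have sN := hR.le hs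
    exact (mem_sup_norm (norm_of_cent h1.cZ)).1 (d.of_pf ((zpowers_le.2 h1.u1.mem).trans le_sup_right)
      sN (sup_le (d.pf_mono le_sup_right) (d.pf_mono le_sup_left) (k1 _ (d.mem_pf' hs sN)
        ⟨fun k => ((mem_zp i).1 ((d.ker sN).1 k)).elim j.ne e, by rw [← d.mul sN sN, j.sq, d.one]⟩ (uq s sN j e))))
  have := Fintype.ofFinite Φ
  have fa : ∀ x ∈ 𝐂₁ z, (∀ p : Φ, φ x • p = p) → x ∈ zpowers z := fun x hx e => K ⟨hx, mem_FX.2 fun p hp => by
    obtain ⟨p, rfl⟩ := d.rng.1 hp; exact (d.fix hx).1 (e p)⟩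
  obtain ⟨c9, sg, su⟩ := alt9 k tr (k.nine (d.pf_syl hR).pi PS hs ns s1 sq (fun e => k2 e trivial) tr)
    (fun e => k2 e trivial) fun g e => by obtain ⟨x, hx, rfl⟩ := d.surj g; exact (d.ker hx).2 (fa x hx e)
  let e := Fintype.equivFinOfCardEq c9
  let π := e.permCongrHom.toMonoidHom.comp ((toPermHom H Φ).comp d.hom)
  have ap : ∀ (x : 𝐂₁ z) (j : Fin 9), π x j = e (φ x • e.symm j) := fun _ _ => rfl
  have ker : ∀ x, π x = 1 → x = 1 ∨ x = CF.Recog.self z := fun x m => ((mem_zp i).1 (fa x x.2 fun p =>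
    e.injective (by simpa [ap] using Equiv.ext_iff.1 m (e p)))).imp Subtype.ext Subtype.ext
  obtain ⟨g, g1, g2⟩ := h.nisol i
  refine CF.Comp.McLR.false9 (π := π) ⟨⟨fun m => i.ne (congrArg Subtype.val m), Subtype.ext i.sq,
    fun x => Subtype.ext (mem_cent1.1 x.2), Equiv.ext fun j => ?_, ker, fun x => (sign_permCongr e _).trans (sg _),
    fun σ hσ => ?_⟩, fun x a b c d' _ m => (ker _ ?_).resolve_left fun m2 => ?_⟩ (z := ⟨_, g1⟩) (k := g⁻¹)
    (by simp [mul_assoc]) fun m => g2 (congrArg Subtype.val m)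
  · rw [ap, show φ (CF.Recog.self z).1 = 1 from (d.ker w.mem).2 (mem_zpowers z)]; simp
  · obtain ⟨y, hy⟩ := su (e.symm.permCongr σ) ((sign_permCongr _ _).trans hσ)
    obtain ⟨x, hx, rfl⟩ := d.surj y
    exact ⟨⟨x, hx⟩, Equiv.ext fun j => by rw [ap]; simpa using congrArg e (Equiv.ext_iff.1 hy (e.symm j))⟩
  · rw [map_mul, m, CF.Recog.dbl_mul_self ‹_›]
  have n1 : π x ≠ 1 := fun k => by
    have := Equiv.ext_iff.1 (m.symm.trans k) c
    simp only [List.nodup_cons, List.mem_cons, List.not_mem_nil, or_false, not_or] at *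
    simp only [Perm.mul_apply, swap_apply_left, Perm.one_apply, swap_apply_def] at this
    grind
  obtain ⟨p, q, pq, h3⟩ := (by decide +kernel : ∀ a b c d : Fin 9, ∃ p q, p ≠ q ∧ (p ≠ a ∧ p ≠ b ∧ p ≠ c ∧ p ≠ d) ∧
    q ≠ a ∧ q ≠ b ∧ q ≠ c ∧ q ≠ d) a b c d'
  have fx : ∀ p, p ≠ a ∧ p ≠ b ∧ p ≠ c ∧ p ≠ d' → φ x • e.symm p = e.symm p := fun p ⟨n1, n2, n3, n4⟩ =>
    e.injective (by rw [← ap, m, Perm.mul_apply, swap_apply_of_ne_of_ne n3 n4, swap_apply_of_ne_of_ne n1 n2]; simp)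
  exact uq x x.2 ⟨fun k => n1 (by rw [show x = 1 from Subtype.ext k, map_one]), congrArg Subtype.val m2⟩
    (fun k => n1 (Equiv.ext fun j => by rw [ap, k, (d.ker w.mem).2 (mem_zpowers z)]; simp))
    ⟨_, _, e.symm.injective.ne pq, fx p h3.1, fx q h3.2⟩

/-- Aschbacher's theorem, first form -/
theorem p4_cases [IsSimpleGroup G] (h : P4 G Ω) (hS : Syl 2 S ⊤) (Sa : S ≤ stabilizer G a) :
    (∃ H : Subgroup G, IsStronglyEmbedded H) ∨ Abel S := by
  have r := h.rkS hS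
  obtain ⟨z, hz, i⟩ := exists_iv_of_pi hS.pi.inf_left (hS.pi.center_ne_bot (hS.pi.pRank_pos.1 (by omega)))
  by_cases b : Bd Ω z
  swap
  · have w := h.wz hS i hz.2 b
    obtain ⟨p, hp⟩ := w.exists_da cl_self
    have all : ∀ q : Ω, q ∈ LD Ω (Cl z) ⊤ := fun q => let ⟨g, e⟩ := h.tr p q; e ▸ ⟨_, trivial, w.da_conj hp g⟩
    obtain ⟨p, q, n⟩ := h.nt
    have ai := (w.wc all fun u => h.move).ai (all p) (all q) n
    rw [LM_cl, (normalClosure_normal.eq_bot_or_eq_top).resolve_left fun e =>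
      i.ne (mem_bot.1 (e ▸ subset_normalClosure (Set.mem_singleton z)))] at ai
    have se := w.se ai (all p) (all q) n
    obtain ⟨s, -, hs⟩ := all p
    exact .inl ⟨_, se_top (fun e => se_not_le se e.ge) hs.fix (w.iv hs.mem) fun t ht j g =>
      se_mem se trivial ht j trivial⟩
  have c := h.cw i b
  have hT := hS.of_le (le_cent1_iff.2 hz.2) le_top
  obtain ⟨v, h1, h2, h3, h4⟩ := exists_v hS.pi r i hz.1 hz.2
  have hv : NV S v z := ⟨h1, h2, h3, h4⟩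
  have nq : ∀ T, Syl 2 T (𝐂₁ z) → ¬ Qq T z := fun T hT q => h.isol i fun _ => q.isol hT i
  rcases c.main' hT hv (Sa hz.1) Sa with ⟨-, k2, b', hb⟩ | k | ⟨E, Q, L, w⟩
  · exact (no_nine h hS hz.1 hz.2 b hv ⟨c, r.trans_le (pRank_mono _ hT.le), k2⟩ hb).elim
  · exact (c.not_r1 r k).elim
  rcases w.cases with k | k
  swap
  · exact (nq S hT (k.qq c hT)).elim
  have ab : Abel (𝛀 2 S) := Om_le_iff.2 fun x hx x1 => le_cent1_iff.1 (Om_le_iff.2 fun y hy y1 => by_contra fun m =>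
    nq S hT (k.qq c hT.le r hy hx (by rwa [← pow_two]) (by rwa [← pow_two]) m))
  obtain ⟨S, rfl⟩ := hS.exists_sylow_top
  exact (Agent.S1169.result S _ (fun e => i.ne (eq_one_of_mem_bot e (mem_Om hz.1 (by rw [pow_two, i.sq])))) ab.comm
    ⟨Om_le _ _, fun x hx g m => mem_Om m (by rw [conj_pow, pow_of_mem_Om ab hx]; simp)⟩).symm.imp_right .of_comm

theorem Ru.p4 (h : Ru ⊤ M) (h0 : 𝐎 {2}ᶜ (⊤ : Subgroup G) = ⊥) (nc : ∀ t : G, Iv t → 𝐂₁ t ≠ ⊤) (hS : Syl 2 S ⊤)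
    (r : 2 < pRank 2 S) (hM : M ≠ ⊤) (SM : S ≤ M) : P4 G (G ⧸ M) := by
  have fix : ∀ {x g : G}, x • g • pt M = g • pt M ↔ g⁻¹ * x * g ∈ M := fun {x g} => by
    rw [← smul_pt, mul_smul, mul_smul, inv_smul_eq_iff]
  obtain ⟨g, -, hg⟩ := SetLike.exists_of_lt hM.lt_top
  refine ⟨quot_trans, ⟨_, _, mk_ne_pt.2 hg⟩, fun {s t} i j n c p q h1 h2 h3 h4 => ?_, fun R k => ?_,
    r.trans_le (pRank_mono _ le_top), h0, nc⟩
  · obtain ⟨g, rfl⟩ := quot_trans (pt M) p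
    obtain ⟨f, rfl⟩ := quot_trans (pt M) q
    have := h _ _ (f⁻¹ * g) trivial (i.conj' g).orderOf (j.conj' g).orderOf (by simp [mul_assoc, ← mul_assoc s, c])
      (by simpa using n) (fix.1 h1) (fix.1 h2) (by simpa [mul_assoc] using fix.1 h3)
      (by simpa [mul_assoc] using fix.1 h4)
    rwa [← smul_pt, mul_smul, inv_smul_eq_iff] at this
  · obtain ⟨g, -, e⟩ := hS.syl_le_cj le_top k
    exact ⟨g • pt M, fun x hx => fix.2 (SM (mem_cj.1 (e hx)))⟩

end CF.Rt.TC
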